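import Mathlib
import Cfsg.Prelude.Def_LocalStructure

set_option autoImplicit false

namespace Cfsg.Agent.Lib.Helper55

open Cfsg

section conj

variable {G : Type*} [Group G]

/-- conjugate of a subgroup, in the form used by the statements -/
abbrev cj (g : G) (Q : Subgroup G) : Subgroup G := Q.map (MulAut.conj g).toMonoidHom

theorem mem_cj {g x : G} {Q : Subgroup G} : x ∈ cj g Q ↔ g⁻¹ * x * g ∈ Q := by
  constructor
  · rintro ⟨y, hy, rfl⟩
    simpa [MulAut.conj_apply, mul_assoc] using hy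
  · intro h
    refine ⟨g⁻¹ * x * g, h, ?_⟩
    simp [MulAut.conj_apply, mul_assoc]

theorem conj_mem_cj {g x : G} {Q : Subgroup G} (hx : x ∈ Q) : g * x * g⁻¹ ∈ cj g Q :=
  ⟨x, hx, by simp [MulAut.conj_apply]⟩

theorem cj_one (Q : Subgroup G) : cj (1 : G) Q = Q := by
  ext x; rw [mem_cj]; simp

theorem cj_mul (g h : G) (Q : Subgroup G) : cj (g * h) Q = cj g (cj h Q) := by
  ext x; rw [mem_cj, mem_cj, mem_cj]; simp [mul_assoc]

theorem cj_inv_cj (g : G) (Q : Subgroup G) : cj g⁻¹ (cj g Q) = Q := by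
  rw [← cj_mul]; simp [cj_one]

theorem cj_cj_inv (g : G) (Q : Subgroup G) : cj g (cj g⁻¹ Q) = Q := by
  rw [← cj_mul]; simp [cj_one]

theorem cj_mono {g : G} {Q R : Subgroup G} (h : Q ≤ R) : cj g Q ≤ cj g R :=
  Subgroup.map_mono h

theorem cj_le_iff {g : G} {Q R : Subgroup G} : cj g Q ≤ R ↔ Q ≤ cj g⁻¹ R := by
  constructor
  · intro h; have := cj_mono (g := g⁻¹) h; rwa [cj_inv_cj] at this
  · intro h; have := cj_mono (g := g) h; rwa [cj_cj_inv] at this

theorem le_cj_iff {g : G} {Q R : Subgroup G} : Q ≤ cj g R ↔ cj g⁻¹ Q ≤ R := by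
  rw [cj_le_iff, inv_inv]

theorem cj_eq_self_iff {g : G} {Q : Subgroup G} :
    cj g Q = Q ↔ g ∈ Subgroup.normalizer (Q : Set G) := by
  rw [Subgroup.mem_normalizer_iff_map_conj_eq]
  rfl

theorem cj_eq_self_of_mem {g : G} {Q : Subgroup G} (hg : g ∈ Q) : cj g Q = Q :=
  cj_eq_self_iff.mpr (Subgroup.le_normalizer hg)

theorem cj_bot (g : G) : cj g (⊥ : Subgroup G) = ⊥ := Subgroup.map_bot _

theorem cj_ne_bot {g : G} {Q : Subgroup G} (h : Q ≠ ⊥) : cj g Q ≠ ⊥ := by
  intro h'
  apply h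
  have := congrArg (cj g⁻¹) h'
  rwa [cj_inv_cj, cj_bot] at this

theorem cj_inf (g : G) (Q R : Subgroup G) : cj g (Q ⊓ R) = cj g Q ⊓ cj g R := by
  ext x; rw [Subgroup.mem_inf, mem_cj, mem_cj, mem_cj, Subgroup.mem_inf]

theorem cj_centralizer (g : G) (Q : Subgroup G) :
    cj g (Subgroup.centralizer (Q : Set G)) = Subgroup.centralizer ((cj g Q : Subgroup G) : Set G) := by
  ext x
  rw [mem_cj, Subgroup.mem_centralizer_iff, Subgroup.mem_centralizer_iff]
  constructor
  · intro h y hy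
    have hy' : g⁻¹ * y * g ∈ Q := mem_cj.mp hy
    have := h _ hy'
    have e : y * x = g * ((g⁻¹ * y * g) * (g⁻¹ * x * g)) * g⁻¹ := by group
    rw [e, this]; group
  · intro h y hy
    have hy' : g * y * g⁻¹ ∈ cj g Q := conj_mem_cj hy
    have := h _ hy'
    have e : y * (g⁻¹ * x * g) = g⁻¹ * ((g * y * g⁻¹) * x) * g := by group
    rw [e, this]; group

theorem cj_normalizer (g : G) (Q : Subgroup G) :
    cj g (Subgroup.normalizer (Q : Set G)) = Subgroup.normalizer ((cj g Q : Subgroup G) : Set G) := by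
  ext x
  rw [mem_cj, ← cj_eq_self_iff, ← cj_eq_self_iff]
  constructor
  · intro h
    have : cj g (cj (g⁻¹ * x * g) Q) = cj g Q := by rw [h]
    rw [← cj_mul] at this
    rw [← cj_mul]
    convert this using 2
    group
  · intro h
    rw [← cj_mul] at h
    have : cj g⁻¹ (cj (x * g) Q) = cj g⁻¹ (cj g Q) := by rw [h]
    rw [← cj_mul, cj_inv_cj] at this
    convert this using 2
    group

theorem isPGroup_cj {p : ℕ} {g : G} {Q : Subgroup G} (h : IsPGroup p Q) : IsPGroup p (cj g Q) :=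
  h.map _

theorem card_cj (g : G) (Q : Subgroup G) : Nat.card (cj g Q) = Nat.card Q := by
  have : Function.Injective (MulAut.conj g).toMonoidHom := (MulAut.conj g).injective
  exact Nat.card_congr (Subgroup.equivMapOfInjective Q _ this).symm.toEquiv

end conj

section pcore

variable {G : Type*} [Group G] {p : ℕ}

theorem pCore_normal : (pCore p G).Normal := by
  unfold pCore
  constructor
  intro n hn g
  have : ∀ g : G, (sSup {N : Subgroup G | N.Normal ∧ IsPGroup p N}).map (MulAut.conj g).toMonoidHom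
      ≤ sSup {N : Subgroup G | N.Normal ∧ IsPGroup p N} := by
    intro g
    rw [Subgroup.map_le_iff_le_comap]
    apply sSup_le
    intro N hN
    rw [← Subgroup.map_le_iff_le_comap]
    have : N.map (MulAut.conj g).toMonoidHom = N := by
      have := hN.1
      exact cj_eq_self_iff.mpr (by rw [Subgroup.normalizer_eq_top]; trivial)
    rw [this]
    exact le_sSup hN
  exact this g ⟨n, hn, by simp [MulAut.conj_apply]⟩

instance : (pCore p G).Normal := pCore_normal

theorem le_pCore {N : Subgroup G} (hN : N.Normal) (hp : IsPGroup p N) : N ≤ pCore p G :=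
  le_sSup ⟨hN, hp⟩

theorem pCore_le_sylow [Fact p.Prime] (P : Sylow p G) : pCore p G ≤ P := by
  unfold pCore
  apply sSup_le
  rintro N ⟨hN, hp⟩
  exact hp.le_sylow_of_normal P

theorem isPGroup_pCore [Fact p.Prime] : IsPGroup p (pCore p G) := by
  obtain ⟨P⟩ : Nonempty (Sylow p G) := inferInstance
  exact P.isPGroup'.to_le (pCore_le_sylow P)

end pcore

end Cfsg.Agent.Lib.Helper55
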