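import Cfsg.Agent.Lib.Helper55.ElemAb

set_option autoImplicit false

namespace Cfsg.Agent.Lib.Helper55

open Cfsg

section

variable {G : Type*} [Group G] {p : ℕ}

/-- `T` is a maximal `p`-subgroup of the subgroup `K` (a Sylow `p`-subgroup of `K`, inside `G`) -/
def IsSylowIn (p : ℕ) (K T : Subgroup G) : Prop :=
  T ≤ K ∧ IsPGroup p T ∧ ∀ T' : Subgroup G, T' ≤ K → IsPGroup p T' → T ≤ T' → T' = T

theorem isSylowIn_of_sylow {K : Subgroup G} (P : Sylow p K) :
    IsSylowIn p K ((P : Subgroup K).map K.subtype) := by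
  refine ⟨Subgroup.map_subtype_le _, P.isPGroup'.map _, ?_⟩
  intro T' hT'K hT'p hle
  have h1 : IsPGroup p (T'.subgroupOf K) := hT'p.comap_subtype
  have h2 : (P : Subgroup K) ≤ T'.subgroupOf K := by
    intro x hx
    rw [Subgroup.mem_subgroupOf]
    exact hle ⟨x, hx, rfl⟩
  have h3 := P.is_maximal' h1 h2
  rw [← h3, Subgroup.map_subgroupOf_eq_of_le hT'K]

/-- the Sylow subgroup of `↥K` attached to a maximal `p`-subgroup of `K` -/
def IsSylowIn.toSylow {K T : Subgroup G} (h : IsSylowIn p K T) : Sylow p K where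
  toSubgroup := T.subgroupOf K
  isPGroup' := h.2.1.comap_subtype
  is_maximal' := by
    intro Q hQ hle
    have hQK : Q.map K.subtype ≤ K := Subgroup.map_subtype_le _
    have h1 : T ≤ Q.map K.subtype := by
      intro x hx
      have hxK : x ∈ K := h.1 hx
      have : (⟨x, hxK⟩ : K) ∈ T.subgroupOf K := by rw [Subgroup.mem_subgroupOf]; exact hx
      exact ⟨⟨x, hxK⟩, hle this, rfl⟩
    have h2 := h.2.2 _ hQK (hQ.map _) h1
    ext x
    rw [Subgroup.mem_subgroupOf, ← h2]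
    constructor
    · intro hx; exact ⟨x, hx, rfl⟩
    · rintro ⟨y, hy, hyx⟩
      have : y = x := Subtype.ext hyx
      rwa [← this]

theorem IsSylowIn.coe_toSylow {K T : Subgroup G} (h : IsSylowIn p K T) :
    ((h.toSylow : Sylow p K) : Subgroup K) = T.subgroupOf K := rfl

theorem IsSylowIn.map_toSylow {K T : Subgroup G} (h : IsSylowIn p K T) :
    ((h.toSylow : Sylow p K) : Subgroup K).map K.subtype = T := by
  rw [h.coe_toSylow, Subgroup.map_subgroupOf_eq_of_le h.1]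

theorem isSylowIn_cj {K T : Subgroup G} (h : IsSylowIn p K T) (g : G) :
    IsSylowIn p (cj g K) (cj g T) := by
  refine ⟨cj_mono h.1, isPGroup_cj h.2.1, ?_⟩
  intro T' hT'K hT'p hle
  rw [le_cj_iff] at hT'K
  rw [cj_le_iff] at hle
  have := h.2.2 (cj g⁻¹ T') hT'K (isPGroup_cj hT'p) hle
  rw [← this, cj_cj_inv]

theorem isSylowIn_of_sylow_le (P : Sylow p G) {K : Subgroup G} (hPK : (P : Subgroup G) ≤ K) :
    IsSylowIn p K (P : Subgroup G) :=
  ⟨hPK, P.isPGroup', fun T' _ hT'p hle => P.is_maximal' hT'p hle⟩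

variable [Finite G] [Fact p.Prime]

theorem exists_isSylowIn_ge {K Z : Subgroup G} (hZK : Z ≤ K) (hZ : IsPGroup p Z) :
    ∃ T, IsSylowIn p K T ∧ Z ≤ T := by
  obtain ⟨P, hP⟩ := (hZ.comap_subtype : IsPGroup p (Z.subgroupOf K)).exists_le_sylow
  refine ⟨_, isSylowIn_of_sylow P, ?_⟩
  intro x hx
  have hxK : x ∈ K := hZK hx
  have : (⟨x, hxK⟩ : K) ∈ Z.subgroupOf K := by rw [Subgroup.mem_subgroupOf]; exact hx
  exact ⟨⟨x, hxK⟩, hP this, rfl⟩

theorem IsSylowIn.exists_conj {K T₁ T₂ : Subgroup G} (h₁ : IsSylowIn p K T₁)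
    (h₂ : IsSylowIn p K T₂) : ∃ k ∈ K, cj k T₁ = T₂ := by
  obtain ⟨k, hk⟩ := MulAction.exists_smul_eq K h₁.toSylow h₂.toSylow
  refine ⟨k, k.2, ?_⟩
  have h3 : ((k • h₁.toSylow : Sylow p K) : Subgroup K) = (h₂.toSylow : Subgroup K) := by rw [hk]
  rw [h₂.coe_toSylow] at h3
  have h4 : ((k • h₁.toSylow : Sylow p K) : Subgroup K) = (cj (k : G) T₁).subgroupOf K := by
    rw [← subgroupOf_map_conj, ← h₁.coe_toSylow]
    exact coe_smul_sylow k h₁.toSylow
  rw [h4] at h3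
  have hle : cj (k : G) T₁ ≤ K := by
    have : cj (k : G) K = K := cj_eq_self_of_mem k.2
    exact (cj_mono h₁.1).trans this.le
  have := congrArg (Subgroup.map K.subtype) h3
  rwa [Subgroup.map_subgroupOf_eq_of_le hle, Subgroup.map_subgroupOf_eq_of_le h₂.1] at this

/-- a `p`-subgroup of `K` is `K`-conjugate into any given Sylow `p`-subgroup of `K` -/
theorem IsSylowIn.exists_conj_le {K T Z : Subgroup G} (h : IsSylowIn p K T) (hZK : Z ≤ K)
    (hZ : IsPGroup p Z) : ∃ k ∈ K, cj k Z ≤ T := by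
  obtain ⟨T', hT', hZT'⟩ := exists_isSylowIn_ge hZK hZ
  obtain ⟨k, hk, hkT⟩ := hT'.exists_conj h
  exact ⟨k, hk, (cj_mono hZT').trans hkT.le⟩

/-- a normal `p`-subgroup of `K` lies in every Sylow `p`-subgroup of `K` -/
theorem IsSylowIn.normal_le {K T Z : Subgroup G} (h : IsSylowIn p K T) (hZK : Z ≤ K)
    (hZ : IsPGroup p Z) (hn : K ≤ Subgroup.normalizer (Z : Set G)) : Z ≤ T := by
  obtain ⟨k, hk, hkZ⟩ := h.exists_conj_le hZK hZ
  have : cj k Z = Z := cj_eq_self_iff.mpr (hn hk)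
  rwa [this] at hkZ

/-- normalizers grow: a `p`-group `T` properly containing `R` has an element of `N_T(R) \ R` -/
theorem exists_mem_normalizer_not_mem {R T : Subgroup G} (hT : IsPGroup p T) (hRT : R < T) :
    ∃ s ∈ T, s ∈ Subgroup.normalizer (R : Set G) ∧ s ∉ R := by
  have : Group.IsNilpotent T := hT.isNilpotent
  have hnc : NormalizerCondition T := normalizerCondition_of_isNilpotent
  have hlt : R.subgroupOf T < ⊤ := by
    rw [lt_top_iff_ne_top]
    intro h
    rw [Subgroup.subgroupOf_eq_top] at h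
    exact hRT.not_ge h
  have h2 := hnc _ hlt
  obtain ⟨s, hs, hsR⟩ := SetLike.exists_of_lt h2
  refine ⟨s, s.2, ?_, ?_⟩
  · rw [← Subgroup.subgroupOf_normalizer_eq hRT.le] at hs
    exact hs
  · intro h
    apply hsR
    rw [Subgroup.mem_subgroupOf]; exact h

/-- If `R` is Sylow in `K` and `T ⊇ R` is a `p`-subgroup of `G` with `N_T(R) ≤ K`, then `T = R`. -/
theorem IsSylowIn.eq_of_normalizer_le {K R T : Subgroup G} (h : IsSylowIn p K R)
    (hT : IsPGroup p T) (hRT : R ≤ T) (hN : T ⊓ Subgroup.normalizer (R : Set G) ≤ K) : T = R := by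
  by_contra hne
  have hlt : R < T := lt_of_le_of_ne hRT (fun e => hne e.symm)
  obtain ⟨s, hsT, hsN, hsR⟩ := exists_mem_normalizer_not_mem hT hlt
  have hsK : s ∈ K := hN ⟨hsT, hsN⟩
  have h1 : R ⊔ Subgroup.zpowers s ≤ T := sup_le hRT (by rw [Subgroup.zpowers_le]; exact hsT)
  have h2 : R ⊔ Subgroup.zpowers s ≤ K := sup_le h.1 (by rw [Subgroup.zpowers_le]; exact hsK)
  have h3 := h.2.2 _ h2 (hT.to_le h1) le_sup_left
  apply hsR
  rw [← h3]
  exact (le_sup_right : Subgroup.zpowers s ≤ R ⊔ Subgroup.zpowers s) (Subgroup.mem_zpowers s)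

end

end Cfsg.Agent.Lib.Helper55
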