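import Cfsg.Agent.Lib.Helper55.SylowIn
import Cfsg.Agent.Lib.Helper29.HyperplaneInt

set_option autoImplicit false

namespace Cfsg.Agent.Lib.Helper55

open Cfsg

section

variable {G : Type*} [Group G]

theorem isPGroup_of_pow_eq_one {p : ℕ} {A : Subgroup G} (hAp : ∀ a ∈ A, a ^ p = 1) :
    IsPGroup p A := by
  intro a
  refine ⟨1, Subtype.ext ?_⟩
  simpa using hAp a.1 a.2

/-- the conjugation action of `A ≤ N_G(N)` on the Sylow `q`-subgroups of `N` -/
@[reducible] def sylowInAction (q : ℕ) (A N : Subgroup G) (hAN : A ≤ Subgroup.normalizer (N : Set G)) :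
    MulAction A {T : Subgroup G // IsSylowIn q N T} where
  smul a T := ⟨cj (a : G) T.1, by
    have h := isSylowIn_cj T.2 (a : G)
    rwa [cj_eq_self_iff.mpr (hAN a.2)] at h⟩
  one_smul T := Subtype.ext (cj_one _)
  mul_smul a b T := Subtype.ext (cj_mul _ _ _)

/-- Sylow subgroups of `N` as subgroups of the ambient group correspond to `Sylow q N`. -/
def sylowInEquiv (q : ℕ) (N : Subgroup G) : {T : Subgroup G // IsSylowIn q N T} ≃ Sylow q N where
  toFun T := T.2.toSylow
  invFun P := ⟨(P : Subgroup N).map N.subtype, isSylowIn_of_sylow P⟩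
  left_inv T := Subtype.ext T.2.map_toSylow
  right_inv P := by
    apply Sylow.ext
    rw [IsSylowIn.coe_toSylow]
    exact Subgroup.comap_map_eq_self_of_injective N.subtype_injective _

variable [Finite G] {p : ℕ} [Fact p.Prime]

/-- a `p`-group `A` normalizing the `p'`-group `N` normalizes some Sylow `q`-subgroup of `N` -/
theorem exists_invariant_isSylowIn {A N : Subgroup G} (hA : IsPGroup p A)
    (hAN : A ≤ Subgroup.normalizer (N : Set G)) (hN : (Nat.card N).Coprime p) (q : ℕ)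
    [Fact q.Prime] : ∃ T, IsSylowIn q N T ∧ A ≤ Subgroup.normalizer (T : Set G) := by
  let _ := sylowInAction q A N hAN
  have hcard : ¬ p ∣ Nat.card {T : Subgroup G // IsSylowIn q N T} := by
    rw [Nat.card_congr (sylowInEquiv q N)]
    intro hdvd
    obtain ⟨P⟩ : Nonempty (Sylow q N) := inferInstance
    have h1 : Nat.card (Sylow q N) ∣ Nat.card N :=
      (Sylow.card_dvd_index P).trans (Subgroup.index_dvd_card _)
    have h2 : p ∣ Nat.card N := hdvd.trans h1
    have h3 : p ∣ Nat.gcd (Nat.card N) p := Nat.dvd_gcd h2 dvd_rfl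
    rw [hN] at h3
    exact (Fact.out : p.Prime).one_lt.ne' (Nat.dvd_one.mp h3)
  obtain ⟨T, hT⟩ := hA.nonempty_fixed_point_of_prime_not_dvd_card
    {T : Subgroup G // IsSylowIn q N T} hcard
  refine ⟨T.1, T.2, ?_⟩
  intro a ha
  rw [← cj_eq_self_iff]
  exact congrArg Subtype.val (hT ⟨a, ha⟩)

/-- the `q`-group case of the generation lemma -/
theorem qgroup_le_of_centralizers_le {q : ℕ} [Fact q.Prime] (hpq : p ≠ q) {A Q H : Subgroup G}
    (hAc : ∀ a ∈ A, ∀ b ∈ A, a * b = b * a) (hAp : ∀ a ∈ A, a ^ p = 1)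
    (hA2 : p ^ 2 ≤ Nat.card A) (hQ : IsPGroup q Q)
    (hAQ : A ≤ Subgroup.normalizer (Q : Set G)) (hAH : A ≤ H)
    (hC : ∀ a ∈ A, a ≠ 1 → Q ⊓ Subgroup.centralizer {a} ≤ H) : Q ≤ H := by
  by_contra hne
  have hp : p.Prime := Fact.out
  set M := Q ⊓ H with hM
  have hMQ : M ≠ Q := by
    intro e
    apply hne
    rw [← e]
    exact inf_le_right
  have hAM : A ≤ Subgroup.normalizer (M : Set G) :=
    (le_inf hAQ (hAH.trans Subgroup.le_normalizer)).trans
      Subgroup.inf_normalizer_le_normalizer_inf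
  have hANN : A ≤ Subgroup.normalizer ((Subgroup.normalizer (M : Set G) : Subgroup G) : Set G) :=
    hAM.trans Subgroup.le_normalizer
  have hK : Subgroup.normalizer (M : Set G) ⊓ Q ≠ M := by
    intro e
    have hlt : M < Q := lt_of_le_of_ne inf_le_left hMQ
    obtain ⟨s, hsQ, hsN, hsM⟩ := exists_mem_normalizer_not_mem hQ hlt
    apply hsM
    rw [← e]
    exact ⟨hsN, hsQ⟩
  obtain ⟨B, hBA, hBc, x, hxK, hxM, hxB⟩ :=
    Cfsg.Agent.Lib.Helper29.exists_hyperplane_fixed_section p q hpq A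
      (Subgroup.normalizer (M : Set G) ⊓ Q) M hAc hAp
      (hQ.to_le inf_le_right) (le_inf Subgroup.le_normalizer inf_le_left) inf_le_left
      hK.symm ((le_inf hANN hAQ).trans Subgroup.inf_normalizer_le_normalizer_inf) hAM
  -- `B` is nontrivial
  have hB1 : 1 < Nat.card B := by
    by_contra hle
    have hle : Nat.card B ≤ 1 := not_lt.mp hle
    have h1 : p ^ 2 ≤ p * 1 := hA2.trans (hBc.trans (Nat.mul_le_mul_left _ hle))
    have h2 : 2 ≤ p := hp.two_le
    nlinarith
  have hnt : Nontrivial B := Finite.one_lt_card_iff_nontrivial.mp hB1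
  obtain ⟨⟨b, hbB⟩, hb1⟩ := exists_ne (1 : B)
  have hb1' : b ≠ 1 := fun h => hb1 (Subtype.ext h)
  have hxC : x ∈ Subgroup.centralizer ({b} : Set G) := by
    rw [Subgroup.mem_centralizer_iff]
    intro y hy
    rw [Set.mem_singleton_iff] at hy
    subst hy
    have hx := hxB y hbB
    calc y * x = (y * x * y⁻¹) * y := by group
      _ = x * y := by rw [hx]
  have hxH : x ∈ H := hC b (hBA hbB) hb1' ⟨hxK.2, hxC⟩
  exact hxM ⟨hxK.2, hxH⟩

/-- **Generation lemma for coprime action** (internal form): let `A` be an elementary abelian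
`p`-subgroup of order at least `p ^ 2` normalizing the `p'`-subgroup `N`. If `H` contains `A` and all
the centralizers `C_N(a)`, `a ∈ A` nontrivial, then `N ≤ H`. -/
theorem le_of_centralizers_le {A N H : Subgroup G}
    (hAc : ∀ a ∈ A, ∀ b ∈ A, a * b = b * a) (hAp : ∀ a ∈ A, a ^ p = 1)
    (hA2 : p ^ 2 ≤ Nat.card A) (hN : (Nat.card N).Coprime p)
    (hAN : A ≤ Subgroup.normalizer (N : Set G)) (hAH : A ≤ H)
    (hC : ∀ a ∈ A, a ≠ 1 → N ⊓ Subgroup.centralizer {a} ≤ H) : N ≤ H := by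
  have hp : p.Prime := Fact.out
  have hA : IsPGroup p A := isPGroup_of_pow_eq_one hAp
  have hdvd : Nat.card N ∣ Nat.card ↥(N ⊓ H) := by
    rw [Nat.dvd_iff_prime_pow_dvd_dvd]
    intro q k hq hqk
    have : Fact q.Prime := ⟨hq⟩
    rcases Nat.eq_zero_or_pos k with hk | hk
    · rw [hk, pow_zero]; exact one_dvd _
    have hqN : q ∣ Nat.card N := (dvd_pow_self q hk.ne').trans hqk
    have hpq : p ≠ q := by
      rintro rfl
      have h3 : p ∣ Nat.gcd (Nat.card N) p := Nat.dvd_gcd hqN dvd_rfl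
      rw [hN] at h3
      exact hp.one_lt.ne' (Nat.dvd_one.mp h3)
    obtain ⟨T, hT, hAT⟩ := exists_invariant_isSylowIn hA hAN hN q
    have hTH : T ≤ H :=
      qgroup_le_of_centralizers_le hpq hAc hAp hA2 hT.2.1 hAT hAH
        (fun a ha ha1 => (inf_le_inf_right _ hT.1).trans (hC a ha ha1))
    have h1 : q ^ k ∣ Nat.card (hT.toSylow : Sylow q N) :=
      (hT.toSylow).pow_dvd_card_of_pow_dvd_card hqk
    have h2 : Nat.card (hT.toSylow : Sylow q N) = Nat.card T := by
      show Nat.card (T.subgroupOf N) = Nat.card T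
      exact Nat.card_congr (Subgroup.subgroupOfEquivOfLe hT.1).toEquiv
    rw [h2] at h1
    exact h1.trans (Subgroup.card_dvd_of_le (le_inf hT.1 hTH))
  have hle : Nat.card N ≤ Nat.card ↥(N ⊓ H) := Nat.le_of_dvd Nat.card_pos hdvd
  have := Subgroup.eq_of_le_of_card_ge (inf_le_left : N ⊓ H ≤ N) hle
  rw [← this]
  exact inf_le_right

end

end Cfsg.Agent.Lib.Helper55
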