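import Cfsg.Agent.Lib.Helper55.Uniq
import Cfsg.Agent.Lib.Helper31.Transitivity
import Cfsg.Agent.Lib.Helper31.TransRank
import Cfsg.Agent.Lib.Helper31.BenderFit
import Cfsg.Agent.Lib.Helper97.OddPGroup
import Cfsg.Agent.S1450
import Cfsg.Agent.S1457
import Cfsg.Agent.S1452
import Cfsg.Agent.S1393
import Cfsg.Agent.S1395
import Cfsg.Agent.S1396

/-!
# The uniqueness theorem of Bender–Glauberman, Lemma 9.1

In a minimal simple group of odd order, let `B` be a nontrivial `p`-subgroup of the maximal subgroup `M`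
such that every `B`-invariant `p'`-subgroup of `G` lies in `M`.  Then `M` is the only maximal subgroup
containing `B`.
-/

set_option autoImplicit false
set_option linter.unusedSectionVars false
set_option linter.style.haveILetI false
set_option linter.unusedVariables false

namespace Cfsg.Agent.Lib.Helper55

open Cfsg

section minsimple

variable {G : Type*} [Group G] [Finite G]

theorem ms_solvable (hG : IsMinSimpleOddOrder G) {H : Subgroup G} (hH : H ≠ ⊤) :
    Group.IsSolvable H := hG.2.2.2 H hH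

theorem ms_odd (hG : IsMinSimpleOddOrder G) (H : Subgroup G) : Odd (Nat.card H) :=
  Odd.of_dvd_nat hG.1 (Subgroup.card_subgroup_dvd_card H)

theorem ms_pgroup_ne_top (hG : IsMinSimpleOddOrder G) {p : ℕ} [Fact p.Prime] {R : Subgroup G}
    (hR : IsPGroup p R) : R ≠ ⊤ := by
  rintro rfl
  haveI : IsSimpleGroup G := hG.2.1
  have h1 : IsPGroup p G := by
    intro g
    obtain ⟨k, hk⟩ := hR ⟨g, Subgroup.mem_top g⟩
    exact ⟨k, by simpa using congrArg Subtype.val hk⟩
  haveI : Group.IsNilpotent G := h1.isNilpotent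
  have h2 : Group.IsSolvable G := inferInstance
  have h3 := IsSimpleGroup.comm_iff_isSolvable.mpr h2
  exact hG.2.2.1 ⟨⟨h3⟩⟩

theorem ms_prime_ne_two (hG : IsMinSimpleOddOrder G) {p : ℕ} [Fact p.Prime] {R : Subgroup G}
    (hR : IsPGroup p R) (hR1 : R ≠ ⊥) : p ≠ 2 := by
  rintro rfl
  have : Nontrivial R := (Subgroup.nontrivial_iff_ne_bot R).mpr hR1
  obtain ⟨n, hn0, hn⟩ := hR.nontrivial_iff_card.mp inferInstance
  have h1 : 2 ∣ Nat.card R := hn.symm ▸ dvd_pow_self _ (ne_of_gt hn0)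
  have h2 := ms_odd hG R
  rw [Nat.odd_iff] at h2
  omega

theorem ms_prime_dvd_card (hG : IsMinSimpleOddOrder G) {p : ℕ} [Fact p.Prime] {R : Subgroup G}
    (hR : IsPGroup p R) (hR1 : R ≠ ⊥) : p ∣ Nat.card R := by
  have : Nontrivial R := (Subgroup.nontrivial_iff_ne_bot R).mpr hR1
  obtain ⟨n, hn0, hn⟩ := hR.nontrivial_iff_card.mp inferInstance
  exact hn.symm ▸ dvd_pow_self _ (ne_of_gt hn0)

theorem ms_normalizer_ne_top (hG : IsMinSimpleOddOrder G) {D : Subgroup G} (h1 : D ≠ ⊥)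
    (h2 : D ≠ ⊤) : Subgroup.normalizer (D : Set G) ≠ ⊤ := by
  haveI : IsSimpleGroup G := hG.2.1
  intro h
  rw [Subgroup.normalizer_eq_top_iff] at h
  rcases h.eq_bot_or_eq_top with h3 | h3
  · exact h1 h3
  · exact h2 h3

theorem ms_normalizer_eq (hG : IsMinSimpleOddOrder G) {M X : Subgroup G} (hM : IsCoatom M)
    (hX1 : X ≠ ⊥) (hXM : X ≤ M) (hMX : M ≤ Subgroup.normalizer (X : Set G)) :
    Subgroup.normalizer (X : Set G) = M := by
  have hXtop : X ≠ ⊤ := by
    rintro rfl
    exact hM.1 (top_le_iff.mp hXM)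
  rcases hM.le_iff.mp hMX with h | h
  · exact absurd h (ms_normalizer_ne_top hG hX1 hXtop)
  · exact h

theorem ms_exists_coatom_ge {H : Subgroup G} (hH : H ≠ ⊤) : ∃ L : Subgroup G, IsCoatom L ∧ H ≤ L := by
  rcases eq_top_or_exists_le_coatom H with h | h
  · exact absurd h hH
  · exact h

theorem ms_coatom_eq_of_le {M H : Subgroup G} (hM : IsCoatom M) (hH : IsCoatom H) (h : H ≤ M) :
    H = M := by
  rcases hH.le_iff.mp h with h1 | h1
  · exact absurd h1 hM.1
  · exact h1.symm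

end minsimple

section uniq

variable {G : Type*} [Group G] [Finite G] {p : ℕ} [Fact p.Prime]

/-- Claim 1: the normalizer of a Sylow `p`-subgroup of `M` containing `B` lies in `M`. -/
theorem uniq_claim1 (hG : IsMinSimpleOddOrder G) {M B : Subgroup G} (hM : IsCoatom M)
    (hBp : IsPGroup p B) (hB1 : B ≠ ⊥)
    (hb : ∀ Y : Subgroup G, (Nat.card Y).Coprime p → B ≤ Subgroup.normalizer (Y : Set G) → Y ≤ M)
    {R : Subgroup G} (hR : IsSylowIn p M R) (hBR : B ≤ R) :
    Subgroup.normalizer (R : Set G) ≤ M := by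
  have hMs : Group.IsSolvable M := ms_solvable hG hM.1
  have hR1 : R ≠ ⊥ := fun h => hB1 (eq_bot_iff.mpr (h ▸ hBR))
  have hp2 : p ≠ 2 := ms_prime_ne_two hG hBp hB1
  by_cases hK : opc p M = ⊥
  · have h1 := le_opc_sup_normalizer_cen_pup hp2 hMs (ms_odd hG M) hR
    rw [hK, bot_sup_eq] at h1
    have hT1 := cen_pup_ne_bot hR.2.1 hR1
    have hTM : Cfsg.Agent.Lib.Helper33.cen (Cfsg.Agent.Lib.Helper33.pup R) ≤ M :=
      (cen_pup_le R).trans hR.1
    have h2 := ms_normalizer_eq hG hM hT1 hTM h1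
    rw [← h2]
    exact normalizer_le_normalizer_cen_pup R
  · have hN : Subgroup.normalizer ((opc p M : Subgroup G) : Set G) = M :=
      ms_normalizer_eq hG hM hK (opc_le p M) (le_normalizer_opc p M)
    intro g hg
    have hgR : cj g R = R := cj_eq_self_iff.mpr hg
    have hRN : R ≤ Subgroup.normalizer ((cj g (opc p M) : Subgroup G) : Set G) := by
      calc R = cj g R := hgR.symm
        _ ≤ cj g (Subgroup.normalizer ((opc p M : Subgroup G) : Set G)) :=
            cj_mono (hR.1.trans (le_normalizer_opc p M))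
        _ = Subgroup.normalizer ((cj g (opc p M) : Subgroup G) : Set G) := cj_normalizer g _
    have hcop : (Nat.card (cj g (opc p M))).Coprime p := by
      rw [card_cj]; exact card_opc_coprime M
    have h1 : cj g (opc p M) ≤ M := hb _ hcop (hBR.trans hRN)
    have h2 : cj g (opc p M) ≤ opc p M := le_opc_of_isSylowIn_normalizes hMs hR h1 hcop hRN
    have h3 : cj g (opc p M) = opc p M := Subgroup.eq_of_le_of_card_ge h2 (by rw [card_cj])
    rw [← hN]
    exact cj_eq_self_iff.mp h3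

/-- a Sylow `p`-subgroup of rank at most two of a solvable group `H` of odd order lies in `O_{p',p}(H)` -/
theorem le_oppc_of_pRankLE {H R : Subgroup G} (hs : Group.IsSolvable H) (hodd : Odd (Nat.card H))
    (hR : IsSylowIn p H R) (hR1 : R ≠ ⊥) (hr : PRankLE p 2 ↥R) : R ≤ oppc p H := by
  have hrH : PRankLE p 2 ↥H := pRankLE_of_isSylowIn hR hr
  have hpH : p ∣ Nat.card H := by
    have : Nontrivial R := (Subgroup.nontrivial_iff_ne_bot R).mpr hR1
    obtain ⟨n, hn0, hn⟩ := hR.2.1.nontrivial_iff_card.mp inferInstance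
    have h1 : p ∣ Nat.card R := hn.symm ▸ dvd_pow_self _ (ne_of_gt hn0)
    exact h1.trans (Subgroup.card_dvd_of_le hR.1)
  have h := (Cfsg.Agent.S1450.result hodd p hpH hrH).2.2.2.2.2
  have h1 : ((hR.toSylow : Sylow p H) : Subgroup H) ≤ pPrimePCore p ↥H := by
    rw [← Subgroup.relIndex_eq_one]
    have h2 : (pPrimePCore p ↥H).relIndex ((hR.toSylow : Sylow p H) : Subgroup H) ∣
        (pPrimePCore p ↥H).index := Subgroup.relIndex_dvd_index_of_normal _ _
    have h3 : (pPrimePCore p ↥H).relIndex ((hR.toSylow : Sylow p H) : Subgroup H) ∣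
        Nat.card ((hR.toSylow : Sylow p H) : Subgroup H) := Subgroup.relIndex_dvd_card _ _
    obtain ⟨n, hn⟩ := IsPGroup.iff_card.mp (hR.toSylow).isPGroup'
    rw [hn] at h3
    have hcop : ((pPrimePCore p ↥H).relIndex ((hR.toSylow : Sylow p H) : Subgroup H)).Coprime
        (p ^ n) := Nat.Coprime.pow_right n (Nat.Coprime.coprime_dvd_left h2 h)
    exact Nat.Coprime.eq_one_of_dvd hcop h3
  have h2 := Subgroup.map_mono (f := H.subtype) h1
  rwa [hR.map_toSylow] at h2

/-- an abelian normal subgroup of a Sylow `p`-subgroup of a solvable group `H` of odd order lies in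
`O_{p',p}(H)` -/
theorem le_oppc_of_abelian_normal {H R A : Subgroup G} (hs : Group.IsSolvable H)
    (hodd : Odd (Nat.card H)) (hR : IsSylowIn p H R) (hAR : A ≤ R) (hAc : IsMulCommutative A)
    (hRA : R ≤ Subgroup.normalizer (A : Set G)) : A ≤ oppc p H := by
  have hAH : A ≤ H := hAR.trans hR.1
  have h1 : A.subgroupOf H ≤ pPrimePCore p ↥H := by
    apply Cfsg.Agent.S1457.result hodd p hR.toSylow
    · rw [hR.coe_toSylow]
      exact Subgroup.comap_mono hAR
    · refine ⟨⟨?_⟩⟩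
      rintro ⟨a, ha⟩ ⟨b, hb⟩
      apply Subtype.ext
      apply Subtype.ext
      rw [Subgroup.mem_subgroupOf] at ha hb
      show (a : G) * (b : G) = (b : G) * (a : G)
      exact congrArg Subtype.val (hAc.is_comm.comm ⟨(a : G), ha⟩ ⟨(b : G), hb⟩)
    · rw [hR.coe_toSylow, ← Subgroup.subgroupOf_normalizer_eq hAH]
      exact Subgroup.comap_mono hRA
  have h2 := Subgroup.map_mono (f := H.subtype) h1
  rwa [Subgroup.map_subgroupOf_eq_of_le hAH] at h2

/-- a `p`-group of rank at least three, `p` odd, has a self-centralizing normal abelian subgroup of rank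
at least three -/
theorem exists_scn3 (hp2 : p ≠ 2) {R : Subgroup G} (hRp : IsPGroup p R)
    (hr : ¬ PRankLE p 2 ↥R) :
    ∃ A : Subgroup G, IsSCN R A ∧ IsMulCommutative A ∧ ¬ PRankLE p 2 ↥A := by
  have hp : p.Prime := Fact.out
  have hnc : ¬ IsCyclic ↥R := by
    intro hcyc
    apply hr
    intro E hEc hEp
    by_contra hlt
    have hlt : p ^ 2 < Nat.card E := not_le.mp hlt
    have h1 : p < Nat.card E := lt_of_le_of_lt (by nlinarith [hp.two_le]) hlt
    exact Cfsg.Agent.Lib.Helper31.not_isCyclic_of_exp p hp E hEp h1 inferInstance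
  obtain ⟨E, hEn, hEe, hE2⟩ :=
    Cfsg.Agent.Lib.Helper97.exists_normal_elementary_sq hp2 hRp hnc
  obtain ⟨A, -, hAn, hAC, hA3⟩ := Cfsg.Agent.S1452.result p hp2 hRp hr E hEe hE2
  have hAcomm : ∀ a ∈ A, ∀ b ∈ A, a * b = b * a := by
    intro a ha b hb
    have hb' : b ∈ Subgroup.centralizer (A : Set R) := by rw [hAC]; exact hb
    exact (Subgroup.mem_centralizer_iff.mp hb' a ha)
  refine ⟨A.map R.subtype, ⟨Subgroup.map_subtype_le _, ?_, ?_⟩, ?_, ?_⟩
  · have h1 : (Subgroup.normalizer (A : Set R)).map R.subtype ≤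
        Subgroup.normalizer ((A.map R.subtype : Subgroup G) : Set G) := Subgroup.le_normalizer_map _
    rw [Subgroup.normalizer_eq_top, ← MonoidHom.range_eq_map, Subgroup.range_subtype] at h1
    exact h1
  · ext x
    rw [Subgroup.mem_inf, Subgroup.mem_map]
    constructor
    · rintro ⟨hxR, hxC⟩
      have hxA : (⟨x, hxR⟩ : R) ∈ A := by
        rw [← hAC, Subgroup.mem_centralizer_iff]
        intro a ha
        apply Subtype.ext
        exact Subgroup.mem_centralizer_iff.mp hxC (a : G) ⟨a, ha, rfl⟩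
      exact ⟨⟨x, hxR⟩, hxA, rfl⟩
    · rintro ⟨a, ha, rfl⟩
      refine ⟨a.2, ?_⟩
      rw [Subgroup.mem_centralizer_iff]
      rintro _ ⟨b, hb, rfl⟩
      exact congrArg Subtype.val (hAcomm b hb a ha)
  · refine ⟨⟨?_⟩⟩
    rintro ⟨_, a, ha, rfl⟩ ⟨_, b, hb, rfl⟩
    apply Subtype.ext
    show (a : G) * (b : G) = (b : G) * (a : G)
    exact congrArg Subtype.val (hAcomm a ha b hb)
  · intro h
    apply hA3
    exact pRankLE_of_inj ((Subgroup.equivMapOfInjective A R.subtype R.subtype_injective).toMonoidHom)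
      (Subgroup.equivMapOfInjective A R.subtype R.subtype_injective).injective h

/-- **Key step in the case of rank at least three**: every `A`-invariant `p'`-subgroup lies in
`O_{p'}(M)`, where `A` is a self-centralizing normal subgroup of rank at least three of the Sylow
`p`-subgroup `R` of `G` and of `M`. -/
theorem inv_le_of_scn3 (hG : IsMinSimpleOddOrder G) {M B : Subgroup G} (hM : IsCoatom M)
    (hBp : IsPGroup p B) (hB1 : B ≠ ⊥)
    (hb : ∀ Y : Subgroup G, (Nat.card Y).Coprime p → B ≤ Subgroup.normalizer (Y : Set G) → Y ≤ M)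
    {R A : Subgroup G} (hRM : IsSylowIn p M R)
    (hRG : ∀ T' : Subgroup G, IsPGroup p T' → R ≤ T' → T' = R) (hBR : B ≤ R)
    (hscn : IsSCN R A) (hAc : IsMulCommutative A) (hA3 : ¬ PRankLE p 2 ↥A) :
    ∀ X : Subgroup G, (Nat.card X).Coprime p → A ≤ Subgroup.normalizer (X : Set G) →
      X ≤ opc p M := by
  have hp : p.Prime := Fact.out
  have hRp : IsPGroup p R := hRM.2.1
  have hMs : Group.IsSolvable M := ms_solvable hG hM.1
  have hAp : IsPGroup p A := hRp.to_le hscn.1
  have hA1 : A ≠ ⊥ := by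
    rintro rfl
    apply hA3
    intro E _ _
    have h1 : Nat.card E = 1 := by
      haveI : Subsingleton (⊥ : Subgroup G) := inferInstance
      haveI : Subsingleton E := inferInstance
      exact Nat.card_unique
    rw [h1]
    exact Nat.one_le_pow _ _ hp.pos
  have hpA : p ∣ Nat.card A := ms_prime_dvd_card hG hAp hA1
  have hpG : p ∣ Nat.card G := hpA.trans (Subgroup.card_subgroup_dvd_card A)
  let P : Sylow p G := ⟨R, hRp, fun {Q} hQ hle => hRG Q hQ hle⟩
  have hnr1 : ¬ PRankLE p 1 ↥A := by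
    intro h
    apply hA3
    intro E hEc hEp
    exact (h E hEc hEp).trans (Nat.pow_le_pow_right hp.pos (by norm_num))
  have hTH : TransitivityHypothesis A :=
    Cfsg.Agent.S1396.result hG p hpG A hAp hAc (Or.inr ⟨P, hscn, hnr1⟩)
  have hAle : A ≤ A ⊓ Subgroup.centralizer (A : Set G) := by
    refine le_inf le_rfl ?_
    intro a ha
    rw [Subgroup.mem_centralizer_iff]
    intro b hb
    exact congrArg Subtype.val (hAc.is_comm.comm ⟨b, hb⟩ ⟨a, ha⟩)
  have hZ : ¬ RankLE 2 ↥(A ⊓ Subgroup.centralizer (A : Set G)) := by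
    intro h
    apply hA3
    exact pRankLE_of_inj (Subgroup.inclusion hAle) (Subgroup.inclusion_injective hAle) (h p hp)
  have hRtop : R ≠ ⊤ := ms_pgroup_ne_top hG hRp
  have hRπ : ∀ r : ℕ, r.Prime → r ∣ Nat.card R → r ∣ Nat.card A := by
    intro r hr hrR
    obtain ⟨n, hn⟩ := IsPGroup.iff_card.mp hRp
    rw [hn] at hrR
    have : r = p := (Nat.prime_dvd_prime_iff_eq hr hp).mp (hr.dvd_of_dvd_pow hrR)
    rw [this]
    exact hpA
  have hsn : (A.subgroupOf R).IsSubnormal := by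
    have : (A.subgroupOf R).Normal := (Subgroup.normal_subgroupOf_iff_le_normalizer hscn.1).mpr hscn.2.1
    exact this.isSubnormal
  have hKKle : piCoreOf (primesNotDvd (Nat.card A)) (Subgroup.centralizer (A : Set G)) ≤ opc p M := by
    have hcop : (Nat.card (piCoreOf (primesNotDvd (Nat.card A))
        (Subgroup.centralizer (A : Set G)))).Coprime p :=
      (Nat.Coprime.coprime_dvd_left hpA
        (Cfsg.Agent.Lib.Helper31.coprime_card_piCoreOf A (Subgroup.centralizer (A : Set G)))).symm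
    have hRN : R ≤ Subgroup.normalizer ((piCoreOf (primesNotDvd (Nat.card A))
        (Subgroup.centralizer (A : Set G)) : Subgroup G) : Set G) :=
      (hscn.2.1.trans (normalizer_le_normalizer_centralizer A)).trans
        (Cfsg.Agent.Lib.Helper31.BenderFit.normalizer_le_normalizer_piCoreOf _ _)
    exact le_opc_of_isSylowIn_normalizes hMs hRM (hb _ hcop (hBR.trans hRN)) hcop hRN
  intro X hX hAX
  apply le_of_invariant_sylows_le hAp hX hAX
  intro q hq hqp T hT hAT
  haveI : Fact q.Prime := ⟨hq⟩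
  have hqA : ¬ q ∣ Nat.card A := by
    intro hqA
    obtain ⟨n, hn⟩ := IsPGroup.iff_card.mp hAp
    rw [hn] at hqA
    exact hqp ((Nat.prime_dvd_prime_iff_eq hq hp).mp (hq.dvd_of_dvd_pow hqA))
  have htr := Cfsg.Agent.S1393.result hG A hTH hZ q hq hqA
  have h95 := (Cfsg.Agent.S1395.result hG A hTH q hq hqA R hRtop hRπ hscn.1 hsn htr).2.2.1
  obtain ⟨Q₁, hQ₁, -⟩ := Cfsg.Agent.Lib.Helper31.exists_maxInv_ge R {q} ⊥
    (Cfsg.Agent.Lib.Helper31.bot_mem_invSubgroups R {q})
  obtain ⟨Qs, hQs, hTQs⟩ := Cfsg.Agent.Lib.Helper31.exists_maxInv_ge A {q} T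
    (Cfsg.Agent.Lib.Helper31.mem_invSubgroups_of_isPGroup q A T hT.2.1 hAT)
  obtain ⟨k, hk, hQk⟩ := htr Q₁ (h95 hQ₁) Qs hQs
  have hQ₁q : IsPGroup q Q₁ := Cfsg.Agent.Lib.Helper31.isPGroup_of_forall_prime q Q₁ hQ₁.1.2.1
  have hQ₁cop : (Nat.card Q₁).Coprime p := by
    obtain ⟨n, hn⟩ := IsPGroup.iff_card.mp hQ₁q
    rw [hn]
    exact Nat.Coprime.pow_left n ((Nat.coprime_primes hq hp).mpr hqp)
  have hRQ₁ : R ≤ Subgroup.normalizer (Q₁ : Set G) := hQ₁.1.2.2
  have hQ₁le : Q₁ ≤ opc p M :=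
    le_opc_of_isSylowIn_normalizes hMs hRM (hb _ hQ₁cop (hBR.trans hRQ₁)) hQ₁cop hRQ₁
  have hkK : k ∈ opc p M := hKKle hk
  calc T ≤ Qs := hTQs
    _ = cj k Q₁ := hQk
    _ ≤ cj k (opc p M) := cj_mono hQ₁le
    _ = opc p M := cj_eq_self_of_mem hkK

/-- the main step: a maximal counterexample pair leads to a contradiction -/
theorem uniq_aux (hG : IsMinSimpleOddOrder G) {M B : Subgroup G} (hM : IsCoatom M)
    (hBp : IsPGroup p B) (hB1 : B ≠ ⊥)
    (hb : ∀ Y : Subgroup G, (Nat.card Y).Coprime p → B ≤ Subgroup.normalizer (Y : Set G) → Y ≤ M)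
    {H R : Subgroup G} (hH : IsCoatom H) (hne : H ≠ M) (hBR : B ≤ R) (hRH : R ≤ H) (hRM : R ≤ M)
    (hRp : IsPGroup p R)
    (hmax : ∀ H' R' : Subgroup G, IsCoatom H' → H' ≠ M → B ≤ R' → R' ≤ H' → R' ≤ M →
      IsPGroup p R' → Nat.card R' ≤ Nat.card R) : False := by
  have hp2 : p ≠ 2 := ms_prime_ne_two hG hBp hB1
  have hR1 : R ≠ ⊥ := fun h => hB1 (eq_bot_iff.mpr (h ▸ hBR))
  have hMs : Group.IsSolvable M := ms_solvable hG hM.1
  have hHs : Group.IsSolvable H := ms_solvable hG hH.1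
  have hBH : B ≤ H := hBR.trans hRH
  have hopcH : opc p H ≤ M := hb _ (card_opc_coprime H) (hBH.trans (le_normalizer_opc p H))
  have hT1 := cen_pup_ne_bot hRp hR1
  have hTtop : Cfsg.Agent.Lib.Helper33.cen (Cfsg.Agent.Lib.Helper33.pup R) ≠ ⊤ :=
    ms_pgroup_ne_top hG (hRp.to_le (cen_pup_le R))
  have hRsylHM : IsSylowIn p (H ⊓ M) R := by
    refine ⟨le_inf hRH hRM, hRp, fun T' h1 h2 h3 => ?_⟩
    exact (Subgroup.eq_of_le_of_card_ge h3
      (hmax H T' hH hne (hBR.trans h3) (h1.trans inf_le_left) (h1.trans inf_le_right) h2)).symm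
  -- `R` is a Sylow subgroup of `M`
  have hRsylM : IsSylowIn p M R := by
    by_contra hns
    have hex : ∃ T' : Subgroup G, T' ≤ M ∧ IsPGroup p T' ∧ R ≤ T' ∧ T' ≠ R := by
      by_contra hcon
      apply hns
      refine ⟨hRM, hRp, fun T' h1 h2 h3 => ?_⟩
      by_contra h4
      exact hcon ⟨T', h1, h2, h3, h4⟩
    obtain ⟨T', hT'M, hT'p, hRT', hT'ne⟩ := hex
    have hlt : R < T' := lt_of_le_of_ne hRT' (Ne.symm hT'ne)
    obtain ⟨s, hsT, hsN, hsR⟩ := exists_mem_normalizer_not_mem hT'p hlt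
    have hR₂T : R ⊔ Subgroup.zpowers s ≤ T' :=
      sup_le hRT' (by rw [Subgroup.zpowers_le]; exact hsT)
    have hR₂p : IsPGroup p ↥(R ⊔ Subgroup.zpowers s) := hT'p.to_le hR₂T
    have hR₂N : R ⊔ Subgroup.zpowers s ≤ Subgroup.normalizer (R : Set G) :=
      sup_le Subgroup.le_normalizer (by rw [Subgroup.zpowers_le]; exact hsN)
    obtain ⟨L, hL, hNL⟩ := ms_exists_coatom_ge (ms_normalizer_ne_top hG hT1 hTtop)
    have hNRL : Subgroup.normalizer (R : Set G) ≤ L := (normalizer_le_normalizer_cen_pup R).trans hNL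
    by_cases hLM : L = M
    · rw [hLM] at hNL hNRL
      have hRsylH : IsSylowIn p H R := by
        refine ⟨hRH, hRp, fun T'' h1 h2 h3 => ?_⟩
        exact hRsylHM.eq_of_normalizer_le h2 h3
          (fun x hx => ⟨h1 hx.1, hNRL hx.2⟩)
      have h5 := le_opc_sup_normalizer_cen_pup hp2 hHs (ms_odd hG H) hRsylH
      have h7 : H ≤ M := h5.trans (sup_le hopcH hNL)
      exact hne (ms_coatom_eq_of_le hM hH h7)
    · have h8 := hmax L (R ⊔ Subgroup.zpowers s) hL hLM (hBR.trans le_sup_left)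
        (hR₂N.trans hNRL) (hR₂T.trans hT'M) hR₂p
      have e := Subgroup.eq_of_le_of_card_ge (le_sup_left : R ≤ R ⊔ Subgroup.zpowers s) h8
      apply hsR
      rw [e]
      exact Subgroup.mem_sup_right (Subgroup.mem_zpowers s)
  have hNRM : Subgroup.normalizer (R : Set G) ≤ M := uniq_claim1 hG hM hBp hB1 hb hRsylM hBR
  have hRG : ∀ T' : Subgroup G, IsPGroup p T' → R ≤ T' → T' = R := fun T' h2 h3 =>
    hRsylM.eq_of_normalizer_le h2 h3 (inf_le_right.trans hNRM)
  have hRsylH : IsSylowIn p H R := ⟨hRH, hRp, fun T' _ h2 h3 => hRG T' h2 h3⟩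
  by_cases hK : opc p M = ⊥
  · have h1 := le_opc_sup_normalizer_cen_pup hp2 hMs (ms_odd hG M) hRsylM
    rw [hK, bot_sup_eq] at h1
    have hTM : Cfsg.Agent.Lib.Helper33.cen (Cfsg.Agent.Lib.Helper33.pup R) ≤ M :=
      (cen_pup_le R).trans hRM
    have h2 := ms_normalizer_eq hG hM hT1 hTM h1
    have h5 := le_opc_sup_normalizer_cen_pup hp2 hHs (ms_odd hG H) hRsylH
    have h7 : H ≤ M := h5.trans (sup_le hopcH h2.le)
    exact hne (ms_coatom_eq_of_le hM hH h7)
  · have hN : Subgroup.normalizer ((opc p M : Subgroup G) : Set G) = M :=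
      ms_normalizer_eq hG hM hK (opc_le p M) (le_normalizer_opc p M)
    have h5 := le_opc_sup_normalizer_inf_oppc hRsylH
    have h6 : Subgroup.normalizer ((R ⊓ oppc p H : Subgroup G) : Set G) ≤ M := by
      by_cases hr : PRankLE p 2 ↥R
      · have h9 : R ≤ oppc p H := le_oppc_of_pRankLE hHs (ms_odd hG H) hRsylH hR1 hr
        rw [inf_eq_left.mpr h9]
        exact hNRM
      · obtain ⟨A, hscn, hAc, hA3⟩ := exists_scn3 hp2 hRp hr
        have hAQ : A ≤ oppc p H :=
          le_oppc_of_abelian_normal hHs (ms_odd hG H) hRsylH hscn.1 hAc hscn.2.1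
        have key := inv_le_of_scn3 hG hM hBp hB1 hb hRsylM hRG hBR hscn hAc hA3
        intro n hn
        have hQn : cj n (R ⊓ oppc p H) = R ⊓ oppc p H := cj_eq_self_iff.mpr hn
        have h1 : cj n (opc p M) ≤ opc p M := by
          apply key
          · rw [card_cj]; exact card_opc_coprime M
          · calc A ≤ R ⊓ oppc p H := le_inf hscn.1 hAQ
              _ = cj n (R ⊓ oppc p H) := hQn.symm
              _ ≤ cj n (Subgroup.normalizer ((opc p M : Subgroup G) : Set G)) :=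
                  cj_mono (inf_le_left.trans (hRM.trans (le_normalizer_opc p M)))
              _ = Subgroup.normalizer ((cj n (opc p M) : Subgroup G) : Set G) := cj_normalizer n _
        have h3 : cj n (opc p M) = opc p M := Subgroup.eq_of_le_of_card_ge h1 (by rw [card_cj])
        rw [← hN]
        exact cj_eq_self_iff.mp h3
    have h7 : H ≤ M := h5.trans (sup_le hopcH h6)
    exact hne (ms_coatom_eq_of_le hM hH h7)

/-- **Bender–Glauberman, Lemma 9.1 (b)**: if every `B`-invariant `p'`-subgroup of `G` lies in the maximal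
subgroup `M ⊇ B`, then `M` is the only maximal subgroup containing the nontrivial `p`-subgroup `B`. -/
theorem uniq_of_inv (hG : IsMinSimpleOddOrder G) {M B : Subgroup G} (hM : IsCoatom M)
    (hBM : B ≤ M) (hBp : IsPGroup p B) (hB1 : B ≠ ⊥)
    (hb : ∀ Y : Subgroup G, (Nat.card Y).Coprime p → B ≤ Subgroup.normalizer (Y : Set G) → Y ≤ M)
    (H : Subgroup G) (hH : IsCoatom H) (hBH : B ≤ H) : H = M := by
  by_contra hne
  let α := {x : Subgroup G × Subgroup G // IsCoatom x.1 ∧ x.1 ≠ M ∧ B ≤ x.2 ∧ x.2 ≤ x.1 ∧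
    x.2 ≤ M ∧ IsPGroup p x.2}
  haveI : Nonempty α := ⟨⟨(H, B), hH, hne, le_rfl, hBH, hBM, hBp⟩⟩
  obtain ⟨⟨⟨H₀, R⟩, h1, h2, h3, h4, h5, h6⟩, hmax⟩ :=
    Finite.exists_max (fun x : α => Nat.card x.1.2)
  exact uniq_aux hG hM hBp hB1 hb h1 h2 h3 h4 h5 h6
    (fun H' R' a1 a2 a3 a4 a5 a6 => hmax ⟨(H', R'), a1, a2, a3, a4, a5, a6⟩)

end uniq

end Cfsg.Agent.Lib.Helper55
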