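import Cfsg.Agent.Lib.Helper55.Uniq2
import Cfsg.Agent.S1398

/-!
# Bender–Glauberman, Lemmas 9.2 and 9.3
-/

set_option autoImplicit false
set_option linter.unusedSectionVars false
set_option linter.style.haveILetI false
set_option linter.unusedVariables false

namespace Cfsg.Agent.Lib.Helper55

open Cfsg

section conjugation

variable {G : Type*} [Group G]

theorem cj_top (g : G) : cj g (⊤ : Subgroup G) = ⊤ := by
  rw [eq_top_iff, le_cj_iff]
  exact le_top

theorem isCoatom_cj (g : G) {M : Subgroup G} (hM : IsCoatom M) : IsCoatom (cj g M) := by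
  refine ⟨?_, ?_⟩
  · intro h
    apply hM.1
    rw [← cj_inv_cj g M, h, cj_top]
  · intro X hX
    have h1 : M < cj g⁻¹ X := by
      refine lt_of_le_of_ne (cj_le_iff.mp hX.le) ?_
      intro h
      apply hX.ne
      rw [h, cj_cj_inv]
    have h2 := hM.2 _ h1
    rw [← cj_cj_inv g X, h2, cj_top]

theorem inUniqueMaximal_cj (g : G) {A : Subgroup G} (hA : InUniqueMaximal A) :
    InUniqueMaximal (cj g A) := by
  obtain ⟨M, ⟨hM, hAM⟩, huniq⟩ := hA
  refine ⟨cj g M, ⟨isCoatom_cj g hM, cj_mono hAM⟩, ?_⟩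
  rintro M' ⟨hM', hAM'⟩
  have h1 := huniq (cj g⁻¹ M') ⟨isCoatom_cj g⁻¹ hM', cj_le_iff.mp hAM'⟩
  rw [← h1, cj_cj_inv]

theorem comm_cj (g : G) {E : Subgroup G} (hEc : ∀ a ∈ E, ∀ b ∈ E, a * b = b * a) :
    ∀ a ∈ cj g E, ∀ b ∈ cj g E, a * b = b * a := by
  intro a ha b hb
  rw [mem_cj] at ha hb
  have := hEc _ ha _ hb
  have e1 : a * b = g * ((g⁻¹ * a * g) * (g⁻¹ * b * g)) * g⁻¹ := by group
  have e2 : b * a = g * ((g⁻¹ * b * g) * (g⁻¹ * a * g)) * g⁻¹ := by group
  rw [e1, e2, this]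

theorem exp_cj (g : G) {p : ℕ} {E : Subgroup G} (hEp : ∀ a ∈ E, a ^ p = 1) :
    ∀ a ∈ cj g E, a ^ p = 1 := by
  intro a ha
  rw [mem_cj] at ha
  have h1 := hEp _ ha
  have e1 : a = g * (g⁻¹ * a * g) * g⁻¹ := by group
  rw [e1, conj_pow, h1]
  group

end conjugation

section rank

variable {G : Type*} [Group G]

theorem not_pRankLE_sub_iff {p k : ℕ} {R : Subgroup G} :
    ¬ PRankLE p k ↥R ↔ ∃ E : Subgroup G, E ≤ R ∧ (∀ a ∈ E, ∀ b ∈ E, a * b = b * a) ∧
      (∀ a ∈ E, a ^ p = 1) ∧ p ^ k < Nat.card E := by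
  rw [pRankLE_sub_iff]
  constructor
  · intro h
    by_contra hcon
    apply h
    intro E h1 h2 h3
    by_contra h4
    exact hcon ⟨E, h1, h2, h3, not_le.mp h4⟩
  · rintro ⟨E, h1, h2, h3, h4⟩ h
    exact absurd (h E h1 h2 h3) (not_le.mpr h4)

theorem not_rankLE_one_of_elemAb {p : ℕ} (hp : p.Prime) {E : Subgroup G}
    (hEc : ∀ a ∈ E, ∀ b ∈ E, a * b = b * a) (hEp : ∀ a ∈ E, a ^ p = 1) (hcard : p < Nat.card E) :
    ¬ RankLE 1 ↥E := by
  intro h
  have h1 := pRankLE_sub_iff.mp (h p hp) E le_rfl hEc hEp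
  rw [pow_one] at h1
  omega

theorem not_rankLE_one_of_noncyclic [Finite G] {p : ℕ} [Fact p.Prime] (hp2 : p ≠ 2) {B : Subgroup G}
    (hBp : IsPGroup p B) (hBnc : ¬ IsCyclic B) : ¬ RankLE 1 ↥B := by
  have hp : p.Prime := Fact.out
  intro h
  obtain ⟨A, -, ⟨hAc, hAe⟩, hA2⟩ := Cfsg.Agent.Lib.Helper97.exists_normal_elementary_sq hp2 hBp hBnc
  have h1 := h p hp A hAc hAe
  rw [hA2, pow_one] at h1
  nlinarith [hp.two_le]

end rank

section index

variable {G : Type*} [Group G] [Finite G] {p : ℕ} [Fact p.Prime]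

/-- a `p`-group normalizing an elementary abelian group of order `p ^ 2` centralizes it up to index `p` -/
theorem card_le_mul_card_inf_centralizer {X B₀ : Subgroup G} (hX : IsPGroup p X)
    (hXB : X ≤ Subgroup.normalizer (B₀ : Set G)) (hBc : ∀ a ∈ B₀, ∀ b ∈ B₀, a * b = b * a)
    (hBe : ∀ a ∈ B₀, a ^ p = 1) (hB2 : Nat.card B₀ = p ^ 2) :
    Nat.card X ≤ p * Nat.card ↥(X ⊓ Subgroup.centralizer (B₀ : Set G)) := by
  have hp : p.Prime := Fact.out
  have hB₀p : IsPGroup p B₀ := isPGroup_of_pow_eq_one hBe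
  have hB₀1 : B₀ ≠ ⊥ := by
    intro h
    rw [h, Subgroup.card_bot] at hB2
    have : 1 < p ^ 2 := Nat.one_lt_pow (by norm_num) hp.one_lt
    omega
  obtain ⟨⟨z, hz⟩, hz1⟩ := Subgroup.ne_bot_iff_exists_ne_one.mp
    (inf_centralizer_ne_bot_of_le_normalizer hX hB₀p hB₀1 hXB)
  have hz1' : z ≠ 1 := fun h => hz1 (Subtype.ext h)
  obtain ⟨hzB, hzC⟩ := Subgroup.mem_inf.mp hz
  have hzcard : Nat.card (Subgroup.zpowers z) = p := by
    rw [Nat.card_zpowers]
    exact orderOf_eq_prime (hBe z hzB) hz1'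
  -- an element outside `⟨z⟩`
  have hex : ∃ b ∈ B₀, b ∉ Subgroup.zpowers z := by
    by_contra hcon
    have hle : B₀ ≤ Subgroup.zpowers z := by
      intro b hb
      by_contra hbz
      exact hcon ⟨b, hb, hbz⟩
    have := Subgroup.card_le_of_le hle
    rw [hB2, hzcard] at this
    nlinarith [hp.two_le]
  obtain ⟨b, hbB, hbz⟩ := hex
  have hb1 : b ≠ 1 := fun h => hbz (h ▸ Subgroup.one_mem _)
  -- `⟨z, b⟩ = B₀`
  have hD : Subgroup.zpowers z ⊔ Subgroup.zpowers b = B₀ := by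
    have hDle : Subgroup.zpowers z ⊔ Subgroup.zpowers b ≤ B₀ :=
      sup_le (by rw [Subgroup.zpowers_le]; exact hzB) (by rw [Subgroup.zpowers_le]; exact hbB)
    have hdvd : Nat.card ↥(Subgroup.zpowers z ⊔ Subgroup.zpowers b) ∣ p ^ 2 :=
      hB2 ▸ Subgroup.card_dvd_of_le hDle
    obtain ⟨m, hm2, hm⟩ := (Nat.dvd_prime_pow hp).mp hdvd
    have hzD : Subgroup.zpowers z ≤ Subgroup.zpowers z ⊔ Subgroup.zpowers b := le_sup_left
    have hm1 : m ≠ 0 := by
      rintro rfl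
      have := Subgroup.card_le_of_le hzD
      rw [hm, hzcard, pow_zero] at this
      exact absurd this (not_le.mpr hp.one_lt)
    have hm1' : m ≠ 1 := by
      rintro rfl
      have e := Subgroup.eq_of_le_of_card_ge hzD (by rw [hm, hzcard, pow_one])
      apply hbz
      rw [e]
      exact Subgroup.mem_sup_right (Subgroup.mem_zpowers b)
    have hm2' : m = 2 := by omega
    rw [hm2'] at hm
    exact Subgroup.eq_of_le_of_card_ge hDle (by rw [hm, hB2])
  let _ := conjActOn X B₀ hXB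
  have hidx := MulAction.index_stabilizer ↥X (⟨b, hbB⟩ : B₀)
  -- the stabilizer centralizes `B₀`
  have hstab : (MulAction.stabilizer ↥X (⟨b, hbB⟩ : B₀)).map X.subtype ≤
      X ⊓ Subgroup.centralizer (B₀ : Set G) := by
    rintro _ ⟨x, hx, rfl⟩
    refine Subgroup.mem_inf.mpr ⟨x.2, ?_⟩
    have hx' : x ∈ MulAction.stabilizer ↥X (⟨b, hbB⟩ : B₀) := hx
    rw [MulAction.mem_stabilizer_iff] at hx'
    have hxb : (x : G) * b * (x : G)⁻¹ = b := congrArg Subtype.val hx'
    have hxb' : b * (x : G) = (x : G) * b := by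
      calc b * (x : G) = ((x : G) * b * (x : G)⁻¹) * (x : G) := by rw [hxb]
        _ = (x : G) * b := by group
    have hxz : z * (x : G) = (x : G) * z := (Subgroup.mem_centralizer_iff.mp hzC (x : G) x.2).symm
    have hle : Subgroup.zpowers z ⊔ Subgroup.zpowers b ≤
        Subgroup.centralizer ({(x : G)} : Set G) := by
      apply sup_le
      · rw [Subgroup.zpowers_le, Subgroup.mem_centralizer_iff]
        intro y hy
        rw [Set.mem_singleton_iff] at hy
        rw [hy]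
        exact hxz.symm
      · rw [Subgroup.zpowers_le, Subgroup.mem_centralizer_iff]
        intro y hy
        rw [Set.mem_singleton_iff] at hy
        rw [hy]
        exact hxb'.symm
    rw [hD] at hle
    show (x : G) ∈ Subgroup.centralizer (B₀ : Set G)
    rw [Subgroup.mem_centralizer_iff]
    intro y hy
    exact (Subgroup.mem_centralizer_iff.mp (hle hy) (x : G) rfl).symm
  have hstabcard : Nat.card (MulAction.stabilizer ↥X (⟨b, hbB⟩ : B₀)) ≤
      Nat.card ↥(X ⊓ Subgroup.centralizer (B₀ : Set G)) := by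
    rw [← Subgroup.card_map_of_injective X.subtype_injective]
    exact Subgroup.card_le_of_le hstab
  -- the orbit has fewer than `p ^ 2` elements
  have horb : (MulAction.orbit ↥X (⟨b, hbB⟩ : B₀)).ncard + 1 ≤ p ^ 2 := by
    have h1 : (1 : B₀) ∉ MulAction.orbit ↥X (⟨b, hbB⟩ : B₀) := by
      intro h
      obtain ⟨x, hx⟩ := MulAction.mem_orbit_iff.mp h
      have hxb : (x : G) * b * (x : G)⁻¹ = 1 := congrArg Subtype.val hx
      apply hb1
      calc b = (x : G)⁻¹ * ((x : G) * b * (x : G)⁻¹) * (x : G) := by group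
        _ = 1 := by rw [hxb]; group
    have h2 := Set.ncard_insert_of_notMem h1 (Set.toFinite _)
    have h3 : (insert (1 : B₀) (MulAction.orbit ↥X (⟨b, hbB⟩ : B₀))).ncard ≤
        (Set.univ : Set B₀).ncard := Set.ncard_le_ncard (Set.subset_univ _) (Set.toFinite _)
    rw [Set.ncard_univ, hB2, h2] at h3
    exact h3
  have hidxdvd : (MulAction.stabilizer ↥X (⟨b, hbB⟩ : B₀)).index ∣ Nat.card X :=
    Subgroup.index_dvd_card _
  obtain ⟨n, hn⟩ := IsPGroup.iff_card.mp hX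
  rw [hn] at hidxdvd
  obtain ⟨k, -, hk⟩ := (Nat.dvd_prime_pow hp).mp hidxdvd
  have hk1 : k ≤ 1 := by
    have h1 : p ^ k < p ^ 2 := by
      rw [← hk, hidx]
      omega
    have := (Nat.pow_lt_pow_iff_right hp.one_lt).mp h1
    omega
  have hidxle : (MulAction.stabilizer ↥X (⟨b, hbB⟩ : B₀)).index ≤ p := by
    rw [hk]
    calc p ^ k ≤ p ^ 1 := Nat.pow_le_pow_right hp.pos hk1
      _ = p := pow_one p
  calc Nat.card X = (MulAction.stabilizer ↥X (⟨b, hbB⟩ : B₀)).index *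
        Nat.card (MulAction.stabilizer ↥X (⟨b, hbB⟩ : B₀)) := (Subgroup.index_mul_card _).symm
    _ ≤ p * Nat.card ↥(X ⊓ Subgroup.centralizer (B₀ : Set G)) :=
        Nat.mul_le_mul hidxle hstabcard

/-- an elementary abelian `p`-group of order more than `p ^ 2` normalizing `B₀ ≅ E_{p^2}` has a subgroup
of rank at least two centralizing `B₀` -/
theorem lt_card_inf_centralizer {E B₀ : Subgroup G} (hEp : ∀ a ∈ E, a ^ p = 1)
    (hE3 : p ^ 2 < Nat.card E)
    (hEB : E ≤ Subgroup.normalizer (B₀ : Set G)) (hBc : ∀ a ∈ B₀, ∀ b ∈ B₀, a * b = b * a)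
    (hBe : ∀ a ∈ B₀, a ^ p = 1) (hB2 : Nat.card B₀ = p ^ 2) :
    p < Nat.card ↥(E ⊓ Subgroup.centralizer (B₀ : Set G)) := by
  have hp : p.Prime := Fact.out
  have h1 := card_le_mul_card_inf_centralizer (isPGroup_of_pow_eq_one hEp) hEB hBc hBe hB2
  by_contra hle
  have hle : Nat.card ↥(E ⊓ Subgroup.centralizer (B₀ : Set G)) ≤ p := not_lt.mp hle
  have h2 : p * Nat.card ↥(E ⊓ Subgroup.centralizer (B₀ : Set G)) ≤ p * p :=
    Nat.mul_le_mul_left p hle
  nlinarith

end index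

section nineTwo

variable {G : Type*} [Group G] [Finite G]

theorem centralizer_singleton_ne_top (hG : IsMinSimpleOddOrder G) {b : G} (hb : b ≠ 1) :
    Subgroup.centralizer ({b} : Set G) ≠ ⊤ := by
  haveI : IsSimpleGroup G := hG.2.1
  intro h
  have hbc : b ∈ Subgroup.center G := by
    rw [Subgroup.mem_center_iff]
    intro g
    have hg : g ∈ Subgroup.centralizer ({b} : Set G) := h ▸ Subgroup.mem_top g
    exact (Subgroup.mem_centralizer_iff.mp hg b rfl).symm
  rcases (inferInstance : (Subgroup.center G).Normal).eq_bot_or_eq_top with h1 | h1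
  · rw [h1, Subgroup.mem_bot] at hbc
    exact hb hbc
  · apply hG.2.2.1
    refine ⟨⟨fun x y => ?_⟩⟩
    have hy : y ∈ Subgroup.center G := h1 ▸ Subgroup.mem_top y
    exact Subgroup.mem_center_iff.mp hy x

theorem ne_bot_of_inUniqueMaximal (hG : IsMinSimpleOddOrder G) {L : Subgroup G}
    (hL : InUniqueMaximal L) : L ≠ ⊥ := by
  rintro rfl
  obtain ⟨M, ⟨hM, -⟩, huniq⟩ := hL
  apply hM.1
  rw [eq_top_iff]
  intro g _
  have hz : Subgroup.zpowers g ≠ ⊤ := by
    intro h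
    apply hG.2.2.1
    refine ⟨⟨fun x y => ?_⟩⟩
    have hx : x ∈ Subgroup.zpowers g := h ▸ Subgroup.mem_top x
    have hy : y ∈ Subgroup.zpowers g := h ▸ Subgroup.mem_top y
    obtain ⟨m, rfl⟩ := Subgroup.mem_zpowers_iff.mp hx
    obtain ⟨n, rfl⟩ := Subgroup.mem_zpowers_iff.mp hy
    exact zpow_mul_comm g m n
  obtain ⟨M', hM', hgM'⟩ := ms_exists_coatom_ge hz
  have := huniq M' ⟨hM', bot_le⟩
  rw [← this]
  exact hgM' (Subgroup.mem_zpowers g)

/-- **Bender–Glauberman, Lemma 9.2.** -/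
theorem uniq_of_centralizing (hG : IsMinSimpleOddOrder G) {L K : Subgroup G}
    (hL : InUniqueMaximal L) (hK : K ≤ Subgroup.centralizer (L : Set G)) (hKr : ¬ RankLE 1 ↥K) :
    InUniqueMaximal K := by
  have hL1 := ne_bot_of_inUniqueMaximal hG hL
  obtain ⟨M, ⟨hM, hLM⟩, huniq⟩ := hL
  have hLtop : L ≠ ⊤ := fun h => hM.1 (top_le_iff.mp (h ▸ hLM))
  have hprop : ∀ X : Subgroup G, X ≠ ⊤ → L ≤ X → X ≤ M := by
    intro X hX hLX
    obtain ⟨M', hM', hXM'⟩ := ms_exists_coatom_ge hX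
    have := huniq M' ⟨hM', hLX.trans hXM'⟩
    rw [← this]
    exact hXM'
  have hNL : Subgroup.normalizer (L : Set G) ≤ M :=
    hprop _ (ms_normalizer_ne_top hG hL1 hLtop) Subgroup.le_normalizer
  have hKM : K ≤ M := (hK.trans (Subgroup.centralizer_le_normalizer _)).trans hNL
  obtain ⟨p, E, hp, hEK, hEe, hEcard⟩ :=
    Cfsg.Agent.Lib.Helper31.exists_elemAb_of_not_rankLE K 1 hKr
  haveI : Fact p.Prime := ⟨hp⟩
  rw [pow_one] at hEcard
  have hEnc : ¬ IsCyclic E := Cfsg.Agent.Lib.Helper31.not_isCyclic_of_exp p hp E hEe.2 hEcard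
  have hcent : ∀ b ∈ E, b ≠ 1 → Subgroup.centralizer ({b} : Set G) ≤ M := by
    intro b hb hb1
    apply hprop _ (centralizer_singleton_ne_top hG hb1)
    intro l hl
    rw [Subgroup.mem_centralizer_iff]
    intro x hx
    rw [Set.mem_singleton_iff] at hx
    rw [hx]
    exact (Subgroup.mem_centralizer_iff.mp (hK (hEK hb)) l hl).symm
  obtain ⟨M₁, ⟨-, -⟩, huniq₁⟩ :=
    Cfsg.Agent.S1398.result hG M hM p E (hEK.trans hKM) hEe hEnc (Or.inl hcent)
  have hMM₁ : M = M₁ := huniq₁ M ⟨hM, hEK.trans hKM⟩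
  refine ⟨M, ⟨hM, hKM⟩, ?_⟩
  rintro M' ⟨hM', hKM'⟩
  rw [hMM₁]
  exact huniq₁ M' ⟨hM', hEK.trans hKM'⟩

end nineTwo

section nineThree

variable {G : Type*} [Group G] [Finite G] {p : ℕ} [Fact p.Prime]

theorem le_centralizer_symm {X Y : Subgroup G} (h : X ≤ Subgroup.centralizer (Y : Set G)) :
    Y ≤ Subgroup.centralizer (X : Set G) := by
  intro y hy
  rw [Subgroup.mem_centralizer_iff]
  intro x hx
  exact (Subgroup.mem_centralizer_iff.mp (h hx) y hy).symm

/-- **Bender–Glauberman, Lemma 9.3.** -/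
theorem uniq_of_rank_three (hG : IsMinSimpleOddOrder G) {A B : Subgroup G} (hAp : IsPGroup p A)
    (hAc : ∀ a ∈ A, ∀ b ∈ A, a * b = b * a) (hA3 : ¬ PRankLE p 2 ↥A) (hAU : InUniqueMaximal A)
    (hBp : IsPGroup p B) (hBnc : ¬ IsCyclic B)
    (hB3 : ¬ PRankLE p 2 ↥(Subgroup.centralizer (B : Set G))) : InUniqueMaximal B := by
  have hp : p.Prime := Fact.out
  have hA1 : A ≠ ⊥ := ne_bot_of_inUniqueMaximal hG hAU
  have hp2 : p ≠ 2 := ms_prime_ne_two hG hAp hA1
  obtain ⟨E, hEC, hEc, hEe, hE3⟩ := not_pRankLE_sub_iff.mp hB3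
  obtain ⟨EA, hEAA, hEAc, hEAe, hEA3⟩ := not_pRankLE_sub_iff.mp hA3
  have hEp : IsPGroup p E := isPGroup_of_pow_eq_one hEe
  have hEB : IsPGroup p ↥(E ⊔ B) :=
    hEp.to_sup_of_normal_right' hBp (hEC.trans (Subgroup.centralizer_le_normalizer _))
  obtain ⟨P, hP⟩ := hEB.exists_le_sylow
  have hEP : E ≤ P := le_sup_left.trans hP
  have hBP : B ≤ P := le_sup_right.trans hP
  have hPsyl : IsSylowIn p ⊤ (P : Subgroup G) := isSylowIn_of_sylow_le P le_top
  obtain ⟨g, -, hg⟩ := hPsyl.exists_conj_le le_top hAp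
  -- the conjugate of `A` in `P`
  have hA'U : InUniqueMaximal (cj g A) := inUniqueMaximal_cj g hAU
  have hA'c := comm_cj g hAc
  have hEA'P : cj g EA ≤ P := (cj_mono hEAA).trans hg
  -- a normal elementary abelian subgroup of order `p ^ 2`
  have hPnc : ¬ IsCyclic ↥(P : Subgroup G) := by
    intro hcyc
    apply hBnc
    have : IsCyclic ↥(B.subgroupOf (P : Subgroup G)) := inferInstance
    exact (Subgroup.subgroupOfEquivOfLe hBP).isCyclic.mp this
  obtain ⟨B₀', hB₀n, ⟨hB₀c', hB₀e'⟩, hB₀2'⟩ :=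
    Cfsg.Agent.Lib.Helper97.exists_normal_elementary_sq hp2 P.isPGroup' hPnc
  obtain ⟨B₀, hB₀⟩ : ∃ B₀ : Subgroup G, B₀ = B₀'.map (P : Subgroup G).subtype := ⟨_, rfl⟩
  have hB₀P : B₀ ≤ P := hB₀ ▸ Subgroup.map_subtype_le _
  have hPB₀ : (P : Subgroup G) ≤ Subgroup.normalizer (B₀ : Set G) := by
    have h1 : (Subgroup.normalizer (B₀' : Set ↥(P : Subgroup G))).map (P : Subgroup G).subtype ≤
        Subgroup.normalizer ((B₀'.map (P : Subgroup G).subtype : Subgroup G) : Set G) :=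
      Subgroup.le_normalizer_map _
    rw [Subgroup.normalizer_eq_top, ← MonoidHom.range_eq_map, Subgroup.range_subtype] at h1
    rw [hB₀]
    exact h1
  have hB₀c : ∀ a ∈ B₀, ∀ b ∈ B₀, a * b = b * a := by
    rw [hB₀]
    rintro _ ⟨a, ha, rfl⟩ _ ⟨b, hb, rfl⟩
    exact congrArg (fun t : B₀' => ((t : (P : Subgroup G)) : G)) (hB₀c'.is_comm.comm ⟨a, ha⟩ ⟨b, hb⟩)
  have hB₀e : ∀ a ∈ B₀, a ^ p = 1 := by
    rw [hB₀]
    rintro _ ⟨a, ha, rfl⟩
    have := congrArg (fun t : (P : Subgroup G) => (t : G)) (hB₀e' a ha)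
    simpa using this
  have hB₀2 : Nat.card B₀ = p ^ 2 := by
    rw [hB₀, Subgroup.card_map_of_injective (Subgroup.subtype_injective _)]
    exact hB₀2'
  -- `A* = E_A^g ∩ C(B₀)` is a uniqueness subgroup
  have hAs : InUniqueMaximal (cj g EA ⊓ Subgroup.centralizer (B₀ : Set G)) := by
    apply uniq_of_centralizing hG hA'U
    · intro x hx
      rw [Subgroup.mem_centralizer_iff]
      intro a ha
      exact hA'c a ha x (cj_mono hEAA hx.1)
    · apply not_rankLE_one_of_elemAb hp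
      · intro a ha b hb
        exact comm_cj g hEAc a ha.1 b hb.1
      · intro a ha
        exact exp_cj g hEAe a ha.1
      · exact lt_card_inf_centralizer (exp_cj g hEAe) (by rw [card_cj]; exact hEA3)
          (hEA'P.trans hPB₀) hB₀c hB₀e hB₀2
  -- `B₀` is a uniqueness subgroup
  have hB₀U : InUniqueMaximal B₀ := by
    apply uniq_of_centralizing hG hAs
    · exact le_centralizer_symm inf_le_right
    · apply not_rankLE_one_of_elemAb hp hB₀c hB₀e
      rw [hB₀2]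
      nlinarith [hp.two_le]
  -- `E₁ = E ∩ C(B₀)` is a uniqueness subgroup
  have hE₁U : InUniqueMaximal (E ⊓ Subgroup.centralizer (B₀ : Set G)) := by
    apply uniq_of_centralizing hG hB₀U inf_le_right
    apply not_rankLE_one_of_elemAb hp
    · intro a ha b hb
      exact hEc a ha.1 b hb.1
    · intro a ha
      exact hEe a ha.1
    · exact lt_card_inf_centralizer hEe hE3 (hEP.trans hPB₀) hB₀c hB₀e hB₀2
  -- finally `B`
  apply uniq_of_centralizing hG hE₁U
  · exact le_centralizer_symm (inf_le_left.trans hEC)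
  · exact not_rankLE_one_of_noncyclic hp2 hBp hBnc

end nineThree

end Cfsg.Agent.Lib.Helper55
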