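import Cfsg.Agent.Lib.Helper55.Large

set_option autoImplicit false

namespace Cfsg.Agent.Lib.Helper55

open Cfsg

section

variable {H : Type*} [Group H] {p : ℕ}

/-- conjugation action of a subgroup on a subgroup it normalizes -/
def conjActOn (Q R : Subgroup H) (h : Q ≤ Subgroup.normalizer (R : Set H)) : MulAction Q R where
  smul q r := ⟨q * r * (q : H)⁻¹, (Subgroup.mem_normalizer_iff.mp (h q.2) r).mp r.2⟩
  one_smul r := by
    apply Subtype.ext
    show ((1 : Q) : H) * r * ((1 : Q) : H)⁻¹ = r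
    simp
  mul_smul a b r := by
    apply Subtype.ext
    show ((a * b : Q) : H) * r * ((a * b : Q) : H)⁻¹ = a * (b * r * (b : H)⁻¹) * (a : H)⁻¹
    simp [mul_assoc]

theorem le_normalizer_of_le_centralizer {U R : Subgroup H}
    (hR : R ≤ Subgroup.centralizer (U : Set H)) : R ≤ Subgroup.normalizer (U : Set H) :=
  hR.trans (Subgroup.centralizer_le_normalizer _)

theorem normalizer_le_normalizer_centralizer (R : Subgroup H) :
    Subgroup.normalizer (R : Set H) ≤
      Subgroup.normalizer ((Subgroup.centralizer (R : Set H) : Subgroup H) : Set H) := by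
  intro g hg
  rw [← cj_eq_self_iff] at hg ⊢
  rw [cj_centralizer, hg]

variable [Finite H] [Fact p.Prime]

/-- a `p`-group normalizing a nontrivial `p`-group has a nontrivial fixed point on it -/
theorem inf_centralizer_ne_bot_of_le_normalizer {Q R : Subgroup H} (hQ : IsPGroup p Q)
    (hR : IsPGroup p R) (hR1 : R ≠ ⊥) (h : Q ≤ Subgroup.normalizer (R : Set H)) :
    R ⊓ Subgroup.centralizer (Q : Set H) ≠ ⊥ := by
  let _ := conjActOn Q R h
  have hpR : p ∣ Nat.card R := by
    have : Nontrivial R := (Subgroup.nontrivial_iff_ne_bot R).mpr hR1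
    obtain ⟨n, hn0, hn⟩ := hR.nontrivial_iff_card.mp inferInstance
    exact hn.symm ▸ dvd_pow_self _ (ne_of_gt hn0)
  have h1 : (1 : R) ∈ MulAction.fixedPoints Q R := by
    intro q
    apply Subtype.ext
    show (q : H) * ((1 : R) : H) * (q : H)⁻¹ = ((1 : R) : H)
    simp
  obtain ⟨b, hb, hb1⟩ := hQ.exists_fixed_point_of_prime_dvd_card_of_fixed_point R hpR h1
  intro hbot
  apply hb1
  have : (b : H) ∈ R ⊓ Subgroup.centralizer (Q : Set H) := by
    rw [Subgroup.mem_inf]
    refine ⟨b.2, ?_⟩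
    rw [Subgroup.mem_centralizer_iff]
    intro q hq
    have := hb ⟨q, hq⟩
    have e : q * (b : H) * q⁻¹ = (b : H) := congrArg Subtype.val this
    calc q * (b : H) = (q * (b : H) * q⁻¹) * q := by group
      _ = (b : H) * q := by rw [e]
  rw [hbot, Subgroup.mem_bot] at this
  exact Subtype.ext this.symm

/-- coprime action: if `y` normalizes the `p`-group `Q`, has order prime to `p`, and commutes with all
commutators `q⁻¹ y⁻¹ q y`, then `y` centralizes `Q`. -/
theorem mem_centralizer_of_coprime {Q : Subgroup H} (hQ : IsPGroup p Q) {y : H}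
    (hy : (orderOf y).Coprime p)
    (hc : ∀ q ∈ Q, q⁻¹ * y⁻¹ * q * y ∈ Q ∧ Commute y (q⁻¹ * y⁻¹ * q * y)) :
    y ∈ Subgroup.centralizer (Q : Set H) := by
  rw [Subgroup.mem_centralizer_iff]
  intro q hq
  obtain ⟨hcQ, hcomm⟩ := hc q hq
  set c := q⁻¹ * y⁻¹ * q * y with hcdef
  -- y⁻ⁿ q yⁿ = q cⁿ
  have key : ∀ n : ℕ, y⁻¹ ^ n * q * y ^ n = q * c ^ n := by
    intro n
    induction n with
    | zero => simp
    | succ n ih =>
      have e1 : y⁻¹ ^ (n + 1) * q * y ^ (n + 1) = y⁻¹ * (y⁻¹ ^ n * q * y ^ n) * y := by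
        rw [pow_succ', pow_succ]; group
      rw [e1, ih]
      have e2 : y⁻¹ * (q * c ^ n) * y = (y⁻¹ * q * y) * (y⁻¹ * c ^ n * y) := by group
      have e3 : y⁻¹ * c ^ n * y = c ^ n := by
        have : Commute y (c ^ n) := hcomm.pow_right n
        rw [mul_assoc, ← this.eq]; group
      have e4 : y⁻¹ * q * y = q * c := by rw [hcdef]; group
      rw [e2, e3, e4, pow_succ']
      group
  have h1 := key (orderOf y)
  rw [inv_pow, pow_orderOf_eq_one] at h1
  simp only [inv_one, one_mul, mul_one] at h1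
  have h2 : c ^ orderOf y = 1 := by
    have := mul_left_cancel (a := q) (b := 1) (c := c ^ orderOf y) (by rw [mul_one]; exact h1)
    exact this.symm
  obtain ⟨k, hk⟩ := hQ ⟨c, hcQ⟩
  have hk' : c ^ p ^ k = 1 := by
    have := congrArg Subtype.val hk
    simpa using this
  have h3 : orderOf c ∣ orderOf y := orderOf_dvd_of_pow_eq_one h2
  have h4 : orderOf c ∣ p ^ k := orderOf_dvd_of_pow_eq_one hk'
  have h5 : orderOf c = 1 := by
    have hcop : (orderOf y).Coprime (p ^ k) := hy.pow_right k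
    exact Nat.eq_one_of_dvd_coprimes hcop h3 h4
  have h6 : c = 1 := orderOf_eq_one_iff.mp h5
  have h7 : q⁻¹ * y⁻¹ * q * y = 1 := by rw [← hcdef]; exact h6
  have : q * y = y * q := by
    have e : q * y = y * q * (q⁻¹ * y⁻¹ * q * y) := by group
    rw [e, h7, mul_one]
  exact this

/-- a subgroup of a finite group with no nontrivial elements of order prime to `p` is a `p`-group -/
theorem isPGroup_of_coprime_trivial {D : Subgroup H}
    (h : ∀ y ∈ D, (orderOf y).Coprime p → y = 1) : IsPGroup p D := by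
  intro x
  have hp : p ≠ 1 := (Fact.out : p.Prime).ne_one
  have hx0 : orderOf (x : H) ≠ 0 := (orderOf_pos (x : H)).ne'
  obtain ⟨e, m, hm, hxm⟩ := Nat.exists_eq_pow_mul_and_not_dvd hx0 p hp
  refine ⟨e, ?_⟩
  have hpe : p ^ e ≠ 0 := pow_ne_zero _ (Fact.out : p.Prime).ne_zero
  have h1 : orderOf ((x : H) ^ p ^ e) = m := by
    rw [orderOf_pow' _ hpe, hxm, Nat.gcd_eq_right (Dvd.intro _ rfl)]
    exact Nat.mul_div_cancel_left m (Nat.pos_of_ne_zero hpe)
  have h2 : (orderOf ((x : H) ^ p ^ e)).Coprime p := by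
    rw [h1]
    exact ((Nat.Prime.coprime_iff_not_dvd (Fact.out : p.Prime)).mpr hm).symm
  have := h _ (D.pow_mem x.2 _) h2
  apply Subtype.ext
  simpa using this

end

section core

variable {H : Type*} [Group H] [Finite H] {p : ℕ} [Fact p.Prime]

/-- Key lemma: if `Q` is a nontrivial large `p`-subgroup and `Q ≤ L` with `O_p(L) ≠ 1`, then
`C_H(O_p(L))` is a `p`-group. -/
theorem large_isPGroup_centralizer_pCoreOf {Q : Subgroup H} (hL : IsLarge Q) (hQp : IsPGroup p Q)
    (hQ1 : Q ≠ ⊥) {L : Subgroup H} (hQL : Q ≤ L) (hR1 : pCoreOf p L ≠ ⊥) :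
    IsPGroup p (Subgroup.centralizer ((pCoreOf p L : Subgroup H) : Set H)) := by
  set R := pCoreOf p L with hRdef
  set D := Subgroup.centralizer (R : Set H) with hDdef
  have hRp : IsPGroup p R := isPGroup_pCoreOf L
  have hLR : L ≤ Subgroup.normalizer (R : Set H) := le_normalizer_pCoreOf L
  have hLD : L ≤ Subgroup.normalizer (D : Set H) :=
    hLR.trans (normalizer_le_normalizer_centralizer R)
  -- U = C_R(Q) is nontrivial, D ≤ N(U) ≤ N(Q)
  have hU1 : R ⊓ Subgroup.centralizer (Q : Set H) ≠ ⊥ :=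
    inf_centralizer_ne_bot_of_le_normalizer hQp hRp hR1 (hQL.trans hLR)
  have hDU : D ≤ Subgroup.normalizer ((R ⊓ Subgroup.centralizer (Q : Set H) : Subgroup H) : Set H) := by
    apply le_normalizer_of_le_centralizer
    exact Subgroup.centralizer_le inf_le_left
  have hDQ : D ≤ Subgroup.normalizer (Q : Set H) :=
    hDU.trans (hL.2 _ inf_le_right hU1)
  -- Q ⊓ D ≤ R
  have hQD : Q ⊓ D ≤ R := by
    have h1 : Q ⊓ D ≤ pCoreOf p D := by
      apply le_pCoreOf inf_le_right
      · exact (le_inf hDQ Subgroup.le_normalizer).trans Subgroup.inf_normalizer_le_normalizer_inf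
      · exact hQp.to_le inf_le_left
    have h2 : pCoreOf p D ⊓ L ≤ R := by
      apply le_pCoreOf inf_le_right
      · refine (le_inf (hLD.trans (normalizer_le_normalizer_pCoreOf (p := p) D)) Subgroup.le_normalizer).trans ?_
        exact Subgroup.inf_normalizer_le_normalizer_inf
      · exact (isPGroup_pCoreOf D).to_le inf_le_left
    exact (le_inf h1 (inf_le_left.trans hQL)).trans h2
  apply isPGroup_of_coprime_trivial
  intro y hyD hy
  have hyC : y ∈ Subgroup.centralizer (Q : Set H) := by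
    apply mem_centralizer_of_coprime hQp hy
    intro q hq
    have hcQ : q⁻¹ * y⁻¹ * q * y ∈ Q := by
      have h1 : y⁻¹ * q * y⁻¹⁻¹ ∈ Q :=
        (Subgroup.mem_normalizer_iff.mp (Subgroup.inv_mem _ (hDQ hyD)) q).mp hq
      rw [inv_inv] at h1
      have := Q.mul_mem (Q.inv_mem hq) h1
      simpa [mul_assoc] using this
    have hcD : q⁻¹ * y⁻¹ * q * y ∈ D := by
      have hq' : q⁻¹ ∈ Subgroup.normalizer (D : Set H) := Subgroup.inv_mem _ (hLD (hQL hq))
      have h1 : q⁻¹ * y⁻¹ * q⁻¹⁻¹ ∈ D :=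
        (Subgroup.mem_normalizer_iff.mp hq' y⁻¹).mp (D.inv_mem hyD)
      rw [inv_inv] at h1
      exact D.mul_mem h1 hyD
    refine ⟨hcQ, ?_⟩
    have hcR : q⁻¹ * y⁻¹ * q * y ∈ R := hQD ⟨hcQ, hcD⟩
    have := (Subgroup.mem_centralizer_iff.mp hyD) _ hcR
    exact this.symm
  -- y ∈ C(Q) ≤ Q, so y has p-power order and order coprime to p
  have hyQ : y ∈ Q := hL.1 hyC
  obtain ⟨k, hk⟩ := hQp ⟨y, hyQ⟩
  have hk' : y ^ p ^ k = 1 := by
    have := congrArg Subtype.val hk
    simpa using this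
  have h4 : orderOf y ∣ p ^ k := orderOf_dvd_of_pow_eq_one hk'
  have h5 : orderOf y = 1 :=
    Nat.eq_one_of_dvd_coprimes (hy.pow_right k) dvd_rfl h4
  exact orderOf_eq_one_iff.mp h5

end core

end Cfsg.Agent.Lib.Helper55
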