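import Cfsg.Agent.Lib.Helper55.CoprimeGen
import Cfsg.Agent.Lib.Helper55.Coprime
import Cfsg.Agent.Lib.Helper81.PSolvable
import Cfsg.Agent.Lib.Helper31.SolvPCon
import Cfsg.Agent.Lib.Helper33.PuigFactor
import Cfsg.Agent.Lib.Helper40.Cores
import Cfsg.Agent.Lib.Helper29.LocalCore

/-!
# General lemmas for the uniqueness theorems (Bender–Glauberman, section 9)

* a `p'`-subgroup of a solvable group normalized by a Sylow `p`-subgroup lies in `O_{p'}`;
* the Frattini factorization `H = O_{p'}(H) N_H(P ∩ O_{p',p}(H))`, inside an ambient group;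
* Puig's factorization inside an ambient group;
* generation of a `p'`-group by invariant Sylow subgroups.
-/

set_option autoImplicit false
set_option linter.unusedSectionVars false
set_option linter.style.haveILetI false

namespace Cfsg.Agent.Lib.Helper55

open Cfsg

section typeLevel

variable {K : Type*} [Group K] [Finite K] {p : ℕ} [Fact p.Prime]

/-- In a solvable group with trivial `p'`-core, a `p'`-subgroup normalized by a Sylow `p`-subgroup is
trivial. -/
theorem eq_bot_of_sylow_normalizes_coprime [Group.IsSolvable K] (h : pPrimeCore p K = ⊥)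
    (P : Sylow p K) (Q : Subgroup K) (hQ : (Nat.card Q).Coprime p)
    (hPQ : (P : Subgroup K) ≤ Subgroup.normalizer (Q : Set K)) : Q = ⊥ := by
  have hRn : (pCore p K).Normal := pCore_normal
  have hRp : IsPGroup p (pCore p K) := isPGroup_pCore
  have hRP : pCore p K ≤ P := pCore_le_sylow P
  have hdisj : pCore p K ⊓ Q = ⊥ := by
    apply (Subgroup.disjoint_of_coprime_natCard ?_).eq_bot
    obtain ⟨n, hn⟩ := IsPGroup.iff_card.mp hRp
    rw [hn]
    exact Nat.Coprime.pow_left n hQ.symm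
  have hQC : Q ≤ Subgroup.centralizer (pCore p K : Set K) := by
    intro x hx
    rw [Subgroup.mem_centralizer_iff]
    intro r hr
    have hr' : r ∈ pCore p K := hr
    have hrN : r ∈ Subgroup.normalizer (Q : Set K) := hPQ (hRP hr')
    have h1 : r * x * r⁻¹ * x⁻¹ ∈ Q :=
      Q.mul_mem ((Subgroup.mem_normalizer_iff.mp hrN x).mp hx) (Q.inv_mem hx)
    have h2 : r * x * r⁻¹ * x⁻¹ ∈ pCore p K := by
      have e : r * x * r⁻¹ * x⁻¹ = r * (x * r⁻¹ * x⁻¹) := by group
      rw [e]
      exact (pCore p K).mul_mem hr' (hRn.conj_mem _ ((pCore p K).inv_mem hr') x)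
    have h3 : r * x * r⁻¹ * x⁻¹ = 1 := by
      have h4 : r * x * r⁻¹ * x⁻¹ ∈ pCore p K ⊓ Q := ⟨h2, h1⟩
      rw [hdisj] at h4
      exact h4
    calc r * x = (r * x * r⁻¹ * x⁻¹) * (x * r) := by group
      _ = x * r := by rw [h3, one_mul]
  have hQR : Q ≤ pCore p K :=
    hQC.trans (Cfsg.Agent.Lib.Helper31.centralizer_pCore_le_of_solvable' p h inferInstance)
  rw [eq_bot_iff, ← hdisj]
  exact le_inf hQR le_rfl

/-- In a solvable group, a `p'`-subgroup normalized by a Sylow `p`-subgroup lies in `O_{p'}`. -/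
theorem le_pPrimeCore_of_sylow_normalizes_coprime [Group.IsSolvable K]
    (P : Sylow p K) (Q : Subgroup K) (hQ : (Nat.card Q).Coprime p)
    (hPQ : (P : Subgroup K) ≤ Subgroup.normalizer (Q : Set K)) : Q ≤ pPrimeCore p K := by
  haveI := Cfsg.Agent.Lib.Helper81.pPrimeCore_normal (G := K) p
  have hfs : Function.Surjective (QuotientGroup.mk' (pPrimeCore p K)) :=
    QuotientGroup.mk'_surjective _
  have h1 : Q.map (QuotientGroup.mk' (pPrimeCore p K)) = ⊥ := by
    apply eq_bot_of_sylow_normalizes_coprime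
      (Cfsg.Agent.Lib.Helper81.pPrimeCore_quotient_eq_bot p) (P.mapSurjective hfs)
    · exact Nat.Coprime.coprime_dvd_left (Subgroup.card_map_dvd _ _) hQ
    · rw [Sylow.coe_mapSurjective]
      exact (Subgroup.map_mono hPQ).trans (Subgroup.le_normalizer_map _)
  intro x hx
  have h2 : QuotientGroup.mk' (pPrimeCore p K) x ∈ Q.map (QuotientGroup.mk' (pPrimeCore p K)) :=
    Subgroup.mem_map_of_mem _ hx
  rw [h1, Subgroup.mem_bot] at h2
  exact (QuotientGroup.eq_one_iff x).mp h2

/-- for a normal subgroup `W`, `S ∩ W` is a Sylow `p`-subgroup of `W` -/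
theorem isSylowIn_inf_normal (S : Sylow p K) (W : Subgroup K) [hW : W.Normal] :
    IsSylowIn p W ((S : Subgroup K) ⊓ W) := by
  refine ⟨inf_le_right, S.isPGroup'.to_le inf_le_left, ?_⟩
  intro T' hT'W hT'p hle
  have hS : IsSylowIn p ⊤ (S : Subgroup K) := isSylowIn_of_sylow_le S le_top
  obtain ⟨g, -, hg⟩ := hS.exists_conj_le le_top hT'p
  have hgW : cj g T' ≤ W := by
    have h1 : cj g W = W := by
      rw [cj_eq_self_iff, Subgroup.normalizer_eq_top]
      exact Subgroup.mem_top g
    calc cj g T' ≤ cj g W := cj_mono hT'W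
      _ = W := h1
  have h2 : cj g T' ≤ T' := (le_inf hg hgW).trans hle
  have h3 : cj g T' = T' := Subgroup.eq_of_le_of_card_ge h2 (by rw [card_cj])
  rw [h3] at hg
  exact le_antisymm (le_inf hg hT'W) hle

/-- Frattini: `G = O_{p'}(G) N_G(S ∩ O_{p',p}(G))`. -/
theorem pPrimeCore_sup_normalizer_eq_top (S : Sylow p K) :
    pPrimeCore p K ⊔
      Subgroup.normalizer (((S : Subgroup K) ⊓ pPrimePCore p K : Subgroup K) : Set K) = ⊤ := by
  haveI hV : (pPrimeCore p K).Normal := Cfsg.Agent.Lib.Helper81.pPrimeCore_normal p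
  have hQ := isSylowIn_inf_normal S (pPrimePCore p K)
  have h1 := Sylow.normalizer_sup_eq_top hQ.toSylow
  rw [hQ.map_toSylow] at h1
  have h2 : pPrimePCore p K ≤ ((S : Subgroup K) ⊓ pPrimePCore p K) ⊔ pPrimeCore p K := by
    intro w hw
    have h3 := Cfsg.Agent.Lib.Helper40.pPrimePCore_le_sylow_sup S hw
    rw [← SetLike.mem_coe, Subgroup.mul_normal] at h3
    obtain ⟨s, hs, v, hv, rfl⟩ := Set.mem_mul.mp h3
    have hs' : s ∈ (S : Subgroup K) := hs
    have hv' : v ∈ pPrimeCore p K := hv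
    have hvW : v ∈ pPrimePCore p K :=
      Cfsg.Agent.Lib.Helper40.pPrimeCore_le_pPrimePCore p K hv'
    have hsW : s ∈ pPrimePCore p K := by
      have h4 := (pPrimePCore p K).mul_mem hw ((pPrimePCore p K).inv_mem hvW)
      simpa using h4
    exact Subgroup.mul_mem_sup (Subgroup.mem_inf.mpr ⟨hs', hsW⟩) hv'
  rw [eq_top_iff, ← h1]
  apply sup_le
  · exact le_sup_right
  · exact h2.trans (sup_le (Subgroup.le_normalizer.trans le_sup_right) le_sup_left)

theorem center_le_puigSubgroup (R : Type*) [Group R] : Subgroup.center R ≤ puigSubgroup R := by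
  unfold puigSubgroup
  refine le_iInf fun n => ?_
  rw [Cfsg.Agent.Lib.Helper33.puigSeq_succ]
  refine Cfsg.Agent.Lib.Helper33.le_puigStep inferInstance ?_
  rw [Subgroup.normalizer_eq_top]
  exact le_top

/-- the `p`-rank bound passes to the domain of an injective homomorphism -/
theorem pRankLE_of_inj {X Y : Type*} [Group X] [Group Y] {p k : ℕ} (f : X →* Y)
    (hf : Function.Injective f) (h : PRankLE p k Y) : PRankLE p k X := by
  intro A hAc hAp
  have h1 := h (A.map f) ?_ ?_
  · rwa [Subgroup.card_map_of_injective hf] at h1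
  · refine ⟨⟨?_⟩⟩
    rintro ⟨_, a, ha, rfl⟩ ⟨_, b, hb, rfl⟩
    apply Subtype.ext
    show f a * f b = f b * f a
    rw [← map_mul, ← map_mul]
    exact congrArg (fun t : A => f (t : X)) (hAc.is_comm.comm ⟨a, ha⟩ ⟨b, hb⟩)
  · rintro _ ⟨a, ha, rfl⟩
    rw [← map_pow, hAp a ha, map_one]

end typeLevel

section ambient

variable {G : Type*} [Group G]

/-- `O_{p'}(H)` inside the ambient group -/
def opc (p : ℕ) (H : Subgroup G) : Subgroup G := (pPrimeCore p ↥H).map H.subtype

/-- `O_{p',p}(H)` inside the ambient group -/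
def oppc (p : ℕ) (H : Subgroup G) : Subgroup G := (pPrimePCore p ↥H).map H.subtype

theorem opc_le (p : ℕ) (H : Subgroup G) : opc p H ≤ H := Subgroup.map_subtype_le _

theorem normalizer_le_normalizer_opc (p : ℕ) (H : Subgroup G) :
    Subgroup.normalizer (H : Set G) ≤ Subgroup.normalizer ((opc p H : Subgroup G) : Set G) :=
  Cfsg.Agent.Lib.Helper29.normalizer_le_normalizer_map_pPrimeCore p H

theorem le_normalizer_opc (p : ℕ) (H : Subgroup G) :
    H ≤ Subgroup.normalizer ((opc p H : Subgroup G) : Set G) :=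
  Subgroup.le_normalizer.trans (normalizer_le_normalizer_opc p H)

/-- ambient form of the `p`-rank: `↥R` has `p`-rank at most `k` iff the elementary abelian subgroups of
the ambient group inside `R` have order at most `p ^ k` -/
theorem pRankLE_sub_iff {p k : ℕ} {R : Subgroup G} :
    PRankLE p k ↥R ↔ ∀ E : Subgroup G, E ≤ R → (∀ a ∈ E, ∀ b ∈ E, a * b = b * a) →
      (∀ a ∈ E, a ^ p = 1) → Nat.card E ≤ p ^ k := by
  constructor
  · intro h E hER hEc hEp
    have h1 := h (E.subgroupOf R) ?_ ?_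
    · rwa [Nat.card_congr (Subgroup.subgroupOfEquivOfLe hER).toEquiv] at h1
    · refine ⟨⟨?_⟩⟩
      rintro ⟨a, ha⟩ ⟨b, hb⟩
      apply Subtype.ext
      apply Subtype.ext
      exact hEc a ha b hb
    · intro a ha
      apply Subtype.ext
      exact hEp a ha
  · intro h A hAc hAp
    have h1 := h (A.map R.subtype) (Subgroup.map_subtype_le _) ?_ ?_
    · rwa [Subgroup.card_map_of_injective R.subtype_injective] at h1
    · rintro _ ⟨a, ha, rfl⟩ _ ⟨b, hb, rfl⟩
      exact congrArg (fun t : A => ((t : R) : G)) (hAc.is_comm.comm ⟨a, ha⟩ ⟨b, hb⟩)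
    · rintro _ ⟨a, ha, rfl⟩
      have := congrArg (fun t : R => (t : G)) (hAp a ha)
      simpa using this

variable [Finite G] {p : ℕ} [Fact p.Prime]

theorem card_opc_coprime (H : Subgroup G) : (Nat.card (opc p H)).Coprime p := by
  unfold opc
  rw [Subgroup.card_map_of_injective H.subtype_injective]
  exact Cfsg.Agent.Lib.Helper81.card_pPrimeCore_coprime p

/-- a `p'`-subgroup of the solvable group `M` normalized by a Sylow `p`-subgroup of `M` lies in
`O_{p'}(M)` -/
theorem le_opc_of_isSylowIn_normalizes {M R X : Subgroup G} (hs : Group.IsSolvable M)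
    (hR : IsSylowIn p M R) (hXM : X ≤ M) (hX : (Nat.card X).Coprime p)
    (hRX : R ≤ Subgroup.normalizer (X : Set G)) : X ≤ opc p M := by
  have h1 : X.subgroupOf M ≤ pPrimeCore p ↥M := by
    apply le_pPrimeCore_of_sylow_normalizes_coprime hR.toSylow
    · rw [Nat.card_congr (Subgroup.subgroupOfEquivOfLe hXM).toEquiv]; exact hX
    · rw [hR.coe_toSylow, ← Subgroup.subgroupOf_normalizer_eq hXM]
      exact Subgroup.comap_mono hRX
  have h2 := Subgroup.map_mono (f := M.subtype) h1
  rwa [Subgroup.map_subgroupOf_eq_of_le hXM] at h2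

/-- Frattini inside an ambient group: `H = O_{p'}(H) N_H(R ∩ O_{p',p}(H))` for a Sylow `p`-subgroup `R`
of `H`. -/
theorem le_opc_sup_normalizer_inf_oppc {H R : Subgroup G} (hR : IsSylowIn p H R) :
    H ≤ opc p H ⊔ Subgroup.normalizer ((R ⊓ oppc p H : Subgroup G) : Set G) := by
  have h1 := pPrimeCore_sup_normalizer_eq_top (hR.toSylow)
  have h2 := congrArg (Subgroup.map H.subtype) h1
  rw [Subgroup.map_sup, ← MonoidHom.range_eq_map, Subgroup.range_subtype] at h2
  have h3 : (Subgroup.normalizer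
      ((((hR.toSylow : Sylow p H) : Subgroup H) ⊓ pPrimePCore p ↥H : Subgroup H) : Set H)).map
        H.subtype ≤ Subgroup.normalizer ((R ⊓ oppc p H : Subgroup G) : Set G) := by
    refine (Subgroup.le_normalizer_map _).trans (le_of_eq ?_)
    rw [Subgroup.map_inf _ _ _ H.subtype_injective, hR.map_toSylow]
    rfl
  intro x hx
  rw [← h2] at hx
  exact (sup_le_sup (le_refl (opc p H)) h3) hx

/-- Puig's factorization inside an ambient group. -/
theorem le_opc_sup_normalizer_cen_pup (hp : p ≠ 2) {H R : Subgroup G} (hs : Group.IsSolvable H)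
    (hodd : Odd (Nat.card H)) (hR : IsSylowIn p H R) :
    H ≤ opc p H ⊔ Subgroup.normalizer
      ((Cfsg.Agent.Lib.Helper33.cen (Cfsg.Agent.Lib.Helper33.pup R) : Subgroup G) : Set G) := by
  have h1 := Cfsg.Agent.Lib.Helper33.puig_factorization hodd p hp hR.toSylow
  have h2 := congrArg (Subgroup.map H.subtype) h1
  rw [Subgroup.map_sup, ← MonoidHom.range_eq_map, Subgroup.range_subtype] at h2
  have hker : ∀ S' : Subgroup H, S' ⊓ H.subtype.ker = ⊥ := by
    intro S'
    rw [Subgroup.ker_subtype, inf_bot_eq]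
  have h3 : (Subgroup.normalizer ((Cfsg.Agent.Lib.Helper33.cen (Cfsg.Agent.Lib.Helper33.pup
      ((hR.toSylow : Sylow p H) : Subgroup H)) : Subgroup H) : Set H)).map H.subtype ≤
      Subgroup.normalizer
        ((Cfsg.Agent.Lib.Helper33.cen (Cfsg.Agent.Lib.Helper33.pup R) : Subgroup G) : Set G) := by
    refine (Subgroup.le_normalizer_map _).trans (le_of_eq ?_)
    rw [Cfsg.Agent.Lib.Helper33.cen_map_of_inf_ker H.subtype (hker _)
      (Cfsg.Agent.Lib.Helper33.pup_le _),
      Cfsg.Agent.Lib.Helper33.pup_map_of_inf_ker H.subtype (hker _), hR.map_toSylow]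
  intro x hx
  rw [← h2] at hx
  exact (sup_le_sup (le_refl (opc p H)) h3) hx

theorem cen_pup_le (R : Subgroup G) :
    Cfsg.Agent.Lib.Helper33.cen (Cfsg.Agent.Lib.Helper33.pup R) ≤ R :=
  (Cfsg.Agent.Lib.Helper33.cen_le _).trans (Cfsg.Agent.Lib.Helper33.pup_le _)

theorem normalizer_le_normalizer_cen_pup (R : Subgroup G) :
    Subgroup.normalizer (R : Set G) ≤ Subgroup.normalizer
      ((Cfsg.Agent.Lib.Helper33.cen (Cfsg.Agent.Lib.Helper33.pup R) : Subgroup G) : Set G) :=
  (Cfsg.Agent.Lib.Helper33.normalizer_le_normalizer_pup R).trans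
    (Cfsg.Agent.Lib.Helper33.normalizer_le_normalizer_cen _)

theorem cen_pup_ne_bot {R : Subgroup G} (hR : IsPGroup p R) (hR1 : R ≠ ⊥) :
    Cfsg.Agent.Lib.Helper33.cen (Cfsg.Agent.Lib.Helper33.pup R) ≠ ⊥ := by
  have h1 : Cfsg.Agent.Lib.Helper33.cen R ≤
      Cfsg.Agent.Lib.Helper33.cen (Cfsg.Agent.Lib.Helper33.pup R) := by
    intro x hx
    obtain ⟨hxR, hxC⟩ := Subgroup.mem_inf.mp hx
    refine Subgroup.mem_inf.mpr ⟨?_, Subgroup.centralizer_le
      (by exact_mod_cast Cfsg.Agent.Lib.Helper33.pup_le R) hxC⟩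
    refine ⟨⟨x, hxR⟩, ?_, rfl⟩
    have hc : (⟨x, hxR⟩ : R) ∈ Subgroup.center R := by
      rw [Subgroup.mem_center_iff]
      intro y
      apply Subtype.ext
      exact Subgroup.mem_centralizer_iff.mp hxC y y.2
    exact center_le_puigSubgroup R hc
  have h2 : Cfsg.Agent.Lib.Helper33.cen R ≠ ⊥ :=
    inf_centralizer_ne_bot_of_le_normalizer hR hR hR1 Subgroup.le_normalizer
  intro h
  apply h2
  rw [eq_bot_iff, ← h]
  exact h1

/-- a `p'`-group `N` normalized by the `p`-group `A` lies in `H` as soon as its `A`-invariant Sylow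
subgroups do -/
theorem le_of_invariant_sylows_le {A N H : Subgroup G} (hA : IsPGroup p A)
    (hN : (Nat.card N).Coprime p) (hAN : A ≤ Subgroup.normalizer (N : Set G))
    (h : ∀ q : ℕ, q.Prime → q ≠ p → ∀ T : Subgroup G, IsSylowIn q N T →
      A ≤ Subgroup.normalizer (T : Set G) → T ≤ H) : N ≤ H := by
  have hp : p.Prime := Fact.out
  have hdvd : Nat.card N ∣ Nat.card ↥(N ⊓ H) := by
    rw [Nat.dvd_iff_prime_pow_dvd_dvd]
    intro q k hq hqk
    have : Fact q.Prime := ⟨hq⟩
    rcases Nat.eq_zero_or_pos k with hk | hk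
    · rw [hk, pow_zero]; exact one_dvd _
    have hqN : q ∣ Nat.card N := (dvd_pow_self q hk.ne').trans hqk
    have hpq : q ≠ p := by
      rintro rfl
      have h3 : q ∣ Nat.gcd (Nat.card N) q := Nat.dvd_gcd hqN dvd_rfl
      rw [hN] at h3
      exact hp.one_lt.ne' (Nat.dvd_one.mp h3)
    obtain ⟨T, hT, hAT⟩ := exists_invariant_isSylowIn hA hAN hN q
    have hTH : T ≤ H := h q hq hpq T hT hAT
    have h1 : q ^ k ∣ Nat.card (hT.toSylow : Sylow q N) :=
      (hT.toSylow).pow_dvd_card_of_pow_dvd_card hqk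
    have h2 : Nat.card (hT.toSylow : Sylow q N) = Nat.card T := by
      show Nat.card (T.subgroupOf N) = Nat.card T
      exact Nat.card_congr (Subgroup.subgroupOfEquivOfLe hT.1).toEquiv
    rw [h2] at h1
    exact h1.trans (Subgroup.card_dvd_of_le (le_inf hT.1 hTH))
  have hle : Nat.card N ≤ Nat.card ↥(N ⊓ H) := Nat.le_of_dvd Nat.card_pos hdvd
  have := Subgroup.eq_of_le_of_card_ge (inf_le_left : N ⊓ H ≤ N) hle
  rw [← this]
  exact inf_le_right

/-- the `p`-rank of `H` is that of a Sylow `p`-subgroup -/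
theorem pRankLE_of_isSylowIn {H R : Subgroup G} (hR : IsSylowIn p H R) {k : ℕ}
    (hr : PRankLE p k ↥R) : PRankLE p k ↥H := by
  rw [pRankLE_sub_iff] at hr ⊢
  intro E hEH hEc hEp
  have hE : IsPGroup p E := isPGroup_of_pow_eq_one hEp
  obtain ⟨g, -, hg⟩ := hR.exists_conj_le hEH hE
  have h1 := hr (cj g E) hg ?_ ?_
  · rwa [card_cj] at h1
  · intro a ha b hb
    rw [mem_cj] at ha hb
    have := hEc _ ha _ hb
    have e1 : a * b = g * ((g⁻¹ * a * g) * (g⁻¹ * b * g)) * g⁻¹ := by group
    have e2 : b * a = g * ((g⁻¹ * b * g) * (g⁻¹ * a * g)) * g⁻¹ := by group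
    rw [e1, e2, this]
  · intro a ha
    rw [mem_cj] at ha
    have := hEp _ ha
    have e1 : a ^ p = g * (g⁻¹ * a * g) ^ p * g⁻¹ := by
      rw [← conj_pow]
      group
    rw [e1, this]
    group

end ambient

end Cfsg.Agent.Lib.Helper55
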