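import Cfsg.Agent.Lib.Helper55.FrakM

set_option autoImplicit false

namespace Cfsg.Agent.Lib.Helper55

open Cfsg

section

variable {G : Type*} [Group G] {p : ℕ}

/-- a join of pairwise commuting subgroups of exponent `p` is commutative of exponent `p` -/
theorem iSup_comm_exp {ι : Sort*} (A : ι → Subgroup G)
    (hcomm : ∀ i j, A i ≤ Subgroup.centralizer ((A j : Subgroup G) : Set G))
    (hexp : ∀ i, ∀ a ∈ A i, a ^ p = 1) :
    (⨆ i, A i) ≤ Subgroup.centralizer (((⨆ i, A i : Subgroup G)) : Set G) ∧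
      ∀ a ∈ ⨆ i, A i, a ^ p = 1 := by
  have h1 : (⨆ i, A i) ≤ Subgroup.centralizer (((⨆ i, A i : Subgroup G)) : Set G) := by
    apply iSup_le
    intro i
    rw [Subgroup.le_centralizer_iff]
    apply iSup_le
    intro j
    exact hcomm j i
  refine ⟨h1, ?_⟩
  intro a ha
  have key : ∀ x ∈ ⨆ i, A i, x ∈ (⨆ i, A i) ∧ x ^ p = 1 := by
    intro x hx
    refine Subgroup.iSup_induction A (C := fun x => x ∈ (⨆ i, A i) ∧ x ^ p = 1) hx ?_ ?_ ?_
    · intro i x hx
      exact ⟨Subgroup.mem_iSup_of_mem i hx, hexp i x hx⟩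
    · exact ⟨Subgroup.one_mem _, one_pow _⟩
    · intro x y hx hy
      refine ⟨Subgroup.mul_mem _ hx.1 hy.1, ?_⟩
      have hc : Commute x y := ((Subgroup.mem_centralizer_iff.mp (h1 hy.1)) x hx.1)
      rw [hc.mul_pow, hx.2, hy.2, one_mul]
  exact (key a ha).2

theorem isElementaryAbelian_of_le {X W : Subgroup G}
    (hX : X ≤ Subgroup.centralizer (X : Set G)) (hexp : ∀ a ∈ X, a ^ p = 1) (hWX : W ≤ X) :
    IsElementaryAbelian p W := by
  refine ⟨?_, fun a ha => hexp a (hWX ha)⟩
  rw [← Subgroup.le_centralizer_iff_isMulCommutative]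
  exact hWX.trans (hX.trans (Subgroup.centralizer_le hWX))

/-- normal closure inside a subgroup `N`, mapped to the ambient group, lies in the join of the
`N`-conjugates -/
theorem map_normalClosure_subgroupOf_le (N Y : Subgroup G) :
    (Subgroup.normalClosure ((Y.subgroupOf N : Subgroup N) : Set N)).map N.subtype ≤
      ⨆ g : N, cj (g : G) Y := by
  set X : Subgroup G := ⨆ g : N, cj (g : G) Y with hX
  have hnorm : (X.subgroupOf N).Normal := by
    constructor
    intro n hn g
    rw [Subgroup.mem_subgroupOf] at hn ⊢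
    have hle : cj (g : G) X ≤ X := by
      rw [Subgroup.map_le_iff_le_comap]
      apply iSup_le
      intro h
      rw [← Subgroup.map_le_iff_le_comap]
      have : cj (g : G) (cj (h : G) Y) = cj ((g * h : N) : G) Y := by
        rw [← cj_mul]; rfl
      show cj (g : G) (cj (h : G) Y) ≤ X
      rw [this]
      exact le_iSup (fun g : N => cj (g : G) Y) (g * h)
    have := hle (conj_mem_cj (g := (g : G)) hn)
    simpa using this
  have hsub : ((Y.subgroupOf N : Subgroup N) : Set N) ⊆ X.subgroupOf N := by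
    intro y hy
    have hy' : (y : G) ∈ Y := hy
    show (y : G) ∈ X
    have : cj ((1 : N) : G) Y ≤ X := le_iSup (fun g : N => cj (g : G) Y) 1
    apply this
    simp only [OneMemClass.coe_one]
    rw [cj_one]; exact hy'
  have h2 : Subgroup.normalClosure ((Y.subgroupOf N : Subgroup N) : Set N) ≤ X.subgroupOf N :=
    Subgroup.normalClosure_le_normal hsub
  calc (Subgroup.normalClosure ((Y.subgroupOf N : Subgroup N) : Set N)).map N.subtype
      ≤ (X.subgroupOf N).map N.subtype := Subgroup.map_mono h2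
    _ ≤ X := by
        rintro _ ⟨x, hx, rfl⟩
        exact hx

theorem commutator_le_inf_of_normalize {Y Z : Subgroup G}
    (h1 : Y ≤ Subgroup.normalizer (Z : Set G)) (h2 : Z ≤ Subgroup.normalizer (Y : Set G)) :
    ⁅Y, Z⁆ ≤ Y ⊓ Z := by
  rw [Subgroup.commutator_le]
  intro y hy z hz
  rw [Subgroup.mem_inf]
  constructor
  · have : z * y⁻¹ * z⁻¹ ∈ Y :=
      (Subgroup.mem_normalizer_iff.mp (h2 hz) y⁻¹).mp (Y.inv_mem hy)
    have := Y.mul_mem hy this
    rw [commutatorElement_def]
    simpa [mul_assoc] using this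
  · have : y * z * y⁻¹ ∈ Z := (Subgroup.mem_normalizer_iff.mp (h1 hy) z).mp hz
    have := Z.mul_mem this (Z.inv_mem hz)
    rw [commutatorElement_def]
    exact this

end

end Cfsg.Agent.Lib.Helper55
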