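import Cfsg.Agent.Lib.Helper55.StrEmb

set_option autoImplicit false

namespace Cfsg.Agent.Lib.Helper55

open Cfsg

section

variable {G : Type*} [Group G] {p : ℕ}

theorem orderOf_conj' (g x : G) : orderOf (g * x * g⁻¹) = orderOf x := by
  have : g * x * g⁻¹ = MulAut.conj g x := by simp [MulAut.conj_apply]
  rw [this, MulEquiv.orderOf_eq]

theorem conj_mem_centralizer_singleton {g x c : G} (hc : c ∈ Subgroup.centralizer ({x} : Set G)) :
    g * c * g⁻¹ ∈ Subgroup.centralizer ({g * x * g⁻¹} : Set G) := by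
  rw [Subgroup.mem_centralizer_iff] at hc ⊢
  intro u hu
  rw [Set.mem_singleton_iff] at hu
  subst hu
  have := hc x (Set.mem_singleton x)
  calc g * x * g⁻¹ * (g * c * g⁻¹) = g * (x * c) * g⁻¹ := by group
    _ = g * (c * x) * g⁻¹ := by rw [this]
    _ = g * c * g⁻¹ * (g * x * g⁻¹) := by group

theorem cj_centralizer_singleton (g x : G) :
    cj g (Subgroup.centralizer ({x} : Set G)) = Subgroup.centralizer ({g * x * g⁻¹} : Set G) := by
  ext c
  rw [mem_cj]
  constructor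
  · intro h
    have := conj_mem_centralizer_singleton (g := g) h
    have e : g * (g⁻¹ * c * g) * g⁻¹ = c := by group
    rwa [e] at this
  · intro h
    have := conj_mem_centralizer_singleton (g := g⁻¹) h
    have e : g⁻¹ * (g * x * g⁻¹) * g⁻¹⁻¹ = x := by group
    rw [e] at this
    simpa using this

theorem centralizer_singleton_le_normalizer_zpowers (x : G) :
    Subgroup.centralizer ({x} : Set G) ≤ Subgroup.normalizer ((Subgroup.zpowers x : Subgroup G) : Set G) := by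
  intro c hc
  have hcx : c * x = x * c := ((Subgroup.mem_centralizer_iff.mp hc) x (Set.mem_singleton x)).symm
  have hcomm : ∀ k : ℤ, c * x ^ k * c⁻¹ = x ^ k := by
    intro k
    have : Commute c (x ^ k) := (show Commute c x from hcx).zpow_right k
    rw [this.eq]; group
  rw [Subgroup.mem_normalizer_iff]
  intro u
  constructor
  · rintro ⟨k, rfl⟩
    show c * x ^ k * c⁻¹ ∈ Subgroup.zpowers x
    rw [hcomm k]; exact ⟨k, rfl⟩
  · intro hu
    obtain ⟨k, hk⟩ := hu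
    have hk' : x ^ k = c * u * c⁻¹ := hk
    have : u = c⁻¹ * (c * u * c⁻¹) * c := by group
    rw [this, ← hk']
    have h2 := hcomm k
    have : c⁻¹ * x ^ k * c = x ^ k := by
      calc c⁻¹ * x ^ k * c = c⁻¹ * (c * x ^ k * c⁻¹) * c := by rw [h2]
        _ = x ^ k := by group
    rw [this]; exact ⟨k, rfl⟩

theorem isPGroup_zpowers_of_orderOf [Fact p.Prime] {x : G}
    (hx : orderOf x = p) : IsPGroup p (Subgroup.zpowers x) := by
  apply IsPGroup.of_card (n := 1)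
  rw [Nat.card_zpowers, hx, pow_one]

theorem ne_one_of_orderOf_prime [Fact p.Prime] {x : G}
    (hx : orderOf x = p) : x ≠ 1 := by
  intro h
  rw [h, orderOf_one] at hx
  exact (Fact.out : p.Prime).ne_one hx.symm

variable [Finite G] [Fact p.Prime]

theorem exists_orderOf_eq_prime_of_ne_bot {Q : Subgroup G} (hQ : IsPGroup p Q) (hQ1 : Q ≠ ⊥) :
    ∃ x ∈ Q, orderOf x = p := by
  have : Nontrivial Q := (Subgroup.nontrivial_iff_ne_bot Q).mpr hQ1
  obtain ⟨n, hn0, hn⟩ := hQ.nontrivial_iff_card.mp inferInstance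
  have hpQ : p ∣ Nat.card Q := hn.symm ▸ dvd_pow_self _ (ne_of_gt hn0)
  obtain ⟨x, hx⟩ := exists_prime_orderOf_dvd_card' p hpQ
  exact ⟨x, x.2, by rw [Subgroup.orderOf_coe]; exact hx⟩

theorem dvd_card_of_ne_bot {Q : Subgroup G} (hQ : IsPGroup p Q) (hQ1 : Q ≠ ⊥) :
    p ∣ Nat.card G := by
  have : Nontrivial Q := (Subgroup.nontrivial_iff_ne_bot Q).mpr hQ1
  obtain ⟨n, hn0, hn⟩ := hQ.nontrivial_iff_card.mp inferInstance
  have hpQ : p ∣ Nat.card Q := hn.symm ▸ dvd_pow_self _ (ne_of_gt hn0)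
  exact hpQ.trans (Subgroup.card_subgroup_dvd_card Q)

/-- the situation of S2899, right to left -/
structure CentHyp (p : ℕ) (H S' : Subgroup G) : Prop where
  ne_top : H ≠ ⊤
  syl : IsSylowIn p H S'
  cent : ∀ x ∈ S', orderOf x = p → Subgroup.centralizer ({x} : Set G) ≤ H
  norm : Subgroup.normalizer (S' : Set G) ≤ H

theorem CentHyp.ne_bot {H S' : Subgroup G} (h : CentHyp p H S') : S' ≠ ⊥ := by
  intro e
  apply h.ne_top
  have := h.norm
  rw [e] at this
  apply top_le_iff.mp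
  refine le_trans ?_ this
  intro g _
  rw [Subgroup.mem_normalizer_iff]
  intro x
  simp [Subgroup.mem_bot]

theorem CentHyp.sylow {H S' : Subgroup G} (h : CentHyp p H S') :
    ∃ P : Sylow p G, (P : Subgroup G) = S' := by
  obtain ⟨P, hP⟩ := h.syl.2.1.exists_le_sylow
  refine ⟨P, ?_⟩
  exact h.syl.eq_of_normalizer_le P.isPGroup' hP (inf_le_right.trans h.norm)

theorem CentHyp.cent' {H S' : Subgroup G} (h : CentHyp p H S') {x : G} (hx : x ∈ H)
    (hxp : orderOf x = p) : Subgroup.centralizer ({x} : Set G) ≤ H := by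
  have hZ : Subgroup.zpowers x ≤ H := by rw [Subgroup.zpowers_le]; exact hx
  obtain ⟨k, hk, hkS⟩ := h.syl.exists_conj_le hZ (isPGroup_zpowers_of_orderOf hxp)
  have h1 : k * x * k⁻¹ ∈ S' := hkS (conj_mem_cj (Subgroup.mem_zpowers x))
  have h2 := h.cent _ h1 (by rw [orderOf_conj', hxp])
  rw [← cj_centralizer_singleton, cj_le_iff] at h2
  have : cj k⁻¹ H = H := cj_eq_self_of_mem (H.inv_mem hk)
  rwa [this] at h2

/-- for `u ∈ H` of order `p` there is an `H`-conjugate `u₁ ∈ S'` such that some Sylow `p`-subgroup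
`T₁` of `C_G(u₁)` lies in `S'` and contains `Z(S')`. -/
theorem CentHyp.nice_conj {H S' : Subgroup G} (h : CentHyp p H S') {u : G} (hu : u ∈ H)
    (hup : orderOf u = p) :
    ∃ h₁ ∈ H, ∃ T₁ : Subgroup G, h₁ * u * h₁⁻¹ ∈ S' ∧
      IsSylowIn p (Subgroup.centralizer ({h₁ * u * h₁⁻¹} : Set G)) T₁ ∧ T₁ ≤ S' ∧
      S' ⊓ Subgroup.centralizer (S' : Set G) ≤ T₁ := by
  set C := Subgroup.centralizer ({u} : Set G) with hC
  have hCH : C ≤ H := h.cent' hu hup
  have huC : u ∈ C := by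
    rw [hC, Subgroup.mem_centralizer_iff]
    intro v hv; rw [Set.mem_singleton_iff] at hv; rw [hv]
  have hZC : Subgroup.zpowers u ≤ C := by rw [Subgroup.zpowers_le]; exact huC
  have hZp := isPGroup_zpowers_of_orderOf hup
  obtain ⟨T, hT, hZT⟩ := exists_isSylowIn_ge hZC hZp
  obtain ⟨h₁, hh₁, hT₁⟩ := h.syl.exists_conj_le (hT.1.trans hCH) hT.2.1
  have hT₁syl := isSylowIn_cj hT h₁
  rw [hC, cj_centralizer_singleton] at hT₁syl
  have hu₁ : h₁ * u * h₁⁻¹ ∈ cj h₁ T := conj_mem_cj (hZT (Subgroup.mem_zpowers u))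
  refine ⟨h₁, hh₁, cj h₁ T, hT₁ hu₁, hT₁syl, hT₁, ?_⟩
  -- Z(S') ≤ T₁
  set Z := S' ⊓ Subgroup.centralizer (S' : Set G) with hZdef
  have hZp' : IsPGroup p Z := h.syl.2.1.to_le inf_le_left
  have hZcent : Z ≤ Subgroup.centralizer ({h₁ * u * h₁⁻¹} : Set G) :=
    inf_le_right.trans (Subgroup.centralizer_le (Set.singleton_subset_iff.mpr (hT₁ hu₁)))
  have hnorm : cj h₁ T ≤ Subgroup.normalizer (Z : Set G) :=
    hT₁.trans (Subgroup.le_normalizer.trans (normalizer_le_normalizer_inf_centralizer S'))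
  have h1 : IsPGroup p (Z ⊔ cj h₁ T : Subgroup G) :=
    IsPGroup.to_sup_of_normal_left' hZp' hT₁syl.2.1 hnorm
  have h2 := hT₁syl.2.2 _ (sup_le hZcent hT₁syl.1) h1 le_sup_right
  rw [← h2]
  exact le_sup_left

theorem CentHyp.fixed_point {H S' : Subgroup G} (h : CentHyp p H S') {x g : G} (hx : x ∈ H)
    (hxp : orderOf x = p) (hgx : g * x * g⁻¹ ∈ H) : g ∈ H := by
  obtain ⟨h₁, hh₁, T₁, hx₁S, hT₁, hT₁S, hZT₁⟩ := h.nice_conj hx hxp
  obtain ⟨h₂, hh₂, T₂, hx₂S, hT₂, hT₂S, _⟩ :=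
    h.nice_conj hgx (by rw [orderOf_conj', hxp])
  set x₁ := h₁ * x * h₁⁻¹ with hx₁
  set x₂ := h₂ * (g * x * g⁻¹) * h₂⁻¹ with hx₂
  set k := h₂ * g * h₁⁻¹ with hk
  have hkx : k * x₁ * k⁻¹ = x₂ := by rw [hk, hx₁, hx₂]; group
  have hkT : IsSylowIn p (Subgroup.centralizer ({x₂} : Set G)) (cj k T₁) := by
    have := isSylowIn_cj hT₁ k
    rwa [cj_centralizer_singleton, hkx] at this
  obtain ⟨c, hc, hcT⟩ := hkT.exists_conj hT₂
  -- element of order p in Z(S')
  have hZ1 : S' ⊓ Subgroup.centralizer (S' : Set G) ≠ ⊥ :=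
    inf_centralizer_ne_bot h.syl.2.1 h.ne_bot
  obtain ⟨z, hz, hzp⟩ :=
    exists_orderOf_eq_prime_of_ne_bot (h.syl.2.1.to_le inf_le_left) hZ1
  have hz' : (c * k) * z * (c * k)⁻¹ ∈ S' := by
    apply hT₂S
    rw [← hcT, ← cj_mul]
    exact conj_mem_cj (hZT₁ hz)
  have hCz' := h.cent _ hz' (by rw [orderOf_conj', hzp])
  have hSz : S' ≤ Subgroup.centralizer ({z} : Set G) := by
    intro s hs
    rw [Subgroup.mem_centralizer_iff]
    intro v hv
    rw [Set.mem_singleton_iff] at hv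
    subst hv
    exact ((Subgroup.mem_centralizer_iff.mp hz.2) s hs).symm
  have hcS : cj (c * k) S' ≤ H := by
    refine le_trans ?_ hCz'
    rw [← cj_centralizer_singleton]
    exact cj_mono hSz
  obtain ⟨P, hP⟩ := h.sylow
  have hP1 : ((((c * k) • P : Sylow p G)) : Subgroup G) ≤ H := by
    rw [coe_smul_sylow, hP]; exact hcS
  have hP2 : (P : Subgroup G) ≤ H := hP ▸ h.syl.1
  obtain ⟨h₃, hh₃, hh₃P⟩ := exists_conj_sylow_of_le ((c * k) • P) P hP1 hP2
  rw [coe_smul_sylow, ← cj_mul, hP] at hh₃P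
  have h4 : h₃ * (c * k) ∈ H := h.norm (cj_eq_self_iff.mp hh₃P)
  have hcH : c ∈ H := h.cent _ hx₂S (by rw [hx₂, orderOf_conj', orderOf_conj', hxp]) hc
  have hkH : k ∈ H := by
    have := H.mul_mem (H.inv_mem hcH) (H.mul_mem (H.inv_mem hh₃) h4)
    have e : c⁻¹ * (h₃⁻¹ * (h₃ * (c * k))) = k := by group
    rwa [e] at this
  have := H.mul_mem (H.mul_mem (H.inv_mem hh₂) hkH) hh₁
  have e : h₂⁻¹ * k * h₁ = g := by rw [hk]; group
  rwa [e] at this

theorem CentHyp.normProp {H S' : Subgroup G} (h : CentHyp p H S') : NormProp p H := by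
  intro Q hQH hQp hQ1 g hg
  obtain ⟨x, hxQ, hxp⟩ := exists_orderOf_eq_prime_of_ne_bot hQp hQ1
  have : g * x * g⁻¹ ∈ Q := (Subgroup.mem_normalizer_iff.mp hg x).mp hxQ
  exact h.fixed_point (hQH hxQ) hxp (hQH this)

theorem CentHyp.spe {H S' : Subgroup G} (h : CentHyp p H S') : IsStronglyPEmbedded p H := by
  obtain ⟨P, hP⟩ := h.sylow
  refine ⟨dvd_card_of_ne_bot h.syl.2.1 h.ne_bot, h.ne_top, P, ?_⟩
  unfold kGeneratedCore
  apply iSup_le
  rintro ⟨Q, hQP, hQr⟩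
  have hQ1 : Q ≠ ⊥ := ne_bot_of_not_pRankLE_zero (by simpa using hQr)
  exact h.normProp Q (hQP.trans (hP ▸ h.syl.1)) (P.isPGroup'.to_le hQP) hQ1

end

end Cfsg.Agent.Lib.Helper55
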