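import Cfsg.Agent.Lib.Helper55.Uniq3
import Cfsg.Agent.Lib.Helper31.BenderFit
import Cfsg.Agent.Lib.Helper31.TransRank
import Cfsg.Agent.Lib.Helper59.BenderUniq
import Cfsg.Agent.Lib.Helper13.Fitting
import Cfsg.Agent.Lib.Helper54.Basic
import Cfsg.Agent.S1393
import Cfsg.Agent.S1396

/-!
# Bender–Glauberman, Theorem 8.1: uniqueness for subgroups of the Fitting subgroup
-/

set_option autoImplicit false
set_option linter.unusedSectionVars false
set_option linter.style.haveILetI false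
set_option linter.unusedVariables false

namespace Cfsg.Agent.Lib.Helper55

open Cfsg
open Cfsg.Agent.Lib.Helper31 Cfsg.Agent.Lib.Helper31.BenderFit

section general

variable {G : Type*} [Group G]

/-- two subgroups normalizing each other and meeting trivially commute -/
theorem le_centralizer_of_normalizes {X Y : Subgroup G}
    (hXY : X ≤ Subgroup.normalizer (Y : Set G)) (hYX : Y ≤ Subgroup.normalizer (X : Set G))
    (h : X ⊓ Y = ⊥) : X ≤ Subgroup.centralizer (Y : Set G) := by
  intro x hx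
  rw [Subgroup.mem_centralizer_iff]
  intro y hy
  have h1 : x * y * x⁻¹ ∈ Y := (Subgroup.mem_normalizer_iff.mp (hXY hx) y).mp hy
  have h2 : y * x⁻¹ * y⁻¹ ∈ X :=
    (Subgroup.mem_normalizer_iff.mp (hYX hy) x⁻¹).mp (X.inv_mem hx)
  have h3 : x * y * x⁻¹ * y⁻¹ ∈ X ⊓ Y := by
    refine Subgroup.mem_inf.mpr ⟨?_, Y.mul_mem h1 (Y.inv_mem hy)⟩
    have : x * y * x⁻¹ * y⁻¹ = x * (y * x⁻¹ * y⁻¹) := by group
    rw [this]; exact X.mul_mem hx h2
  rw [h, Subgroup.mem_bot] at h3
  calc y * x = (x * y * x⁻¹ * y⁻¹)⁻¹ * (x * y) := by group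
    _ = x * y := by rw [h3, inv_one, one_mul]

/-- normalizers grow in nilpotent groups -/
theorem exists_mem_normalizer_not_mem_of_nilpotent {R T : Subgroup G}
    (hT : Group.IsNilpotent ↥T) (hRT : R < T) :
    ∃ s ∈ T, s ∈ Subgroup.normalizer (R : Set G) ∧ s ∉ R := by
  have hnc : NormalizerCondition T := Group.normalizerCondition_of_isNilpotent
  have hlt : R.subgroupOf T < ⊤ := by
    rw [lt_top_iff_ne_top]
    intro h
    rw [Subgroup.subgroupOf_eq_top] at h
    exact hRT.not_ge h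
  have h2 := hnc _ hlt
  obtain ⟨s, hs, hsR⟩ := SetLike.exists_of_lt h2
  refine ⟨s, s.2, ?_, ?_⟩
  · rw [← Subgroup.subgroupOf_normalizer_eq hRT.le] at hs
    exact hs
  · intro h
    apply hsR
    rw [Subgroup.mem_subgroupOf]; exact h

/-- a solvable group has trivial layer -/
theorem layer_eq_bot_of_solvable {K : Type*} [Group K] (hs : Group.IsSolvable K) :
    Cfsg.layer K = ⊥ := by
  unfold Cfsg.layer
  rw [sSup_eq_bot]
  intro L hL
  exfalso
  exact Cfsg.Agent.Lib.Helper30.component_not_le_solvable hL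
    (N := (⊤ : Subgroup K)) inferInstance le_top

theorem genFitting_eq_fitting_of_solvable {K : Type*} [Group K] (hs : Group.IsSolvable K) :
    Cfsg.generalizedFittingSubgroup K = Cfsg.fittingSubgroup K := by
  unfold Cfsg.generalizedFittingSubgroup
  rw [layer_eq_bot_of_solvable hs, bot_sup_eq]

theorem coprime_iff_of_primesNotDvd_eq {m a b : ℕ} (h : primesNotDvd a = primesNotDvd b) :
    m.Coprime a ↔ m.Coprime b := by
  rw [← forall_prime_mem_primesNotDvd_iff, ← forall_prime_mem_primesNotDvd_iff, h]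

variable [Finite G]

/-- if `Q` contains every `P`-invariant `q`-subgroup then `N(P)` normalizes `Q` -/
theorem normalizer_le_normalizer_of_forall_le {q : ℕ} {P Q : Subgroup G} (hQq : IsPGroup q Q)
    (hPQ : P ≤ Subgroup.normalizer (Q : Set G))
    (hall : ∀ R : Subgroup G, IsPGroup q R → P ≤ Subgroup.normalizer (R : Set G) → R ≤ Q) :
    Subgroup.normalizer (P : Set G) ≤ Subgroup.normalizer (Q : Set G) := by
  intro g hg
  have hgP : cj g P = P := cj_eq_self_iff.mpr hg
  have h1 : P ≤ Subgroup.normalizer ((cj g Q : Subgroup G) : Set G) := by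
    calc P = cj g P := hgP.symm
      _ ≤ cj g (Subgroup.normalizer (Q : Set G)) := cj_mono hPQ
      _ = Subgroup.normalizer ((cj g Q : Subgroup G) : Set G) := cj_normalizer g _
  have h2 : cj g Q ≤ Q := hall _ (isPGroup_cj hQq) h1
  have h3 : cj g Q = Q := Subgroup.eq_of_le_of_card_ge h2 (by rw [card_cj])
  exact cj_eq_self_iff.mp h3

/-- the unique maximal `A`-invariant `q`-subgroup is normalized by every nilpotent `F ⊇ A` -/
theorem le_normalizer_of_nilpotent_chain {q : ℕ} {A F Q : Subgroup G}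
    (hF : Group.IsNilpotent ↥F) (hAF : A ≤ F) (hQq : IsPGroup q Q)
    (hAQ : A ≤ Subgroup.normalizer (Q : Set G))
    (hall : ∀ R : Subgroup G, IsPGroup q R → A ≤ Subgroup.normalizer (R : Set G) → R ≤ Q) :
    F ≤ Subgroup.normalizer (Q : Set G) := by
  let T : Set (Subgroup G) := {P | A ≤ P ∧ P ≤ F ∧ P ≤ Subgroup.normalizer (Q : Set G)}
  have hT : T.Nonempty := ⟨A, le_rfl, hAF, hAQ⟩
  obtain ⟨P, ⟨hAP, hPF, hPQ⟩, hmax⟩ := wellFounded_gt.has_min T hT
  by_cases hPtop : P = F
  · rw [← hPtop]; exact hPQ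
  exfalso
  have hlt : P < F := lt_of_le_of_ne hPF hPtop
  obtain ⟨s, hsF, hsN, hsP⟩ := exists_mem_normalizer_not_mem_of_nilpotent hF hlt
  have hNQ : Subgroup.normalizer (P : Set G) ≤ Subgroup.normalizer (Q : Set G) :=
    normalizer_le_normalizer_of_forall_le hQq hPQ (fun R hR hPR => hall R hR (hAP.trans hPR))
  have hN : P ⊔ Subgroup.zpowers s ∈ T :=
    ⟨hAP.trans le_sup_left, sup_le hPF (by rw [Subgroup.zpowers_le]; exact hsF),
      sup_le hPQ (by rw [Subgroup.zpowers_le]; exact hNQ hsN)⟩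
  have hPN : P < P ⊔ Subgroup.zpowers s := by
    refine lt_of_le_of_ne le_sup_left ?_
    intro e
    apply hsP
    rw [e]
    exact (le_sup_right : Subgroup.zpowers s ≤ P ⊔ Subgroup.zpowers s) (Subgroup.mem_zpowers s)
  exact hmax _ hN hPN

end general


section setup

variable {G : Type*} [Group G] [Finite G] {M F A : Subgroup G}

/-- a maximal subgroup of a minimal simple group of odd order with its Fitting subgroup -/
theorem ms_setup (hG : IsMinSimpleOddOrder G) (hM : IsCoatom M) : Setup M (fittingOf M) := by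
  apply setup_of_maxLocal
  rintro L ⟨r, T, hr, hT, hT1, rfl⟩ hML
  haveI : Fact r.Prime := ⟨hr⟩
  have h1 : Subgroup.normalizer (T : Set G) ≠ ⊤ :=
    ms_normalizer_ne_top hG hT1 (ms_pgroup_ne_top hG hT)
  rcases hM.le_iff.mp hML with h | h
  · exact absurd h h1
  · exact h

theorem exists_prime_dvd_card_of_ne_bot {F : Subgroup G} (hF1 : F ≠ ⊥) :
    ∃ r : ℕ, r.Prime ∧ r ∣ Nat.card F := by
  apply Nat.exists_prime_and_dvd
  intro h
  exact hF1 (Subgroup.card_eq_one.mp h)

theorem setup_cent_le (hS : Setup M F) (hMs : Group.IsSolvable ↥M) :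
    M ⊓ Subgroup.centralizer (F : Set G) ≤ F := by
  refine hS.cent _ le_rfl Subgroup.le_normalizer ?_
  haveI := hMs
  exact Group.isSolvable_of_isSolvable_injective
    (f := Subgroup.inclusion (inf_le_left : M ⊓ Subgroup.centralizer (F : Set G) ≤ M))
    (Subgroup.inclusion_injective _)

/-- `A`-invariant subgroups of `M` of order prime to `#F` are trivial -/
theorem setup_inv_eq_bot_of_le (hS : Setup M F) (hMs : Group.IsSolvable ↥M) (hF1 : F ≠ ⊥)
    (hAF : A ≤ F) (hCA : F ⊓ Subgroup.centralizer (A : Set G) ≤ A) {Y : Subgroup G} (hYM : Y ≤ M)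
    (hAY : A ≤ Subgroup.normalizer (Y : Set G)) (hcop : (Nat.card Y).Coprime (Nat.card F)) :
    Y = ⊥ := by
  obtain ⟨r, hr, hrF⟩ := exists_prime_dvd_card_of_ne_bot hF1
  have hfix := hS.fixed_eq_bot hAF hCA hMs (inf_le_left.trans Subgroup.le_normalizer) hr hrF hYM
    hAY hcop
  have hZA : zr F r ≤ A := hS.zr_le_of hAF hCA r
  have hloc := hS.loc r hr hrF
  have hYZ : Y ⊓ zr F r = ⊥ := (Subgroup.disjoint_of_coprime_natCard
    (Nat.Coprime.coprime_dvd_right (Subgroup.card_dvd_of_le (zr_le F r)) hcop)).eq_bot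
  have hYC : Y ≤ Subgroup.centralizer (zr F r : Set G) :=
    le_centralizer_of_normalizes (by rw [hloc]; exact hYM) (hZA.trans hAY) hYZ
  have h1 : Y ≤ Y ⊓ Subgroup.centralizer (zr F r : Set G) := le_inf le_rfl hYC
  rw [hfix] at h1
  exact le_bot_iff.mp h1

/-- the transitivity hypothesis for `A ≤ F` with `C_F(A) ≤ A`, when `F` is not of prime power order -/
theorem setup_transHyp (hS : Setup M F) (hMs : Group.IsSolvable ↥M)
    (hF2 : 2 ≤ (Nat.card F).primeFactors.card)
    (hAF : A ≤ F) (hCA : F ⊓ Subgroup.centralizer (A : Set G) ≤ A)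
    (hπ : primesNotDvd (Nat.card A) = primesNotDvd (Nat.card F))
    (hA1 : A ≠ ⊥) (hAtop : A ≠ ⊤) (hsolv : ∀ X : Subgroup G, X ≠ ⊤ → Group.IsSolvable ↥X) :
    TransitivityHypothesis A := by
  refine ⟨hA1, hAtop, fun X hX hAX => ?_⟩
  rw [hπ]
  set π' := primesNotDvd (Nat.card F) with hπ'
  have hXs := hsolv X hX
  have hcent : M ⊓ Subgroup.centralizer (F : Set G) ≤ Subgroup.normalizer (X : Set G) := by
    have h1 : M ⊓ Subgroup.centralizer (F : Set G) ≤ F := setup_cent_le hS hMs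
    have h2 : M ⊓ Subgroup.centralizer (F : Set G) ≤ F ⊓ Subgroup.centralizer (A : Set G) :=
      le_inf h1 (inf_le_right.trans (Subgroup.centralizer_le hAF))
    exact (h2.trans hCA).trans (hAX.trans Subgroup.le_normalizer)
  apply le_antisymm
  · apply sSup_le
    rintro Y ⟨hYX, hYπ, hAY⟩
    have hcop : (Nat.card Y).Coprime (Nat.card F) := forall_prime_mem_primesNotDvd_iff.1 hYπ
    let K' : Subgroup G := X ⊓ ⨅ p ∈ (Nat.card F).primeFactors, ppc p X
    have hYK' : Y ≤ K' := by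
      refine le_inf hYX (le_iInf₂ ?_)
      intro p hp
      exact hS.le_ppc_of_inv hF2 hAF hCA hXs hAX hcent (Nat.mem_primeFactors.1 hp).1
        (Nat.mem_primeFactors.1 hp).2.1 hYX hAY hcop
    refine hYK'.trans ?_
    refine le_piCoreOf π' X K' inf_le_left ?_ ?_
    · apply le_normalizer_of_conj_mem
      intro x hx n hn
      obtain ⟨hnR, hn2⟩ := Subgroup.mem_inf.1 hn
      refine Subgroup.mem_inf.2 ⟨X.mul_mem (X.mul_mem hx hnR) (X.inv_mem hx), ?_⟩
      simp only [Subgroup.mem_iInf] at hn2 ⊢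
      intro p hp
      exact BenderFit.conj_mem_of_le_normalizer (le_normalizer_ppc p X) hx (hn2 p hp)
    · intro p hp hpK'
      refine ⟨hp, fun hpF => ?_⟩
      have hpm : p ∈ (Nat.card F).primeFactors :=
        Nat.mem_primeFactors.2 ⟨hp, hpF, Nat.card_pos.ne'⟩
      have hle : K' ≤ ppc p X := inf_le_right.trans (iInf₂_le p hpm)
      have h1 : p ∣ Nat.card (ppc p X) := dvd_trans hpK' (Subgroup.card_dvd_of_le hle)
      have h2 := card_ppc_coprime p X
      exact (Nat.Prime.coprime_iff_not_dvd hp).1 h2.symm h1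
  · apply le_sSup
    exact ⟨piCoreOf_le π' X, piCoreOf_pi π' X, hAX.trans (le_normalizer_piCoreOf π' X)⟩


/-- under the transitivity hypothesis, every `A`-invariant `q`-subgroup of `G` is trivial, for a
prime `q` not dividing `#F` -/
theorem setup_inv_pgroup_eq_bot (hG : IsMinSimpleOddOrder G) (hM : IsCoatom M) (hS : Setup M F)
    (hF1 : F ≠ ⊥) (hAF : A ≤ F) (hCA : F ⊓ Subgroup.centralizer (A : Set G) ≤ A)
    (hπ : primesNotDvd (Nat.card A) = primesNotDvd (Nat.card F))
    (hTH : TransitivityHypothesis A)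
    (hZ : ¬ RankLE 2 ↥(A ⊓ Subgroup.centralizer (A : Set G)))
    {q : ℕ} (hq : q.Prime) (hqF : ¬ q ∣ Nat.card F) {R : Subgroup G} (hRq : IsPGroup q R)
    (hAR : A ≤ Subgroup.normalizer (R : Set G)) : R = ⊥ := by
  haveI : Fact q.Prime := ⟨hq⟩
  have hMs := ms_solvable hG hM.1
  have hqA : ¬ q ∣ Nat.card A := fun h => hqF (h.trans (Subgroup.card_dvd_of_le hAF))
  have hKK : piCoreOf (primesNotDvd (Nat.card A)) (Subgroup.centralizer (A : Set G)) = ⊥ := by
    obtain ⟨r, hr, hrF⟩ := exists_prime_dvd_card_of_ne_bot hF1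
    apply setup_inv_eq_bot_of_le hS hMs hF1 hAF hCA
    · have hZA : zr F r ≤ A := hS.zr_le_of hAF hCA r
      calc piCoreOf (primesNotDvd (Nat.card A)) (Subgroup.centralizer (A : Set G))
          ≤ Subgroup.centralizer (A : Set G) := piCoreOf_le _ _
        _ ≤ Subgroup.centralizer (zr F r : Set G) := Subgroup.centralizer_le hZA
        _ ≤ Subgroup.normalizer (zr F r : Set G) := Subgroup.centralizer_le_normalizer _
        _ = M := hS.loc r hr hrF
    · exact (Subgroup.le_normalizer.trans (normalizer_le_normalizer_centralizer A)).trans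
        (normalizer_le_normalizer_piCoreOf _ _)
    · rw [← coprime_iff_of_primesNotDvd_eq hπ]
      exact (coprime_card_piCoreOf A (Subgroup.centralizer (A : Set G))).symm
  have htr := Cfsg.Agent.S1393.result hG A hTH hZ q hq hqA
  obtain ⟨Q, hQ, -⟩ := exists_maxInv_ge A {q} ⊥ (bot_mem_invSubgroups A {q})
  have hQq : IsPGroup q Q := isPGroup_of_forall_prime q Q hQ.1.2.1
  have hAQ : A ≤ Subgroup.normalizer (Q : Set G) := hQ.1.2.2
  have hall : ∀ R : Subgroup G, IsPGroup q R → A ≤ Subgroup.normalizer (R : Set G) → R ≤ Q := by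
    intro R hR hAR
    obtain ⟨Q', hQ', hRQ'⟩ := exists_maxInv_ge A {q} R (mem_invSubgroups_of_isPGroup q A R hR hAR)
    obtain ⟨k, hk, hQk⟩ := htr Q hQ Q' hQ'
    rw [hKK, Subgroup.mem_bot] at hk
    rw [hk] at hQk
    have h1 : Q' = Q := by rw [hQk]; exact cj_one Q
    rw [← h1]; exact hRQ'
  have hFQ : F ≤ Subgroup.normalizer (Q : Set G) :=
    le_normalizer_of_nilpotent_chain hS.nil hAF hQq hAQ hall
  have hNF : Subgroup.normalizer (F : Set G) ≤ Subgroup.normalizer (Q : Set G) :=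
    normalizer_le_normalizer_of_forall_le hQq hFQ (fun R hR hFR => hall R hR (hAF.trans hFR))
  have hMQ : M ≤ Subgroup.normalizer (Q : Set G) := hS.norm.trans hNF
  have hQ1 : Q = ⊥ := by
    by_contra hQ1
    have hNQ : Subgroup.normalizer (Q : Set G) = M := by
      rcases hM.le_iff.mp hMQ with h | h
      · exact absurd h (ms_normalizer_ne_top hG hQ1 (ms_pgroup_ne_top hG hQq))
      · exact h
    have hQM : Q ≤ M := hNQ ▸ Subgroup.le_normalizer
    exact hQ1 (setup_inv_eq_bot_of_le hS hMs hF1 hAF hCA hQM hAQ (coprime_of_isPGroup q Q F hQq hqF))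
  have h2 := hall R hRq hAR
  rw [hQ1] at h2
  exact le_bot_iff.mp h2

/-- under the transitivity hypothesis, every `A`-invariant subgroup of `G` of order prime to `#F`
is trivial -/
theorem setup_inv_eq_bot (hG : IsMinSimpleOddOrder G) (hM : IsCoatom M) (hS : Setup M F)
    (hF1 : F ≠ ⊥) (hAF : A ≤ F) (hCA : F ⊓ Subgroup.centralizer (A : Set G) ≤ A)
    (hπ : primesNotDvd (Nat.card A) = primesNotDvd (Nat.card F))
    (hTH : TransitivityHypothesis A)
    (hZ : ¬ RankLE 2 ↥(A ⊓ Subgroup.centralizer (A : Set G)))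
    {Y : Subgroup G} (hcop : (Nat.card Y).Coprime (Nat.card F))
    (hAY : A ≤ Subgroup.normalizer (Y : Set G)) : Y = ⊥ := by
  by_contra hY1
  obtain ⟨q, hq, hqY⟩ := exists_prime_dvd_card_of_ne_bot hY1
  haveI : Fact q.Prime := ⟨hq⟩
  have hqF : ¬ q ∣ Nat.card F := by
    intro h
    have h1 : q ∣ Nat.gcd (Nat.card Y) (Nat.card F) := Nat.dvd_gcd hqY h
    rw [hcop] at h1
    exact hq.one_lt.ne' (Nat.dvd_one.mp h1)
  have hAs : Group.IsSolvable ↥A := by
    haveI : Group.IsNilpotent ↥F := hS.nil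
    haveI : Group.IsSolvable ↥F := inferInstance
    exact Group.isSolvable_of_isSolvable_injective
      (f := Subgroup.inclusion hAF) (Subgroup.inclusion_injective _)
  have hcopAY : (Nat.card A).Coprime (Nat.card Y) :=
    (Nat.Coprime.coprime_dvd_right (Subgroup.card_dvd_of_le hAF) hcop).symm
  obtain ⟨P, -, hAP⟩ := Cfsg.Agent.S0025.result A Y hAY hcopAY (Or.inl hAs) q ⊥ bot_le
    IsPGroup.of_bot (by intro m _; rw [Subgroup.mem_normalizer_iff]; intro n; simp)
  have hP1 : (P : Subgroup Y).map Y.subtype = ⊥ :=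
    setup_inv_pgroup_eq_bot hG hM hS hF1 hAF hCA hπ hTH hZ hq hqF (P.isPGroup'.map _) hAP
  have hP2 : (P : Subgroup Y) = ⊥ := by
    rw [← Subgroup.map_eq_bot_iff_of_injective _ Y.subtype_injective]; exact hP1
  exact P.ne_bot_of_dvd_card hqY hP2


end setup

section two

variable {G : Type*} [Group G] [Finite G] {M A : Subgroup G}

theorem fittingOf_eq_iSup (H : Subgroup G) :
    fittingOf H = ⨆ p : Nat.Primes, pCoreOf (p : ℕ) H := by
  unfold fittingOf pCoreOf
  rw [Cfsg.Agent.Lib.Helper01.fitting_eq_iSup_pCore, Subgroup.map_iSup]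

theorem fittingOf_ne_bot {H : Subgroup G} (hHs : Group.IsSolvable ↥H) (hH1 : H ≠ ⊥) :
    fittingOf H ≠ ⊥ := by
  intro h
  have h1 : fittingSubgroup ↥H = ⊥ := by
    unfold fittingOf at h
    exact (Subgroup.map_eq_bot_iff_of_injective _ H.subtype_injective).mp h
  haveI := hHs
  have h2 := Cfsg.Agent.Lib.Helper13.centralizer_fittingSubgroup_le (G := ↥H)
  rw [h1] at h2
  apply hH1
  rw [eq_bot_iff]
  intro x hx
  have h3 : (⟨x, hx⟩ : ↥H) ∈ Subgroup.centralizer (((⊥ : Subgroup ↥H) : Subgroup ↥H) : Set ↥H) := by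
    rw [Subgroup.mem_centralizer_iff]
    intro h hh
    have : h = 1 := Subgroup.mem_bot.mp hh
    rw [this, one_mul, mul_one]
  have h4 := h2 h3
  rw [Subgroup.mem_bot] at h4 ⊢
  exact congrArg Subtype.val h4

/-- **Bender–Glauberman, Theorem 8.1 (a)**, general form: if `F(M)` is not of prime power order,
`A ≤ F(M)` contains its centralizer in `F(M)` and `Z(A)` has rank at least three, then `M` is the
only maximal subgroup containing `A`. -/
theorem fitting_uniq_two (hG : IsMinSimpleOddOrder G) (hM : IsCoatom M)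
    (hF2 : 2 ≤ (Nat.card (fittingOf M)).primeFactors.card) (hAF : A ≤ fittingOf M)
    (hCA : fittingOf M ⊓ Subgroup.centralizer (A : Set G) ≤ A)
    (hZ : ¬ RankLE 2 ↥(A ⊓ Subgroup.centralizer (A : Set G)))
    (H : Subgroup G) (hH : IsCoatom H) (hAH : A ≤ H) : H = M := by
  haveI : IsSimpleGroup G := hG.2.1
  set F := fittingOf M with hFdef
  have hS : Setup M F := ms_setup hG hM
  have hMs := ms_solvable hG hM.1
  have hHs := ms_solvable hG hH.1
  have hF1 : F ≠ ⊥ := by
    intro h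
    rw [h, Subgroup.card_bot] at hF2
    simp at hF2
  have hzrA : ∀ r, zr F r ≤ A := fun r => hS.zr_le_of hAF hCA r
  have hdvdA : ∀ r : ℕ, r.Prime → r ∣ Nat.card F → r ∣ Nat.card A := by
    intro r hr hrF
    haveI : Fact r.Prime := ⟨hr⟩
    have h1 := zr_ne_bot F hS.nil r hrF
    exact (ms_prime_dvd_card hG (zr_isPGroup F r) h1).trans (Subgroup.card_dvd_of_le (hzrA r))
  have hπ : primesNotDvd (Nat.card A) = primesNotDvd (Nat.card F) := by
    ext q
    constructor
    · rintro ⟨hq, hqA⟩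
      exact ⟨hq, fun h => hqA (hdvdA q hq h)⟩
    · rintro ⟨hq, hqF⟩
      exact ⟨hq, fun h => hqF (h.trans (Subgroup.card_dvd_of_le hAF))⟩
  obtain ⟨r₀, hr₀, hr₀F⟩ := exists_prime_dvd_card_of_ne_bot hF1
  have hA1 : A ≠ ⊥ := by
    intro h
    have h1 := hdvdA r₀ hr₀ hr₀F
    rw [h, Subgroup.card_bot] at h1
    exact hr₀.one_lt.ne' (Nat.dvd_one.mp h1)
  have hAtop : A ≠ ⊤ := by
    intro h
    apply hM.1
    rw [eq_top_iff, ← h]
    exact hAF.trans hS.le
  have hTH : TransitivityHypothesis A :=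
    setup_transHyp hS hMs hF2 hAF hCA hπ hA1 hAtop (fun X hX => ms_solvable hG hX)
  have hstar : ∀ q : ℕ, q.Prime → ¬ q ∣ Nat.card F → ∀ R : Subgroup G, IsPGroup q R →
      A ≤ Subgroup.normalizer (R : Set G) → R = ⊥ :=
    fun q hq hqF R hR hAR =>
      setup_inv_pgroup_eq_bot hG hM hS hF1 hAF hCA hπ hTH hZ hq hqF hR hAR
  -- Bender's lemma
  have hFeq : generalizedFittingSubgroup ↥M = fittingSubgroup ↥M :=
    genFitting_eq_fitting_of_solvable hMs
  have hFstar : (generalizedFittingSubgroup ↥M).map M.subtype = F := by rw [hFeq]; rfl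
  have hsn : (A.subgroupOf ((generalizedFittingSubgroup ↥M).map M.subtype)).IsSubnormal := by
    rw [hFstar]
    haveI : Group.IsNilpotent ↥F := hS.nil
    exact Cfsg.Agent.Lib.Helper59.Bender.isSubnormal_of_isNilpotent _
  have hSC : (generalizedFittingSubgroup ↥M).map M.subtype ⊓ Subgroup.centralizer (A : Set G) ≤ A := by
    rw [hFstar]; exact hCA
  have hbm := Cfsg.Agent.Lib.Helper59.Bender.bender_main M hM A (by rw [hFstar]; exact hAF) hsn hSC
    H hAH
  have hcardF : Nat.card F = Nat.card (fittingSubgroup ↥M) :=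
    Subgroup.card_map_of_injective M.subtype_injective
  have hE1 : ∀ s : ℕ, s.Prime → s ∣ Nat.card F → ∀ x ∈ pCoreOf s H, ∀ y ∈ F,
      (orderOf y).Coprime s → x * y = y * x := by
    intro s hs hsF x hx y hy hys
    have hsF' : s ∣ Nat.card (fittingSubgroup ↥M) := by rwa [hcardF] at hsF
    have hy2 : y ∈ (fittingSubgroup ↥M).map M.subtype := hy
    obtain ⟨y', hy', rfl⟩ := hy2
    have hy'' : y' ∈ generalizedFittingSubgroup ↥M := by rw [hFeq]; exact hy'
    have hord : orderOf (⟨y', hy''⟩ : ↥(generalizedFittingSubgroup ↥M)) = orderOf (M.subtype y') := by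
      rw [Subgroup.orderOf_mk, Subgroup.subtype_apply, Subgroup.orderOf_coe]
    have hres : (⟨y', hy''⟩ : ↥(generalizedFittingSubgroup ↥M)) ∈
        pResidual s ↥(generalizedFittingSubgroup ↥M) := by
      apply Cfsg.Agent.Lib.Helper54.mem_pResidual_of_coprime
      rw [hord]; exact hys
    exact hbm.2 s hs hsF' x hx y' ⟨⟨y', hy''⟩, hres, rfl⟩
  have hpF : ∀ s : ℕ, s.Prime → pCoreOf s H ≠ ⊥ → s ∣ Nat.card F := by
    intro s hs hDs1
    haveI : Fact s.Prime := ⟨hs⟩
    by_contra hsF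
    exact hDs1 (hstar s hs hsF _ (isPGroup_pCoreOf H) (hAH.trans (le_normalizer_pCoreOf H)))
  have hother : ∀ s : ℕ, ∃ t : ℕ, t.Prime ∧ t ∣ Nat.card F ∧ t ≠ s := by
    intro s
    obtain ⟨t, htm, hts⟩ := Finset.exists_mem_ne (by omega : 1 < (Nat.card F).primeFactors.card) s
    exact ⟨t, (Nat.mem_primeFactors.1 htm).1, (Nat.mem_primeFactors.1 htm).2.1, hts⟩
  have hzrcop : ∀ s t : ℕ, s.Prime → t.Prime → t ≠ s → ∀ y ∈ zr F t, (orderOf y).Coprime s := by
    intro s t hs ht hts y hy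
    obtain ⟨-, -, k, hk⟩ := hy
    have h1 : orderOf y ∣ t ^ k := orderOf_dvd_of_pow_eq_one hk
    exact Nat.Coprime.coprime_dvd_left h1 (Nat.Coprime.pow_left k ((Nat.coprime_primes ht hs).2 hts))
  -- `O_s(H) ≤ M`
  have hDM : ∀ s : ℕ, s.Prime → pCoreOf s H ≤ M := by
    intro s hs
    haveI : Fact s.Prime := ⟨hs⟩
    by_cases hDs1 : pCoreOf s H = ⊥
    · rw [hDs1]; exact bot_le
    have hsF := hpF s hs hDs1
    obtain ⟨t, ht, htF, hts⟩ := hother s
    have hle : pCoreOf s H ≤ Subgroup.centralizer (zr F t : Set G) := by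
      intro x hx
      rw [Subgroup.mem_centralizer_iff]
      intro y hy
      exact (hE1 s hs hsF x hx y (zr_le F t hy) (hzrcop s t hs ht hts y hy)).symm
    calc pCoreOf s H ≤ Subgroup.centralizer (zr F t : Set G) := hle
      _ ≤ Subgroup.normalizer (zr F t : Set G) := Subgroup.centralizer_le_normalizer _
      _ = M := hS.loc t ht htF
  have hfitH := fittingOf_eq_iSup H
  have hDleM : fittingOf H ≤ M := by
    rw [hfitH]; exact iSup_le (fun p => hDM p p.2)
  have hH1 : H ≠ ⊥ := fun h => hA1 (le_bot_iff.mp (h ▸ hAH))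
  have hD1 : fittingOf H ≠ ⊥ := fittingOf_ne_bot hHs hH1
  obtain ⟨s, hs, hDs1⟩ : ∃ s : ℕ, s.Prime ∧ pCoreOf s H ≠ ⊥ := by
    by_contra hcon
    apply hD1
    rw [hfitH, eq_bot_iff]
    apply iSup_le
    intro p
    by_contra h
    exact hcon ⟨p, p.2, fun e => h (by rw [e])⟩
  haveI : Fact s.Prime := ⟨hs⟩
  have hkey : ∀ s : ℕ, s.Prime → pCoreOf s H ≠ ⊥ → ∀ y ∈ F, (orderOf y).Coprime s →
      y ∈ Subgroup.centralizer (pCoreOf s H : Set G) ∧ y ∈ H := by
    intro s hs hDs1 y hy hys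
    haveI : Fact s.Prime := ⟨hs⟩
    have hsF := hpF s hs hDs1
    have hyC : y ∈ Subgroup.centralizer (pCoreOf s H : Set G) := by
      rw [Subgroup.mem_centralizer_iff]
      intro x hx
      exact hE1 s hs hsF x hx y hy hys
    refine ⟨hyC, ?_⟩
    have hNDs : Subgroup.normalizer ((pCoreOf s H : Subgroup G) : Set G) = H :=
      ms_normalizer_eq hG hH hDs1 (pCoreOf_le H) (le_normalizer_pCoreOf H)
    rw [← hNDs]
    exact Subgroup.centralizer_le_normalizer _ hyC
  have hres : ∀ s : ℕ, s.Prime → pCoreOf s H ≠ ⊥ → pResidual s ↥F ≤ H.subgroupOf F := by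
    intro s hs hDs1
    unfold pResidual
    rw [Subgroup.closure_le]
    intro g hg
    rw [SetLike.mem_coe, Subgroup.mem_subgroupOf]
    exact ((hkey s hs hDs1) (g : G) g.2 (by rw [Subgroup.orderOf_coe]; exact hg)).2
  have hFH : F ≤ H := by
    by_cases hcase : ∃ s' : ℕ, s'.Prime ∧ s' ≠ s ∧ pCoreOf s' H ≠ ⊥
    · obtain ⟨s', hs', hne, hDs'1⟩ := hcase
      haveI : Fact s'.Prime := ⟨hs'⟩
      have h1 := hres s hs hDs1
      have h2 := hres s' hs' hDs'1
      let P : Sylow s ↥F := default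
      have h3 : (P : Subgroup ↥F) ≤ pResidual s' ↥F := by
        intro g hg
        apply Cfsg.Agent.Lib.Helper54.mem_pResidual_of_coprime
        obtain ⟨k, hk⟩ := P.isPGroup' ⟨g, hg⟩
        have hk' : g ^ s ^ k = 1 := by simpa using congrArg Subtype.val hk
        have h4 : orderOf g ∣ s ^ k := orderOf_dvd_of_pow_eq_one hk'
        exact Nat.Coprime.coprime_dvd_left h4
          (Nat.Coprime.pow_left k ((Nat.coprime_primes hs hs').2 hne.symm))
      have h5 := Cfsg.Agent.Lib.Helper54.pResidual_sup_sylow P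
      have h6 : (⊤ : Subgroup ↥F) ≤ H.subgroupOf F := by
        rw [← h5]; exact sup_le h1 (h3.trans h2)
      intro y hy
      have h7 := h6 (Subgroup.mem_top (⟨y, hy⟩ : ↥F))
      rwa [Subgroup.mem_subgroupOf] at h7
    · exfalso
      have hDle : fittingOf H ≤ pCoreOf s H := by
        rw [hfitH]
        apply iSup_le
        intro p
        by_cases hp : (p : ℕ) = s
        · rw [hp]
        · by_contra h
          exact hcase ⟨p, p.2, hp, fun e => h (by rw [e]; exact bot_le)⟩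
      obtain ⟨t, ht, htF, hts⟩ := hother s
      haveI : Fact t.Prime := ⟨ht⟩
      have hz1 := zr_ne_bot F hS.nil t htF
      obtain ⟨⟨y, hyz⟩, hy1⟩ := (Subgroup.ne_bot_iff_exists_ne_one (H := zr F t)).mp hz1
      have hy1' : y ≠ 1 := fun e => hy1 (Subtype.ext e)
      obtain ⟨hyC, hyH⟩ := hkey s hs hDs1 y (zr_le F t hyz) (hzrcop s t hs ht hts y hyz)
      haveI := hHs
      have hcH := Cfsg.Agent.Lib.Helper13.centralizer_fittingSubgroup_le (G := ↥H)
      have hyc : (⟨y, hyH⟩ : ↥H) ∈ Subgroup.centralizer ((fittingSubgroup ↥H : Subgroup ↥H) : Set ↥H) := by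
        rw [Subgroup.mem_centralizer_iff]
        intro f hf
        have hfD : (f : G) ∈ pCoreOf s H := hDle ⟨f, hf, rfl⟩
        have := Subgroup.mem_centralizer_iff.mp hyC (f : G) hfD
        exact Subtype.ext this
      have hyF : y ∈ fittingOf H := ⟨⟨y, hyH⟩, hcH hyc, rfl⟩
      have hyD : y ∈ pCoreOf s H := hDle hyF
      obtain ⟨j, hj⟩ := (isPGroup_pCoreOf (p := s) H) ⟨y, hyD⟩
      have hj' : y ^ s ^ j = 1 := by simpa using congrArg Subtype.val hj
      obtain ⟨-, -, k, hk⟩ := hyz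
      have h8 : orderOf y ∣ Nat.gcd (s ^ j) (t ^ k) :=
        Nat.dvd_gcd (orderOf_dvd_of_pow_eq_one hj') (orderOf_dvd_of_pow_eq_one hk)
      have h9 : Nat.gcd (s ^ j) (t ^ k) = 1 :=
        Nat.Coprime.pow j k ((Nat.coprime_primes hs ht).2 hts.symm)
      rw [h9, Nat.dvd_one, orderOf_eq_one_iff] at h8
      exact hy1' h8
  -- Bender's uniqueness theorem
  have hlead1 : leadsTo M H := ⟨F, hF1, le_rfl, by rw [hFstar]; exact inf_le_left.trans hFH⟩
  have hHeq : generalizedFittingSubgroup ↥H = fittingSubgroup ↥H :=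
    genFitting_eq_fitting_of_solvable hHs
  have hHstar : (generalizedFittingSubgroup ↥H).map H.subtype = fittingOf H := by rw [hHeq]; rfl
  have hlead2 : leadsTo H M :=
    ⟨fittingOf H, hD1, le_rfl, by rw [hHstar]; exact inf_le_left.trans hDleM⟩
  rcases Cfsg.Agent.Lib.Helper59.Bender.bender_symmetric M H hM hH hlead1 hlead2 with
    h | ⟨r, hr, hrM, -⟩
  · exact h.symm
  · exfalso
    haveI : Fact r.Prime := ⟨hr⟩
    have hcard : Nat.card F = Nat.card ↥(generalizedFittingSubgroup ↥M) := by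
      rw [← hFstar]; exact Subgroup.card_map_of_injective M.subtype_injective
    obtain ⟨n, hn⟩ := IsPGroup.iff_card.mp hrM
    rw [hcard, hn] at hF2
    have hsub : (r ^ n).primeFactors ⊆ {r} := by
      rcases Nat.eq_zero_or_pos n with h | h
      · rw [h, pow_zero]; simp
      · rw [Nat.primeFactors_prime_pow h.ne' hr]
    have h10 := Finset.card_le_card hsub
    rw [Finset.card_singleton] at h10
    omega


end two

section pgroup

variable {G : Type*} [Group G] [Finite G] {M A : Subgroup G} {p : ℕ} [Fact p.Prime]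

/-- if `F(M)` is a `p`-group then `O_{p'}(M) = 1` -/
theorem opc_eq_bot_of_isPGroup_fittingOf (hG : IsMinSimpleOddOrder G) (hM : IsCoatom M)
    (hFp : IsPGroup p ↥(fittingOf M)) : opc p M = ⊥ := by
  set F := fittingOf M with hFdef
  have hS : Setup M F := ms_setup hG hM
  have hMs := ms_solvable hG hM.1
  obtain ⟨n, hn⟩ := IsPGroup.iff_card.mp hFp
  have hKF : opc p M ⊓ F = ⊥ := (Subgroup.disjoint_of_coprime_natCard (by
    rw [hn]; exact Nat.Coprime.pow_right n (card_opc_coprime M))).eq_bot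
  have hKC : opc p M ≤ Subgroup.centralizer (F : Set G) :=
    le_centralizer_of_normalizes ((opc_le p M).trans hS.norm)
      (hS.le.trans (le_normalizer_opc p M)) hKF
  have hKs : Group.IsSolvable ↥(opc p M) := by
    haveI := hMs
    exact Group.isSolvable_of_isSolvable_injective
      (f := Subgroup.inclusion (opc_le p M)) (Subgroup.inclusion_injective _)
  have hKle : opc p M ≤ F :=
    hS.cent _ (le_inf (opc_le p M) hKC) (inf_le_left.trans (le_normalizer_opc p M)) hKs
  have h1 : opc p M ≤ opc p M ⊓ F := le_inf le_rfl hKle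
  rw [hKF] at h1
  exact le_bot_iff.mp h1

/-- if `O_{p'}(M) = 1` then the normalizer of a nontrivial Sylow `p`-subgroup of `M` lies in `M` -/
theorem normalizer_le_of_opc_eq_bot (hG : IsMinSimpleOddOrder G) (hM : IsCoatom M)
    (hK : opc p M = ⊥) {R : Subgroup G} (hR : IsSylowIn p M R) (hR1 : R ≠ ⊥) :
    Subgroup.normalizer (R : Set G) ≤ M := by
  have hMs : Group.IsSolvable M := ms_solvable hG hM.1
  have hp2 : p ≠ 2 := ms_prime_ne_two hG hR.2.1 hR1
  have h1 := le_opc_sup_normalizer_cen_pup hp2 hMs (ms_odd hG M) hR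
  rw [hK, bot_sup_eq] at h1
  have hT1 := cen_pup_ne_bot hR.2.1 hR1
  have hTM : Cfsg.Agent.Lib.Helper33.cen (Cfsg.Agent.Lib.Helper33.pup R) ≤ M :=
    (cen_pup_le R).trans hR.1
  have h2 := ms_normalizer_eq hG hM hT1 hTM h1
  rw [← h2]
  exact normalizer_le_normalizer_cen_pup R

/-- if `F(M)` is a nontrivial `p`-group then a Sylow `p`-subgroup of `M` is a Sylow `p`-subgroup
of `G` -/
theorem sylow_of_isPGroup_fittingOf (hG : IsMinSimpleOddOrder G) (hM : IsCoatom M)
    (hFp : IsPGroup p ↥(fittingOf M)) (hF1 : fittingOf M ≠ ⊥) (P : Sylow p M) :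
    (∀ T' : Subgroup G, IsPGroup p T' → (P : Subgroup M).map M.subtype ≤ T' →
        T' = (P : Subgroup M).map M.subtype) ∧
      ¬ p ∣ ((P : Subgroup M).map M.subtype).index := by
  set F := fittingOf M with hFdef
  set R := (P : Subgroup M).map M.subtype with hRdef
  have hS : Setup M F := ms_setup hG hM
  have hRM : IsSylowIn p M R := isSylowIn_of_sylow P
  have hRp : IsPGroup p R := hRM.2.1
  have hFR : F ≤ R := hRM.normal_le hS.le hFp hS.norm
  have hR1 : R ≠ ⊥ := fun h => hF1 (eq_bot_iff.mpr (h ▸ hFR))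
  have hK : opc p M = ⊥ := opc_eq_bot_of_isPGroup_fittingOf hG hM hFp
  have hNR : Subgroup.normalizer (R : Set G) ≤ M := normalizer_le_of_opc_eq_bot hG hM hK hRM hR1
  have hRG : ∀ T' : Subgroup G, IsPGroup p T' → R ≤ T' → T' = R := fun T' hT' hle =>
    hRM.eq_of_normalizer_le hT' hle (inf_le_right.trans hNR)
  let PG : Sylow p G := ⟨R, hRp, fun {Q} hQ hle => hRG Q hQ hle⟩
  exact ⟨hRG, PG.not_dvd_index⟩

/-- **Bender–Glauberman, Theorem 8.1 (b)** -/
theorem fitting_uniq_pgroup (hG : IsMinSimpleOddOrder G) (hM : IsCoatom M)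
    (hFp : IsPGroup p ↥(fittingOf M)) (hF1 : fittingOf M ≠ ⊥) (P : Sylow p M)
    (hscn : IsSCN ((P : Subgroup M).map M.subtype) A) (hA3 : ¬ PRankLE p 2 ↥A) :
    A ≤ fittingOf M ∧ ∀ H : Subgroup G, IsCoatom H → A ≤ H → H = M := by
  have hp : p.Prime := Fact.out
  obtain ⟨hRG, -⟩ := sylow_of_isPGroup_fittingOf hG hM hFp hF1 P
  set F := fittingOf M with hFdef
  set R := (P : Subgroup M).map M.subtype with hRdef
  have hS : Setup M F := ms_setup hG hM
  have hMs := ms_solvable hG hM.1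
  have hRM : IsSylowIn p M R := isSylowIn_of_sylow P
  have hRp : IsPGroup p R := hRM.2.1
  have hAp : IsPGroup p A := hRp.to_le hscn.1
  have hA1 : A ≠ ⊥ := by
    rintro rfl
    apply hA3
    intro E _ _
    have h1 : Nat.card E = 1 := by
      haveI : Subsingleton (⊥ : Subgroup G) := inferInstance
      haveI : Subsingleton E := inferInstance
      exact Nat.card_unique
    rw [h1]
    exact Nat.one_le_pow _ _ hp.pos
  have hK : opc p M = ⊥ := opc_eq_bot_of_isPGroup_fittingOf hG hM hFp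
  let PG : Sylow p G := ⟨R, hRp, fun {Q} hQ hle => hRG Q hQ hle⟩
  have hAcen : A ≤ Subgroup.centralizer (A : Set G) := fun a ha =>
    (Subgroup.mem_inf.mp (hscn.2.2.ge ha)).2
  have hAc : IsMulCommutative A := by
    refine ⟨⟨fun a b => ?_⟩⟩
    apply Subtype.ext
    show (a : G) * (b : G) = (b : G) * (a : G)
    exact (Subgroup.mem_centralizer_iff.mp (hAcen b.2) (a : G) a.2)
  have hAF : A ≤ F := by
    have h1 : A ≤ oppc p M :=
      le_oppc_of_abelian_normal hMs (ms_odd hG M) hRM hscn.1 hAc hscn.2.1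
    have h2 : pPrimeCore p ↥M = ⊥ := by
      unfold opc at hK
      exact (Subgroup.map_eq_bot_iff_of_injective _ M.subtype_injective).mp hK
    have h3 : oppc p M ≤ F := by
      unfold oppc
      rw [Cfsg.Agent.Lib.Helper15.pPrimePCore_eq_pCore_of_pPrimeCore_eq_bot p h2]
      exact Subgroup.map_mono (Cfsg.Agent.Lib.Helper01.pCore_le_fitting p)
    exact h1.trans h3
  refine ⟨hAF, ?_⟩
  have hFR : F ≤ R := hRM.normal_le hS.le hFp hS.norm
  have hCA : F ⊓ Subgroup.centralizer (A : Set G) ≤ A := by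
    calc F ⊓ Subgroup.centralizer (A : Set G) ≤ R ⊓ Subgroup.centralizer (A : Set G) :=
          inf_le_inf_right _ hFR
      _ = A := hscn.2.2
  have hpA : p ∣ Nat.card A := ms_prime_dvd_card hG hAp hA1
  have hpG : p ∣ Nat.card G := hpA.trans (Subgroup.card_subgroup_dvd_card A)
  obtain ⟨n, hn⟩ := IsPGroup.iff_card.mp hFp
  have hπ : primesNotDvd (Nat.card A) = primesNotDvd (Nat.card F) := by
    ext q
    constructor
    · rintro ⟨hq, hqA⟩
      refine ⟨hq, fun h => hqA ?_⟩
      rw [hn] at h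
      have : q = p := (Nat.prime_dvd_prime_iff_eq hq hp).mp (hq.dvd_of_dvd_pow h)
      rw [this]; exact hpA
    · rintro ⟨hq, hqF⟩
      exact ⟨hq, fun h => hqF (h.trans (Subgroup.card_dvd_of_le hAF))⟩
  have hnr1 : ¬ PRankLE p 1 ↥A := by
    intro h
    apply hA3
    intro E hEc hEp
    exact (h E hEc hEp).trans (Nat.pow_le_pow_right hp.pos (by norm_num))
  have hTH : TransitivityHypothesis A :=
    Cfsg.Agent.S1396.result hG p hpG A hAp hAc (Or.inr ⟨PG, hscn, hnr1⟩)
  have hAle : A ≤ A ⊓ Subgroup.centralizer (A : Set G) := le_inf le_rfl hAcen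
  have hZ : ¬ RankLE 2 ↥(A ⊓ Subgroup.centralizer (A : Set G)) := by
    intro h
    apply hA3
    exact pRankLE_of_inj (Subgroup.inclusion hAle) (Subgroup.inclusion_injective hAle) (h p hp)
  apply uniq_of_inv hG hM (hAF.trans hS.le) hAp hA1
  intro Y hY hAY
  have hcop : (Nat.card Y).Coprime (Nat.card F) := by
    rw [hn]; exact Nat.Coprime.pow_right n hY
  rw [setup_inv_eq_bot hG hM hS hF1 hAF hCA hπ hTH hZ hcop hAY]
  exact bot_le

end pgroup

end Cfsg.Agent.Lib.Helper55
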