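import Cfsg.Agent.Lib.Helper55.Uniq3
import Cfsg.Agent.Lib.Helper69.BGSigmaTrans
import Cfsg.Agent.Lib.Helper71.BG10Sub
import Cfsg.Agent.Lib.Helper38.PGroup

set_option autoImplicit false
set_option linter.unusedSectionVars false
set_option linter.style.haveILetI false
set_option linter.unusedVariables false

/-!
Bender–Glauberman Proposition 12.14 (a), (b), (c) (`sigma_subgroup_embedding`), from Theorem 10.1 (S1404),
the Hall property of `M_σ` (S1350) and Lemma 12.13 (S1423), all taken as hypotheses.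
-/

namespace Cfsg.Agent.Lib.Helper55

open Cfsg
open scoped commutatorElement
open Cfsg.Agent.Lib.Helper69.BG10 (Good exists_good_of_sigma exists_good_ge)
open Cfsg.Agent.Lib.Helper71.BG10 (sigma_pgroup_le_conj sylow_not_dvd_relIndex le_of_isPiHallOf_normal)

section emb

variable {G : Type*} [Group G] [Finite G] {q : ℕ} [Fact q.Prime]

/-- the conclusion of BG Theorem 10.1 (S1404) for the prime `q` and the subgroup `M` -/
def FusAt (q : ℕ) (M : Subgroup G) : Prop :=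
  ∀ Y : Subgroup G, IsPGroup q Y → Y ≠ ⊥ → Y ≤ M →
    (∀ g : G, cj g Y ≤ M → ∃ m ∈ M, ∃ c ∈ Subgroup.centralizer (Y : Set G), g = m * c) ∧
      Subgroup.normalizer (Y : Set G) =
        (M ⊓ Subgroup.normalizer (Y : Set G)) ⊔ Subgroup.centralizer (Y : Set G)

theorem FusAt.conj_eq {M Y : Subgroup G} (hf : FusAt q M) (hYq : IsPGroup q Y) (hY1 : Y ≠ ⊥)
    (hYM : Y ≤ M) {g : G} (hg : Y ≤ cj g M) :
    ∃ c ∈ Subgroup.centralizer (Y : Set G), cj g M = cj c M := by
  have h1 : cj g⁻¹ Y ≤ M := cj_le_iff.mpr (by simpa using hg)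
  obtain ⟨m, hm, c, hc, e⟩ := (hf Y hYq hY1 hYM).1 g⁻¹ h1
  refine ⟨c⁻¹, Subgroup.inv_mem _ hc, ?_⟩
  have hg' : g = c⁻¹ * m⁻¹ := by
    have : g⁻¹⁻¹ = (m * c)⁻¹ := by rw [e]
    simpa [mul_inv_rev] using this
  rw [hg', cj_mul, cj_eq_self_of_mem (M.inv_mem hm)]

theorem FusAt.normalizer_le {M Y : Subgroup G} (hf : FusAt q M) (hYq : IsPGroup q Y) (hY1 : Y ≠ ⊥)
    (hYM : Y ≤ M) (hC : Subgroup.centralizer (Y : Set G) ≤ M) :
    Subgroup.normalizer (Y : Set G) ≤ M := by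
  rw [(hf Y hYq hY1 hYM).2]
  exact sup_le inf_le_left hC

theorem IsSylowIn.card_le {K T Z : Subgroup G} (h : IsSylowIn q K T) (hZK : Z ≤ K)
    (hZ : IsPGroup q Z) : Nat.card Z ≤ Nat.card T := by
  obtain ⟨k, hk, hkZ⟩ := h.exists_conj_le hZK hZ
  rw [← card_cj k Z]
  exact Subgroup.card_le_of_le hkZ

/-- a nonabelian `q`-subgroup `Q` has a subgroup of order `q` inside `Q' ∩ Z(Q)` -/
theorem exists_card_prime_le_commutator_inf_center {Q : Subgroup G} (hQ : IsPGroup q Q)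
    (hna : ¬ ∀ a ∈ Q, ∀ b ∈ Q, a * b = b * a) :
    ∃ X₀ : Subgroup G, Nat.card X₀ = q ∧ X₀ ≤ ⁅Q, Q⁆ ∧ X₀ ≤ Q ∧
      X₀ ≤ Subgroup.centralizer (Q : Set G) := by
  have hN : commutator ↥Q ≠ ⊥ := by
    intro h
    apply hna
    intro a ha b hb
    have h1 : ⁅(⟨a, ha⟩ : ↥Q), ⟨b, hb⟩⁆ ∈ commutator ↥Q := by
      rw [commutator_def]
      exact Subgroup.commutator_mem_commutator (Subgroup.mem_top _) (Subgroup.mem_top _)
    rw [h, Subgroup.mem_bot, commutatorElement_eq_one_iff_mul_comm] at h1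
    have := congrArg Subtype.val h1
    simpa using this
  obtain ⟨x, hxN, hxZ, hx1⟩ :=
    Cfsg.Agent.Lib.Helper38.normal_inf_center_ne_bot q hQ (commutator ↥Q) hN
  -- the subgroup `D` of `G`
  let D : Subgroup G := (⁅Q, Q⁆ ⊓ Q) ⊓ Subgroup.centralizer (Q : Set G)
  have hxD : (x : G) ∈ D := by
    refine ⟨⟨?_, x.2⟩, ?_⟩
    · rw [← Subgroup.map_subtype_commutator]
      exact ⟨x, hxN, rfl⟩
    · show (x : G) ∈ Subgroup.centralizer (Q : Set G)
      rw [Subgroup.mem_centralizer_iff]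
      intro g hg
      have := Subgroup.mem_center_iff.mp hxZ ⟨g, hg⟩
      have := congrArg Subtype.val this
      simpa using this
  have hD1 : D ≠ ⊥ := by
    intro h
    rw [h, Subgroup.mem_bot] at hxD
    exact hx1 (Subtype.ext hxD)
  have hDq : IsPGroup q D := hQ.to_le (fun y hy => hy.1.2)
  haveI : Nontrivial ↥D := (Subgroup.nontrivial_iff_ne_bot D).mpr hD1
  obtain ⟨n, hn0, hn⟩ := hDq.nontrivial_iff_card.mp inferInstance
  have hdvd : q ∣ Nat.card ↥D := by rw [hn]; exact dvd_pow_self q hn0.ne'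
  obtain ⟨y, hy⟩ := exists_prime_orderOf_dvd_card' q hdvd
  refine ⟨Subgroup.zpowers (y : G), ?_, ?_, ?_, ?_⟩
  · rw [Nat.card_zpowers, Subgroup.orderOf_coe, hy]
  · rw [Subgroup.zpowers_le]; exact y.2.1.1
  · rw [Subgroup.zpowers_le]; exact y.2.1.2
  · rw [Subgroup.zpowers_le]; exact y.2.2

/-- **Bender–Glauberman, Proposition 12.14 (a), (b), (c)** -/
theorem sigma_embedding (hG : IsMinSimpleOddOrder G) {M : Subgroup G} (hM : IsCoatom M)
    (hq : q ∈ sigma M) (hf : FusAt q M)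
    (hHall : IsPiHallOf (sigma M) (sigmaCore M) M)
    (hMσ : M ≤ Subgroup.normalizer (sigmaCore M : Set G))
    (h13 : ∀ X₀ : Subgroup G, X₀ ≤ M → Nat.card X₀ = q → X₀ ≤ ⁅sigmaCore M, sigmaCore M⁆ →
      Subgroup.centralizer (X₀ : Set G) ≤ M)
    {X : Subgroup G} (hXq : IsPGroup q X) (hX1 : X ≠ ⊥) (hXM : X ≤ M)
    {Mstar : Subgroup G} (hMs : IsCoatom Mstar) (hne : Mstar ≠ M)
    (hNX : Subgroup.normalizer (X : Set G) ≤ Mstar)
    {S : Subgroup G} (hS : IsSylowIn q (M ⊓ Mstar) S) (hXS : X ≤ S) :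
    (∀ g : G, Mstar ≠ cj g M) ∧ Subgroup.normalizer (S : Set G) ≤ M ∧ ¬ q ∣ S.relIndex Mstar := by
  have hCX : Subgroup.centralizer (X : Set G) ≤ Mstar :=
    (Subgroup.centralizer_le_normalizer _).trans hNX
  have hXMs : X ≤ Mstar := Subgroup.le_normalizer.trans hNX
  have hSM : S ≤ M := hS.1.trans inf_le_left
  have hSMs : S ≤ Mstar := hS.1.trans inf_le_right
  have hS1 : S ≠ ⊥ := by
    intro h; apply hX1; rw [eq_bot_iff, ← h]; exact hXS
  have hCS : Subgroup.centralizer (S : Set G) ≤ Subgroup.centralizer (X : Set G) :=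
    Subgroup.centralizer_le hXS
  -- a conjugate of `M` containing `X` and normalized appropriately
  have key : ∀ g : G, X ≤ cj g M → ∃ c ∈ Mstar, cj g M = cj c M := by
    intro g hg
    obtain ⟨c, hc, e⟩ := hf.conj_eq hXq hX1 hXM hg
    exact ⟨c, hCX hc, e⟩
  refine ⟨?_, ?_, ?_⟩
  · -- (a)
    intro g hg
    obtain ⟨c, hc, e⟩ := key g (by rw [← hg]; exact hXMs)
    apply hne
    have h1 : cj c⁻¹ Mstar = M := by rw [hg, e, cj_inv_cj]
    rw [cj_eq_self_of_mem (Mstar.inv_mem hc)] at h1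
    exact h1
  · -- (b)
    obtain ⟨S₀, hS₀⟩ := exists_good_of_sigma hq
    obtain ⟨Q, hQ, hSQ⟩ := exists_good_ge hS₀ hS.2.1 hSM
    have hQq : IsPGroup q Q := hQ.1.2.1
    -- `C_Q(S) ≤ S`
    have hCQS : Q ⊓ Subgroup.centralizer (S : Set G) ≤ S := by
      have hD : (Q ⊓ Subgroup.centralizer (S : Set G)) ⊔ S ≤ M ⊓ Mstar := by
        refine sup_le (le_inf (inf_le_left.trans hQ.2.1) (inf_le_right.trans (hCS.trans hCX))) hS.1
      have hDq : IsPGroup q ↥((Q ⊓ Subgroup.centralizer (S : Set G)) ⊔ S) :=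
        hQq.to_le (sup_le inf_le_left hSQ)
      have := hS.2.2 _ hD hDq le_sup_right
      exact le_sup_left.trans this.le
    by_cases hab : ∀ a ∈ Q, ∀ b ∈ Q, a * b = b * a
    · -- `Q` abelian: `S = Q`
      have hQS : Q ≤ S := by
        refine le_trans (le_inf le_rfl ?_) hCQS
        intro a ha
        rw [Subgroup.mem_centralizer_iff]
        intro b hb
        exact hab b (hSQ hb) a ha
      have : S = Q := le_antisymm hSQ hQS
      rw [this]; exact hQ.2.2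
    · obtain ⟨X₀, hX₀c, hX₀d, hX₀Q, hX₀Z⟩ := exists_card_prime_le_commutator_inf_center hQq hab
      have hQσ : Q ≤ sigmaCore M := by
        refine le_of_isPiHallOf_normal hHall hMσ hQ.2.1 ?_
        intro r hr hrQ
        obtain ⟨n, hn⟩ := IsPGroup.iff_card.mp hQq
        rw [hn] at hrQ
        have : r = q := (Nat.prime_dvd_prime_iff_eq hr (Fact.out)).mp (hr.dvd_of_dvd_pow hrQ)
        rw [this]; exact hq
      have h1 : X₀ ≤ ⁅sigmaCore M, sigmaCore M⁆ :=
        hX₀d.trans (Subgroup.commutator_mono hQσ hQσ)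
      have h2 : Subgroup.centralizer (X₀ : Set G) ≤ M := h13 X₀ (hX₀Q.trans hQ.2.1) hX₀c h1
      have h3 : X₀ ≤ S := by
        refine le_trans (le_inf hX₀Q ?_) hCQS
        exact hX₀Z.trans (Subgroup.centralizer_le hSQ)
      have h4 : Subgroup.centralizer (S : Set G) ≤ M := (Subgroup.centralizer_le h3).trans h2
      exact hf.normalizer_le hS.2.1 hS1 hSM h4
  · -- (c)
    obtain ⟨Sstar, hSstar, hSS⟩ := exists_isSylowIn_ge hSMs hS.2.1
    obtain ⟨g, hg⟩ := sigma_pgroup_le_conj hq hSstar.2.1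
    obtain ⟨c, hc, e⟩ := key g (hXS.trans (hSS.trans hg))
    have h1 : cj c⁻¹ Sstar ≤ M ⊓ Mstar := by
      refine le_inf ?_ ?_
      · rw [cj_le_iff, inv_inv, ← e]; exact hg
      · have : cj c⁻¹ Mstar = Mstar := cj_eq_self_of_mem (Mstar.inv_mem hc)
        rw [← this]; exact cj_mono hSstar.1
    have h2 : Nat.card Sstar ≤ Nat.card S := by
      rw [← card_cj c⁻¹ Sstar]
      exact hS.card_le h1 (isPGroup_cj hSstar.2.1)
    have h3 : S = Sstar := Subgroup.eq_of_le_of_card_ge hSS h2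
    rw [h3]
    exact sylow_not_dvd_relIndex hSstar

end emb

end Cfsg.Agent.Lib.Helper55
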