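import Cfsg.Agent.Lib.Helper55.BG1213a
import Cfsg.Agent.Lib.Helper23.BG1213A
import Cfsg.Agent.Lib.Helper84.BG1213B

set_option autoImplicit false
set_option linter.unusedSectionVars false
set_option linter.style.haveILetI false
set_option linter.unusedVariables false

/-!
Bender–Glauberman Lemma 12.13 (`cent_der_sigma_uniq`), from the Uniqueness Theorem (S1403), the
structure of rank-two Sylow subgroups (S1412), normal complements in `M_σ` (S1414), the Hall property
of `M_σ` (S1350) and Theorem 12.12 (S1422), all taken as hypotheses.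
-/

namespace Cfsg.Agent.Lib.Helper55

open Cfsg
open scoped commutatorElement
open Cfsg.Agent.Lib.Helper99 (isEA_iff isEA_mono isEA_map isEA_sup isEA_isPGroup isEA_map_iff)
open Cfsg.Agent.Lib.Helper69.BG10 (Good exists_good_of_sigma exists_good_ge UniqThm
  not_rankLE_of_not_pRankLE card_lt_of_lt)
open Cfsg.Agent.Lib.Helper71.BG10 (le_of_isPiHallOf_normal)

universe u

section kd

variable {G : Type u} [Group G] [Finite G] {p : ℕ} [Fact p.Prime]

theorem isEA_of_card_prime {X : Subgroup G} (hX : Nat.card X = p) : IsElementaryAbelian p X := by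
  rw [isEA_iff]
  haveI : IsCyclic ↥X := isCyclic_of_prime_card hX
  refine ⟨?_, ?_⟩
  · intro a ha b hb
    have := (IsCyclic.commGroup (α := ↥X)).mul_comm ⟨a, ha⟩ ⟨b, hb⟩
    exact congrArg Subtype.val this
  · intro a ha
    have h1 : (⟨a, ha⟩ : ↥X) ^ Nat.card ↥X = 1 := pow_card_eq_one'
    rw [hX] at h1
    have := congrArg Subtype.val h1
    simpa using this

theorem isEA_cj (g : G) {A : Subgroup G} (hA : IsElementaryAbelian p A) :
    IsElementaryAbelian p (cj g A) :=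
  isEA_map (MulAut.conj g).toMonoidHom A hA

theorem uniq_of_not_pRankLE (hU : UniqThm G) {K : Subgroup G} (h3 : ¬ PRankLE p 2 ↥K)
    (hK : K ≠ ⊤) : InUniqueMaximal K := by
  obtain ⟨h1, h2⟩ := not_rankLE_of_not_pRankLE h3
  exact hU K hK h1 (Or.inl h2)

theorem uniq_of_elemAb (hU : UniqThm G) {B : Subgroup G} (hB : IsElementaryAbelian p B)
    (hB3 : p ^ 2 < Nat.card B) (hBtop : B ≠ ⊤) : InUniqueMaximal B := by
  rw [isEA_iff] at hB
  exact uniq_of_not_pRankLE hU (not_pRankLE_sub_iff.mpr ⟨B, le_rfl, hB.1, hB.2, hB3⟩) hBtop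

theorem exists_elemAb_of_not_pRankLE (h : ¬ PRankLE p 2 G) :
    ∃ A : Subgroup G, IsElementaryAbelian p A ∧ p ^ 2 < Nat.card A := by
  by_contra hcon
  apply h
  intro A hAc hAe
  by_contra h4
  exact hcon ⟨A, ⟨hAc, hAe⟩, not_le.mp h4⟩

/-- a subgroup of order `p` of the centre of a nontrivial `p`-group -/
theorem exists_card_prime_le_center {T : Subgroup G} (hT : IsPGroup p T) (hT1 : T ≠ ⊥) :
    ∃ Z : Subgroup G, Nat.card Z = p ∧ Z ≤ T ∧ Z ≤ Subgroup.centralizer (T : Set G) := by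
  have hN : (⊤ : Subgroup ↥T) ≠ ⊥ := by
    intro h
    apply hT1
    rw [eq_bot_iff]
    intro x hx
    have : (⟨x, hx⟩ : ↥T) ∈ (⊤ : Subgroup ↥T) := Subgroup.mem_top _
    rw [h, Subgroup.mem_bot] at this
    rw [Subgroup.mem_bot]
    exact congrArg Subtype.val this
  obtain ⟨x, -, hxZ, hx1⟩ :=
    Cfsg.Agent.Lib.Helper38.normal_inf_center_ne_bot p hT (⊤ : Subgroup ↥T) hN
  let D : Subgroup G := T ⊓ Subgroup.centralizer (T : Set G)
  have hxD : (x : G) ∈ D := by
    refine ⟨x.2, ?_⟩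
    show (x : G) ∈ Subgroup.centralizer (T : Set G)
    rw [Subgroup.mem_centralizer_iff]
    intro g hg
    have := Subgroup.mem_center_iff.mp hxZ ⟨g, hg⟩
    have := congrArg Subtype.val this
    simpa using this
  have hD1 : D ≠ ⊥ := by
    intro h
    rw [h, Subgroup.mem_bot] at hxD
    exact hx1 (Subtype.ext hxD)
  have hDq : IsPGroup p D := hT.to_le inf_le_left
  haveI : Nontrivial ↥D := (Subgroup.nontrivial_iff_ne_bot D).mpr hD1
  obtain ⟨n, hn0, hn⟩ := hDq.nontrivial_iff_card.mp inferInstance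
  have hdvd : p ∣ Nat.card ↥D := by rw [hn]; exact dvd_pow_self p hn0.ne'
  obtain ⟨y, hy⟩ := exists_prime_orderOf_dvd_card' p hdvd
  refine ⟨Subgroup.zpowers (y : G), ?_, ?_, ?_⟩
  · rw [Nat.card_zpowers, Subgroup.orderOf_coe, hy]
  · rw [Subgroup.zpowers_le]; exact y.2.1
  · rw [Subgroup.zpowers_le]; exact y.2.2

/-- for an ideal prime `p`, a subgroup of order `p` of a Sylow `p`-subgroup `T` lies in an elementary
abelian subgroup of `T` of order at least `p ^ 3` -/
theorem exists_elemAb_three_of_ideal (hid : IsIdealPrime p G) {T X : Subgroup G}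
    (hT : IsSylowIn p ⊤ T) (hXT : X ≤ T) (hX : Nat.card X = p) :
    ∃ B : Subgroup G, B ≤ T ∧ IsElementaryAbelian p B ∧ X ≤ B ∧ p ^ 2 < Nat.card B := by
  have hp : p.Prime := Fact.out
  have hTp : IsPGroup p T := hT.2.1
  have hXea : IsElementaryAbelian p X := isEA_of_card_prime hX
  have hX1 : X ≠ ⊥ := by
    intro h
    rw [h, Subgroup.card_bot] at hX
    exact hp.one_lt.ne hX
  have hT1 : T ≠ ⊥ := by
    intro h; apply hX1; rw [eq_bot_iff, ← h]; exact hXT
  obtain ⟨Z, hZc, hZT, hZZ⟩ := exists_card_prime_le_center hTp hT1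
  have hZea : IsElementaryAbelian p Z := isEA_of_card_prime hZc
  have hXZ : ∀ a ∈ X, ∀ b ∈ Z, a * b = b * a := by
    intro a ha b hb
    exact Subgroup.mem_centralizer_iff.mp (hZZ hb) a (hXT ha)
  have hA : IsElementaryAbelian p (X ⊔ Z) := isEA_sup hXea hZea hXZ
  by_cases hXeqZ : X = Z
  · -- `X` is central in `T`
    obtain ⟨B₀, hB₀, hB₀3⟩ := exists_elemAb_of_not_pRankLE hid.2.1
    obtain ⟨k, -, hk⟩ := hT.exists_conj_le le_top (isEA_isPGroup hB₀)
    have hB₁ : IsElementaryAbelian p (cj k B₀) := isEA_cj k hB₀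
    refine ⟨X ⊔ cj k B₀, sup_le hXT hk, ?_, le_sup_left, ?_⟩
    · refine isEA_sup hXea hB₁ ?_
      intro a ha b hb
      rw [hXeqZ] at ha
      exact (Subgroup.mem_centralizer_iff.mp (hZZ ha) b (hk hb)).symm
    · calc p ^ 2 < Nat.card B₀ := hB₀3
        _ = Nat.card (cj k B₀) := (card_cj k B₀).symm
        _ ≤ Nat.card ↥(X ⊔ cj k B₀) := Subgroup.card_le_of_le le_sup_right
  · have hlt : X < X ⊔ Z := by
      refine lt_of_le_of_ne le_sup_left ?_
      intro e
      apply hXeqZ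
      have hZX : Z ≤ X := by rw [e]; exact le_sup_right
      exact (Subgroup.eq_of_le_of_card_ge hZX (by rw [hX, hZc])).symm
    by_cases h3 : p ^ 2 < Nat.card ↥(X ⊔ Z)
    · exact ⟨X ⊔ Z, sup_le hXT hZT, hA, le_sup_left, h3⟩
    · have hcard : Nat.card ↥(X ⊔ Z) = p ^ 2 := by
        obtain ⟨n, hn⟩ := IsPGroup.iff_card.mp (isEA_isPGroup hA)
        have h1 : p ^ 1 < p ^ n := by
          rw [pow_one, ← hn, ← hX]; exact card_lt_of_lt hlt
        have h2 : p ^ n ≤ p ^ 2 := by rw [← hn]; exact not_lt.mp h3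
        have h1' : 1 < n := (Nat.pow_lt_pow_iff_right hp.one_lt).mp h1
        have h2' : n ≤ 2 := (Nat.pow_le_pow_iff_right hp.one_lt).mp h2
        have : n = 2 := by omega
        rw [hn, this]
      obtain ⟨B, hBT, hBea, hAB⟩ :=
        hid.2.2 ⟨T, hTp, fun {Q} hQ hle => hT.2.2 Q le_top hQ hle⟩ (X ⊔ Z) (sup_le hXT hZT) hA hcard
      refine ⟨B, hBT, hBea, le_sup_left.trans hAB.le, ?_⟩
      rw [← hcard]; exact card_lt_of_lt hAB

end kd

section glue

variable {G : Type u} [Group G] [Finite G] {p : ℕ} [Fact p.Prime]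

/-- the conclusion of S1412 for a Sylow `p`-subgroup, as a proposition about the subgroup -/
def RankTwoStruct (p : ℕ) (T : Subgroup G) : Prop :=
  IsMulCommutative T ∨ ∃ P₁ P₂ : Subgroup G, P₁ ⊔ P₂ = T ∧ (∀ a ∈ P₁, ∀ b ∈ P₂, a * b = b * a) ∧
    ¬ IsMulCommutative P₁ ∧ Nat.card P₁ = p ^ 3 ∧ Monoid.exponent P₁ = p ∧ IsCyclic P₂ ∧
    Subgroup.closure {x : G | x ∈ P₂ ∧ x ^ p = 1} = P₁ ⊓ Subgroup.centralizer (P₁ : Set G)

theorem isSylowIn_top_toSylow {T : Subgroup G} (hT : IsSylowIn p ⊤ T) :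
    ∃ P : Sylow p G, (P : Subgroup G) = T :=
  ⟨⟨T, hT.2.1, fun {Q} hQ hle => hT.2.2 Q le_top hQ hle⟩, rfl⟩

/-- a subgroup `X` of order `p` lying in `T'` for a rank-two Sylow subgroup `T` is central in `T` -/
theorem le_centralizer_of_rankTwoStruct {T X : Subgroup G} (hs : RankTwoStruct p T)
    (hna : ¬ IsMulCommutative T) (hX : X ≤ ⁅T, T⁆) : T ≤ Subgroup.centralizer (X : Set G) := by
  rcases hs with h | ⟨P₁, P₂, hsup, hcomm, -, hc3, -, hcyc, -⟩
  · exact absurd h hna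
  · have h₂ : ∀ a ∈ P₂, ∀ b ∈ P₂, a * b = b * a := by
      intro a ha b hb
      haveI := hcyc
      have := (IsCyclic.commGroup (α := ↥P₂)).mul_comm ⟨a, ha⟩ ⟨b, hb⟩
      exact congrArg Subtype.val this
    have h1 := commutator_le_centralizer_of_cprod (p := p) hcomm hc3 h₂
    rw [hsup] at h1
    exact le_centralizer_symm (hX.trans h1)

/-- transport a maximal elementary abelian subgroup of order `p ^ 2` from a Sylow subgroup to a
conjugate one, as a subgroup of the subtype -/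
theorem exists_maxElemAb_sq_subtype {T : Subgroup G} (hT : IsSylowIn p ⊤ T)
    (hnid : ¬ IsIdealPrime p G) (h3 : ¬ PRankLE p 2 G) :
    ∃ E : Subgroup ↥T, IsElementaryAbelian p E ∧ Nat.card E = p ^ 2 ∧
      ∀ B : Subgroup ↥T, IsElementaryAbelian p B → E ≤ B → B = E := by
  have hp : p.Prime := Fact.out
  have hex : ∃ (P₀ : Sylow p G) (A : Subgroup G), A ≤ (P₀ : Subgroup G) ∧ IsElementaryAbelian p A ∧
      Nat.card A = p ^ 2 ∧
      ∀ B : Subgroup G, B ≤ (P₀ : Subgroup G) → IsElementaryAbelian p B → ¬ A < B := by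
    by_contra hcon
    apply hnid
    refine ⟨hp, h3, ?_⟩
    intro P₀ A hAP hAea hA2
    by_contra hcon2
    exact hcon ⟨P₀, A, hAP, hAea, hA2, fun B hB hBea hlt => hcon2 ⟨B, hB, hBea, hlt⟩⟩
  obtain ⟨P₀, A, hAP, hAea, hA2, hAmax⟩ := hex
  have hP₀ : IsSylowIn p ⊤ (P₀ : Subgroup G) := isSylowIn_of_sylow_le P₀ le_top
  obtain ⟨k, -, hk⟩ := hP₀.exists_conj hT
  have hET : cj k A ≤ T := by rw [← hk]; exact cj_mono hAP
  have hEea : IsElementaryAbelian p (cj k A) := isEA_cj k hAea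
  have hmapE : ((cj k A).subgroupOf T).map T.subtype = cj k A :=
    Subgroup.map_subgroupOf_eq_of_le hET
  refine ⟨(cj k A).subgroupOf T, ?_, ?_, ?_⟩
  · rw [← isEA_map_iff T.subtype T.subtype_injective, hmapE]; exact hEea
  · rw [← Subgroup.card_map_of_injective T.subtype_injective, hmapE, card_cj, hA2]
  · intro B hBea hEB
    have hBT : B.map T.subtype ≤ T := Subgroup.map_subtype_le _
    have hBea' : IsElementaryAbelian p (B.map T.subtype) := isEA_map _ _ hBea
    have hEB' : cj k A ≤ B.map T.subtype := by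
      rw [← hmapE]; exact Subgroup.map_mono hEB
    -- move back to `P₀`
    have h1 : cj k⁻¹ (B.map T.subtype) ≤ (P₀ : Subgroup G) := by
      rw [cj_le_iff, inv_inv, hk]; exact hBT
    have h2 : A ≤ cj k⁻¹ (B.map T.subtype) := by
      rw [le_cj_iff, inv_inv]; exact hEB'
    have h3 : ¬ A < cj k⁻¹ (B.map T.subtype) := hAmax _ h1 (isEA_cj k⁻¹ hBea')
    have h4 : A = cj k⁻¹ (B.map T.subtype) := by
      by_contra hne
      exact h3 (lt_of_le_of_ne h2 hne)
    have h5 : cj k A = B.map T.subtype := by rw [h4, cj_cj_inv]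
    apply Subgroup.map_injective T.subtype_injective
    rw [hmapE, h5]

/-- **Bender–Glauberman, Lemma 12.13**: the core argument -/
theorem cent_sigma_uniq_core (hG : IsMinSimpleOddOrder G) (hU : UniqThm G)
    (h12 : ∀ Q : Subgroup G, IsPGroup p Q → ¬ IsMulCommutative Q → InUniqueMaximal Q)
    (h1412 : ∀ P : Sylow p G, PRankLE p 2 (P : Subgroup G) → RankTwoStruct p (P : Subgroup G))
    {M : Subgroup G} (hM : IsCoatom M) (hp : p ∈ sigma M)
    (hHall : IsPiHallOf (sigma M) (sigmaCore M) M)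
    (hMσ : M ≤ Subgroup.normalizer (sigmaCore M : Set G))
    (hnpc : p ∉ beta M → HasNormalPComplement p ↥(sigmaCore M))
    {X : Subgroup G} (hXM : X ≤ M) (hX : Nat.card X = p)
    (h : p ∈ beta M ∨ X ≤ ⁅sigmaCore M, sigmaCore M⁆) :
    ∃ T : Subgroup G, Good p T M ∧ T ≤ sigmaCore M ∧ InUniqueMaximal T ∧
      ∃ K : Subgroup G, K ≤ Subgroup.centralizer (X : Set G) ∧ K ≤ M ∧ InUniqueMaximal K := by
  have hp' : p.Prime := Fact.out
  have hXp : IsPGroup p X := IsPGroup.of_card (n := 1) (by rw [hX, pow_one])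
  have hX1 : X ≠ ⊥ := by
    intro h0
    rw [h0, Subgroup.card_bot] at hX
    exact hp'.one_lt.ne hX
  have hp2 : p ≠ 2 := ms_prime_ne_two hG hXp hX1
  obtain ⟨S₀, hS₀⟩ := exists_good_of_sigma hp
  obtain ⟨T, hT, hXT⟩ := exists_good_ge hS₀ hXp hXM
  have hTp : IsPGroup p T := hT.1.2.1
  have hTM : T ≤ M := hT.2.1
  have hTtop : T ≠ ⊤ := fun e => hM.1 (eq_top_iff.mpr (e ▸ hTM))
  have hTσ : T ≤ sigmaCore M := by
    refine le_of_isPiHallOf_normal hHall hMσ hTM ?_
    intro r hr hrT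
    obtain ⟨n, hn⟩ := IsPGroup.iff_card.mp hTp
    rw [hn] at hrT
    have : r = p := (Nat.prime_dvd_prime_iff_eq hr hp').mp (hr.dvd_of_dvd_pow hrT)
    rw [this]; exact hp
  have hletop : ∀ {B : Subgroup G}, B ≤ T → B ≠ ⊤ := fun hB e => hTtop (eq_top_iff.mpr (e ▸ hB))
  by_cases hβ : p ∈ beta M
  · -- `p ∈ β(M)`
    have hid : IsIdealPrime p G := hβ.2
    obtain ⟨B, hBT, hBea, hXB, hB3⟩ := exists_elemAb_three_of_ideal hid hT.1 hXT hX
    have hBea' := (isEA_iff B).mp hBea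
    have hT3 : ¬ PRankLE p 2 ↥T := not_pRankLE_sub_iff.mpr ⟨B, hBT, hBea'.1, hBea'.2, hB3⟩
    refine ⟨T, hT, hTσ, uniq_of_not_pRankLE hU hT3 hTtop, B, ?_, hBT.trans hTM,
      uniq_of_elemAb hU hBea hB3 (hletop hBT)⟩
    intro b hb
    rw [Subgroup.mem_centralizer_iff]
    intro x hx
    exact hBea'.1 x (hXB hx) b hb
  · -- `X ≤ (M_σ)'`, `p ∉ β(M)`
    have hX' : X ≤ ⁅sigmaCore M, sigmaCore M⁆ := h.resolve_left hβ
    have hN := hnpc hβ
    have hTsylσ : IsSylowIn p (sigmaCore M) T :=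
      ⟨hTσ, hTp, fun T' _ hT'p hle => hT.1.2.2 T' le_top hT'p hle⟩
    -- `X ≤ T'`
    have hXTT : X ≤ ⁅T, T⁆ := by
      intro x hx
      have hxσ : x ∈ sigmaCore M := hTσ (hXT hx)
      have h1 : (⟨x, hxσ⟩ : ↥(sigmaCore M)) ∈ commutator ↥(sigmaCore M) := by
        have h2 := hX' hx
        rw [← Subgroup.map_subtype_commutator] at h2
        obtain ⟨y, hy, hyx⟩ := h2
        have : y = ⟨x, hxσ⟩ := Subtype.ext hyx
        rwa [← this]
      have h3 := Cfsg.Agent.Lib.Helper84.BG1213.mem_commutator_sylow_of_npc p hN hTsylσ.toSylow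
        ⟨x, hxσ⟩ (by rw [hTsylσ.coe_toSylow, Subgroup.mem_subgroupOf]; exact hXT hx) h1
      have h4 : x ∈ (⁅(hTsylσ.toSylow : Subgroup ↥(sigmaCore M)),
          (hTsylσ.toSylow : Subgroup ↥(sigmaCore M))⁆).map (sigmaCore M).subtype := ⟨_, h3, rfl⟩
      rwa [Subgroup.map_commutator, hTsylσ.map_toSylow] at h4
    have hTna : ¬ IsMulCommutative T := by
      intro hc
      apply hX1
      rw [eq_bot_iff]
      refine hXTT.trans ?_
      rw [Subgroup.commutator_eq_bot_iff_le_centralizer.mpr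
        (Subgroup.le_centralizer_iff_isMulCommutative.mpr hc)]
    have hTU : InUniqueMaximal T := h12 T hTp hTna
    by_cases hr : PRankLE p 2 ↥T
    · -- rank two: `X ≤ Z(T)`
      obtain ⟨TS, hTS⟩ := isSylowIn_top_toSylow hT.1
      have hs : RankTwoStruct p T := by
        have := h1412 TS (by rw [hTS]; exact hr)
        rwa [hTS] at this
      exact ⟨T, hT, hTσ, hTU, T, le_centralizer_of_rankTwoStruct hs hTna hXTT, hTM, hTU⟩
    · -- rank at least three and `p` not ideal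
      obtain ⟨E₀, hE₀T, hE₀c, hE₀e, hE₀3⟩ := not_pRankLE_sub_iff.mp hr
      have h3G : ¬ PRankLE p 2 G := by
        intro hG2
        have hcomm : IsMulCommutative ↥E₀ :=
          (((isEA_iff (p := p) E₀).mpr ⟨hE₀c, hE₀e⟩) : IsElementaryAbelian p E₀).1
        exact absurd (hG2 E₀ hcomm hE₀e) (not_le.mpr hE₀3)
      have hα : p ∈ alpha M :=
        ⟨hp', not_pRankLE_sub_iff.mpr ⟨E₀, hE₀T.trans hTM, hE₀c, hE₀e, hE₀3⟩⟩
      have hnid : ¬ IsIdealPrime p G := fun hid => hβ ⟨hα, hid⟩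
      obtain ⟨E, hEea, hE2, hEmax⟩ := exists_maxElemAb_sq_subtype hT.1 hnid h3G
      -- a generator of `X`
      obtain ⟨x, hxX, hx1⟩ : ∃ x ∈ X, x ≠ 1 := by
        obtain ⟨x, hx⟩ := (Subgroup.ne_bot_iff_exists_ne_one).mp hX1
        exact ⟨x, x.2, fun e => hx (Subtype.ext e)⟩
      have hXea := (isEA_iff X).mp (isEA_of_card_prime hX)
      have hxp : x ^ p = 1 := hXea.2 x hxX
      have hzX : Subgroup.zpowers x = X := by
        refine Subgroup.eq_of_le_of_card_ge ((Subgroup.zpowers_le).mpr hxX) ?_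
        rw [Nat.card_zpowers, hX, orderOf_eq_prime hxp hx1]
      have hxT : x ∈ T := hXT hxX
      have hx' : (⟨x, hxT⟩ : ↥T) ∈ commutator ↥T := by
        have h2 := hXTT hxX
        rw [← Subgroup.map_subtype_commutator] at h2
        obtain ⟨y, hy, hyx⟩ := h2
        have : y = ⟨x, hxT⟩ := Subtype.ext hyx
        rwa [← this]
      have hxp' : (⟨x, hxT⟩ : ↥T) ^ p = 1 := Subtype.ext (by simpa using hxp)
      have hKA := Cfsg.Agent.Lib.Helper23.BG1213.not_pRankLE_two_centralizer_of_mem_commutator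
        (R := ↥T) p hp2 hTp hr E hEea hE2 hEmax
        ⟨x, hxT⟩ hx' hxp'
      obtain ⟨B', hB'C, hB'c, hB'e, hB'3⟩ := not_pRankLE_sub_iff.mp hKA
      have hB'ea : IsElementaryAbelian p B' := (isEA_iff B').mpr ⟨hB'c, hB'e⟩
      have hBea : IsElementaryAbelian p (B'.map T.subtype) := isEA_map _ _ hB'ea
      have hBT : B'.map T.subtype ≤ T := Subgroup.map_subtype_le _
      have hB3 : p ^ 2 < Nat.card (B'.map T.subtype) := by
        rw [Subgroup.card_map_of_injective T.subtype_injective]; exact hB'3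
      refine ⟨T, hT, hTσ, hTU, B'.map T.subtype, ?_, hBT.trans hTM,
        uniq_of_elemAb hU hBea hB3 (hletop hBT)⟩
      apply le_centralizer_symm
      rw [← hzX, Subgroup.zpowers_le, Subgroup.mem_centralizer_iff]
      rintro _ ⟨b, hb, rfl⟩
      have := Subgroup.mem_centralizer_iff.mp (hB'C hb) ⟨x, hxT⟩ rfl
      have := congrArg Subtype.val this.symm
      simpa using this

/-- **Bender–Glauberman, Lemma 12.13** in the shape of statement S1423 -/
theorem cent_sigma_uniq (hG : IsMinSimpleOddOrder G) (hU : UniqThm G)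
    (h12 : ∀ Q : Subgroup G, IsPGroup p Q → ¬ IsMulCommutative Q → InUniqueMaximal Q)
    (h1412 : ∀ P : Sylow p G, PRankLE p 2 (P : Subgroup G) → RankTwoStruct p (P : Subgroup G))
    {M : Subgroup G} (hM : IsCoatom M) (hp : p ∈ sigma M)
    (hHall : IsPiHallOf (sigma M) (sigmaCore M) M)
    (hMσ : M ≤ Subgroup.normalizer (sigmaCore M : Set G))
    (hnpc : p ∉ beta M → HasNormalPComplement p ↥(sigmaCore M))
    {X : Subgroup G} (hXM : X ≤ M) (hX : Nat.card X = p)
    (P : Sylow p ↥(sigmaCore M))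
    (h : p ∈ beta M ∨ X ≤ ⁅sigmaCore M, sigmaCore M⁆) :
    (Subgroup.centralizer (X : Set G) ≤ M ∧
      ∀ L : Subgroup G, IsCoatom L → Subgroup.centralizer (X : Set G) ≤ L → L = M) ∧
      InUniqueMaximal ((P : Subgroup ↥(sigmaCore M)).map (sigmaCore M).subtype) ∧
      (P : Subgroup ↥(sigmaCore M)).map (sigmaCore M).subtype ≤ M := by
  have hp' : p.Prime := Fact.out
  have hX1 : X ≠ ⊥ := by
    intro h0
    rw [h0, Subgroup.card_bot] at hX
    exact hp'.one_lt.ne hX
  obtain ⟨T, hT, hTσ, hTU, K, hKX, hKM, hKU⟩ :=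
    cent_sigma_uniq_core hG hU h12 h1412 hM hp hHall hMσ hnpc hXM hX h
  refine ⟨centralizer_uniq_of_le hG hM hX1 hKX hKU hKM, ?_, ?_⟩
  · have hTsylσ : IsSylowIn p (sigmaCore M) T :=
      ⟨hTσ, hT.1.2.1, fun T' _ hT'p hle => hT.1.2.2 T' le_top hT'p hle⟩
    obtain ⟨k, -, hk⟩ := hTsylσ.exists_conj (isSylowIn_of_sylow P)
    rw [← hk]
    exact inUniqueMaximal_cj k hTU
  · exact (Subgroup.map_subtype_le _).trans (Subgroup.map_subtype_le _)

end glue

end Cfsg.Agent.Lib.Helper55
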