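import Cfsg.Agent.S1423
import Cfsg.Agent.Lib.Helper55.BG1213b

set_option autoImplicit false
set_option linter.unusedSectionVars false
set_option linter.style.haveILetI false
set_option linter.unusedVariables false

/-!
Keystone 142810 (K-S1428-G9): a prime in `σ(M) ∩ σ(H)` for non-conjugate maximal subgroups `M`, `H`.
-/

namespace Cfsg.Agent.Lib.Helper55.BG134

open Cfsg Cfsg.Agent.Lib.Helper55
open scoped commutatorElement
open Cfsg.Agent.Lib.Helper69.BG10 (Good exists_good_of_sigma exists_good_ge)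
open Cfsg.Agent.Lib.Helper71.BG10 (le_of_isPiHallOf_normal)

variable {G : Type*} [Group G] [Finite G]

theorem comm_of_sigma_sigma (hG : IsMinSimpleOddOrder G) {M H : Subgroup G} (hM : IsCoatom M)
    (hH : IsCoatom H) (hnc : ∀ g : G, cj g M ≠ H) {q : ℕ} [Fact q.Prime] (hqM : q ∈ sigma M)
    (hqH : q ∈ sigma H) :
    q ∉ beta M ∧ ¬ q ∣ Nat.card ↥⁅sigmaCore M, sigmaCore M⁆ ∧
      ∀ Q : Subgroup G, Q ≤ M → IsPGroup q Q → ∀ a ∈ Q, ∀ b ∈ Q, a * b = b * a := by
  have hq : q.Prime := Fact.out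
  have hHall := (Cfsg.Agent.S1350.result hG M hM).1
  have hMσ : M ≤ Subgroup.normalizer (sigmaCore M : Set G) :=
    Cfsg.Agent.Lib.Helper31.le_normalizer_piCoreOf (sigma M) M
  have hle_σ : ∀ {Q : Subgroup G}, Q ≤ M → IsPGroup q Q → Q ≤ sigmaCore M := by
    intro Q hQM hQq
    refine le_of_isPiHallOf_normal hHall hMσ hQM ?_
    intro r hr hrQ
    obtain ⟨n, hn⟩ := IsPGroup.iff_card.mp hQq
    rw [hn] at hrQ
    have : r = q := (Nat.prime_dvd_prime_iff_eq hr hq).mp (hr.dvd_of_dvd_pow hrQ)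
    rw [this]; exact hqM
  obtain ⟨T, hT⟩ := exists_good_of_sigma hqM
  obtain ⟨T', hT'⟩ := exists_good_of_sigma hqH
  have hTp : IsPGroup q T := hT.1.2.1
  have hTM : T ≤ M := hT.2.1
  have hTσ : T ≤ sigmaCore M := hle_σ hTM hTp
  have hTsylσ : IsSylowIn q (sigmaCore M) T :=
    ⟨hTσ, hTp, fun T₁ _ hT₁p hle => hT.1.2.2 T₁ le_top hT₁p hle⟩
  -- `T` is not a uniqueness subgroup
  have hnotU : ¬ InUniqueMaximal T := by
    intro hTU
    obtain ⟨g, -, hg⟩ := hT.1.exists_conj hT'.1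
    have h1 : T ≤ cj g⁻¹ H := by
      rw [← cj_le_iff, hg]; exact hT'.2.1
    have h2 : cj g⁻¹ H = M := inUniqueMaximal_eq_of_le hTU hM hTM (isCoatom_cj g⁻¹ hH) h1
    apply hnc g
    rw [← h2, cj_cj_inv]
  -- a subgroup of order `q` of `T`
  have hT1 : T ≠ ⊥ := by
    intro h0
    have hdvd : q ∣ Nat.card M := hqM.2.1
    obtain ⟨x, hx⟩ := exists_prime_orderOf_dvd_card' q hdvd
    have hZ : Subgroup.zpowers (x : G) ≤ M := by
      rw [Subgroup.zpowers_le]; exact x.2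
    have hZq : IsPGroup q ↥(Subgroup.zpowers (x : G)) :=
      IsPGroup.of_card (n := 1) (by rw [Nat.card_zpowers, Subgroup.orderOf_coe, hx, pow_one])
    obtain ⟨k, hk, hkZ⟩ := (hT.sylowIn).exists_conj_le hZ hZq
    rw [h0, le_bot_iff] at hkZ
    have h3 : Subgroup.zpowers (x : G) = ⊥ := by
      have := congrArg (cj k⁻¹) hkZ
      rwa [cj_inv_cj, cj_bot] at this
    have h4 : Nat.card ↥(Subgroup.zpowers (x : G)) = 1 := by rw [h3, Subgroup.card_bot]
    rw [Nat.card_zpowers, Subgroup.orderOf_coe, hx] at h4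
    exact hq.one_lt.ne' h4
  have hmapP : ((hTsylσ.toSylow : Sylow q ↥(sigmaCore M)) : Subgroup ↥(sigmaCore M)).map
      (sigmaCore M).subtype = T := hTsylσ.map_toSylow
  have hβ : q ∉ beta M := by
    intro hβ
    obtain ⟨X, hXc, hXT, -⟩ := exists_card_prime_le_center hTp hT1
    have := (Cfsg.Agent.S1423.result hG M hM q hqM X (hXT.trans hTM) hXc hTsylσ.toSylow
      (Or.inl hβ)).2.1
    rw [hmapP] at this
    exact hnotU this
  have hder : ¬ q ∣ Nat.card ↥⁅sigmaCore M, sigmaCore M⁆ := by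
    intro hdvd
    obtain ⟨x, hx⟩ := exists_prime_orderOf_dvd_card' q hdvd
    have hXc : Nat.card ↥(Subgroup.zpowers (x : G)) = q := by
      rw [Nat.card_zpowers, Subgroup.orderOf_coe, hx]
    have hXd : Subgroup.zpowers (x : G) ≤ ⁅sigmaCore M, sigmaCore M⁆ := by
      rw [Subgroup.zpowers_le]; exact x.2
    have hσM : sigmaCore M ≤ M := Subgroup.map_subtype_le _
    have hder_le : ⁅sigmaCore M, sigmaCore M⁆ ≤ sigmaCore M := by
      rw [Subgroup.commutator_le]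
      intro a ha b hb
      rw [commutatorElement_def]
      exact mul_mem (mul_mem (mul_mem ha hb) (inv_mem ha)) (inv_mem hb)
    have hXM : Subgroup.zpowers (x : G) ≤ M := hXd.trans (hder_le.trans hσM)
    have := (Cfsg.Agent.S1423.result hG M hM q hqM _ hXM hXc hTsylσ.toSylow (Or.inr hXd)).2.1
    rw [hmapP] at this
    exact hnotU this
  refine ⟨hβ, hder, ?_⟩
  intro Q hQM hQq a ha b hb
  have hQσ : Q ≤ sigmaCore M := hle_σ hQM hQq
  have hc : ⁅a, b⁆ ∈ ⁅sigmaCore M, sigmaCore M⁆ :=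
    Subgroup.commutator_mem_commutator (hQσ ha) (hQσ hb)
  have hcQ : ⁅a, b⁆ ∈ Q := by
    rw [commutatorElement_def]
    exact Q.mul_mem (Q.mul_mem (Q.mul_mem ha hb) (Q.inv_mem ha)) (Q.inv_mem hb)
  -- the order of `⁅a, b⁆` is a power of `q` dividing a number prime to `q`
  obtain ⟨k, hk⟩ := (hQq ⟨⁅a, b⁆, hcQ⟩)
  have hk' : ⁅a, b⁆ ^ q ^ k = 1 := by
    have := congrArg Subtype.val hk
    simpa using this
  have h1 : orderOf (⁅a, b⁆) ∣ q ^ k := orderOf_dvd_of_pow_eq_one hk'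
  have h2 : orderOf (⁅a, b⁆) ∣ Nat.card ↥⁅sigmaCore M, sigmaCore M⁆ := by
    have := orderOf_dvd_natCard (⟨⁅a, b⁆, hc⟩ : ↥⁅sigmaCore M, sigmaCore M⁆)
    rwa [Subgroup.orderOf_mk] at this
  have h3 : orderOf (⁅a, b⁆) = 1 := by
    obtain ⟨j, -, hj⟩ := (Nat.dvd_prime_pow hq).mp h1
    rcases Nat.eq_zero_or_pos j with h0 | hpos
    · rw [hj, h0, pow_zero]
    · exfalso
      apply hder
      refine dvd_trans ?_ h2
      rw [hj]; exact dvd_pow_self q hpos.ne'
  have h4 : ⁅a, b⁆ = 1 := orderOf_eq_one_iff.mp h3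
  exact (commutatorElement_eq_one_iff_mul_comm.mp h4)

end Cfsg.Agent.Lib.Helper55.BG134
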