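import Mathlib
import Cfsg.Agent.S1350
import Cfsg.Agent.Lib.Helper31.BG134Defs2
import Cfsg.Agent.Lib.Helper31.Transitivity
import Cfsg.Agent.Lib.Helper55.SylowIn
import Cfsg.Agent.Lib.Helper55.Uniq2
import Cfsg.Agent.Lib.Helper13.BG12A
import Cfsg.Agent.Lib.Helper13.BG12B
import Cfsg.Agent.Lib.Helper01.CoprimeSylow
import Cfsg.Agent.Lib.Helper71.BG11a

/-!
# BG Lemma 13.4 (S1428), keystone K-S1428-A2: a complement of `M_σ` containing `P` and normalizing `Sq`
-/

set_option autoImplicit false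
set_option linter.unusedSectionVars false
set_option linter.style.haveILetI false
set_option linter.unusedVariables false

namespace Cfsg.Agent.Lib.Helper55.BG134

open Cfsg Cfsg.Agent.Lib.Helper55 Cfsg.Agent.Lib.Helper31.BG134
open scoped Pointwise

variable {G : Type*} [Group G] [Finite G]

/-- a `q`-subgroup of `L` containing a Sylow `q`-subgroup of `L` (index form) equals it -/
theorem a2_eq_of_sylow_le {q : ℕ} [Fact q.Prime] {S' S L : Subgroup G}
    (h : Cfsg.Agent.Lib.Helper01.IsSylowIn q S' L) (hSL : S ≤ L) (hS : IsPGroup q S)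
    (hle : S' ≤ S) : S = S' := by
  have h1 : (h.toSylow : Subgroup L) = S'.subgroupOf L := rfl
  have h2 : S.subgroupOf L = (h.toSylow : Subgroup L) :=
    h.toSylow.is_maximal' hS.comap_subtype (by rw [h1]; exact Subgroup.comap_mono hle)
  rw [h1, Subgroup.subgroupOf_inj, inf_of_le_left hSL, inf_of_le_left h.1] at h2
  exact h2

/-- conjugating a complement of the `M`-invariant subgroup `S` by an element of `M` -/
theorem a2_complIn_conj {E₁ S M : Subgroup G} (h : IsComplIn E₁ S M)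
    (hn : M ≤ Subgroup.normalizer (S : Set G))
    (hcop : (Nat.card E₁).Coprime (Nat.card S)) {c : G} (hc : c ∈ M) :
    IsComplIn (MulAut.conj c • E₁) S M := by
  have hcard : Nat.card ↥(MulAut.conj c • E₁) = Nat.card E₁ :=
    (Nat.card_congr (Subgroup.equivSMul (MulAut.conj c) E₁).toEquiv).symm
  refine Cfsg.Agent.Lib.Helper13.BG12.isComplIn_of_card ?_ h.2.1 hn ?_ ?_
  · intro x hx
    rw [Subgroup.mem_pointwise_smul_iff_inv_smul_mem] at hx
    have hx' : c⁻¹ * x * c ∈ M := by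
      have := h.1 hx
      simpa [MulAut.smul_def, MulAut.conj_apply] using this
    have : x = c * (c⁻¹ * x * c) * c⁻¹ := by group
    rw [this]
    exact M.mul_mem (M.mul_mem hc hx') (M.inv_mem hc)
  · rw [hcard]; exact hcop
  · rw [hcard]
    have h1 := Cfsg.Agent.Lib.Helper13.BG12.relIndex_eq_card_of_complIn h
    have h2 := Subgroup.card_mul_index (S.subgroupOf M)
    have h3 : Nat.card ↥(S.subgroupOf M) = Nat.card S :=
      Nat.card_congr (Subgroup.subgroupOfEquivOfLe h.2.1).toEquiv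
    rw [h3] at h2
    rw [← h1, mul_comm]
    exact h2

/-- **KEYSTONE 142824 / 142837  K-S1428-A2**  (CASE A, step A2 of BG 13.4): a complement of `M_σ` in `M`
containing `P` and normalizing the Sylow `q`-subgroup `Sq ≤ C_{M_σ}(P)`. -/
theorem Ctx.caseA_compl {M P R H : Subgroup G} {p r : ℕ} (c : Ctx M P R H p r)
    {q : ℕ} [Fact q.Prime] {Sq : Subgroup G} (hSq : IsSylowIn q ⊤ Sq) (hSqC : Sq ≤ CP M P) :
    ∃ E : Subgroup G, IsComplIn E (sigmaCore M) M ∧ P ≤ E ∧
      E ≤ Subgroup.normalizer (Sq : Set G) := by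
  have hG := c.hG
  have hM := c.hM
  have hHall := (Cfsg.Agent.S1350.result hG M hM).1
  have hpp : p.Prime := c.hp.1
  have hpσ : p ∉ sigma M := c.hp.2.1
  have hσM : sigmaCore M ≤ M := Cfsg.Agent.Lib.Helper71.BG11.sigmaCore_le M
  have hMn : M ≤ Subgroup.normalizer (sigmaCore M : Set G) :=
    Cfsg.Agent.Lib.Helper71.BG11.le_normalizer_sigmaCore M
  -- a complement containing `P`
  obtain ⟨E₁, hE₁, hPE₁⟩ :=
    Cfsg.Agent.Lib.Helper13.BG12.exists_complIn_ge hG hM hHall c.hPM (by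
      intro s hs hsd
      rw [c.hPc] at hsd
      have : s = p := (Nat.prime_dvd_prime_iff_eq hs hpp).mp hsd
      rw [this]; exact hpσ)
  have hcop : (Nat.card E₁).Coprime (Nat.card (sigmaCore M)) :=
    Cfsg.Agent.Lib.Helper13.BG12.coprime_of_primes_disjoint
      (Cfsg.Agent.Lib.Helper13.BG12.complIn_prime_not_mem_sigma hHall hE₁) hHall.2.1
  have hσtop : sigmaCore M ≠ ⊤ := fun h => hM.1 (top_le_iff.mp (h ▸ hσM))
  have hsolv : Group.IsSolvable ↥(sigmaCore M) := ms_solvable hG hσtop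
  -- an `E₁`-invariant Sylow `q`-subgroup of `M_σ`
  obtain ⟨S', hS', hE₁S'⟩ :=
    Cfsg.Agent.Lib.Helper01.exists_invariant_isSylowIn q (hE₁.1.trans hMn) hcop (Or.inr hsolv)
  have hPcop : (Nat.card P).Coprime (Nat.card (sigmaCore M)) := by
    rw [c.hPc]
    refine (Nat.Prime.coprime_iff_not_dvd hpp).mpr ?_
    intro hd
    exact hpσ (hHall.2.1 p hpp hd)
  have hSqσ : Sq ≤ sigmaCore M := hSqC.trans inf_le_left
  have hSqP : Sq ≤ Subgroup.centralizer (P : Set G) := hSqC.trans inf_le_right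
  have hPSq : P ≤ Subgroup.normalizer (Sq : Set G) :=
    (Subgroup.le_centralizer_iff.mp hSqP).trans (Subgroup.centralizer_le_normalizer _)
  obtain ⟨S, c₀, hSL, hSq', hPS, hS'S, hc₀L, hc₀P, hSqS⟩ :=
    Cfsg.Agent.Lib.Helper31.exists_inv_sylow_pair P (sigmaCore M) (c.hPM.trans hMn) hPcop
      (Or.inr hsolv) q S' Sq hS'.1 hSqσ hS'.2.1 hSq.2.1 (hPE₁.trans hE₁S') hPSq
  have hSS' : S = S' := a2_eq_of_sylow_le hS' hSL hSq' hS'S
  subst hSS'
  have hSqeq : MulAut.conj c₀ • S = Sq :=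
    hSq.2.2 _ le_top (hSq'.of_equiv (Subgroup.equivSMul (MulAut.conj c₀) S)) hSqS
  refine ⟨MulAut.conj c₀ • E₁, a2_complIn_conj hE₁ hMn hcop (hσM hc₀L), ?_, ?_⟩
  · intro x hx
    rw [Subgroup.mem_pointwise_smul_iff_inv_smul_mem]
    have hcomm : x * c₀ = c₀ * x := (Subgroup.mem_centralizer_iff.mp hc₀P) x hx
    have : (MulAut.conj c₀)⁻¹ • x = x := by
      simp only [MulAut.smul_def, ← map_inv, MulAut.conj_apply, inv_inv]
      rw [mul_assoc, hcomm, ← mul_assoc, inv_mul_cancel, one_mul]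
    rw [this]
    exact hPE₁ hx
  · rw [Cfsg.Agent.Lib.Helper01.le_normalizer_iff_conj_smul]
    intro y hy
    rw [Subgroup.mem_pointwise_smul_iff_inv_smul_mem] at hy
    have he : MulAut.conj ((MulAut.conj c₀)⁻¹ • y) • S = S :=
      Cfsg.Agent.Lib.Helper01.mem_normalizer_iff_conj_smul.mp (hE₁S' hy)
    rw [← hSqeq]
    have hy' : (MulAut.conj c₀)⁻¹ • y = c₀⁻¹ * y * c₀ := by
      simp [MulAut.smul_def, ← map_inv, MulAut.conj_apply]
    rw [hy'] at he
    have : MulAut.conj y * MulAut.conj c₀ = MulAut.conj c₀ * MulAut.conj (c₀⁻¹ * y * c₀) := by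
      rw [← map_mul, ← map_mul]
      congr 1
      group
    rw [smul_smul, this, ← smul_smul, he]

end Cfsg.Agent.Lib.Helper55.BG134
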