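import Mathlib
import Cfsg.Agent.Lib.Helper55.BG134A2

/-!
# Complements of `M_σ` in `M` normalizing a given Sylow subgroup of `M_σ`

General form of the S1428 leaf A2: a `σ(M)'`-subgroup `K` of `M` normalizing a Sylow `q`-subgroup `Sq` of
`M_σ` lies in a complement `E` of `M_σ` in `M` with `E ≤ N_G(Sq)`.
-/

set_option autoImplicit false
set_option linter.unusedSectionVars false
set_option linter.style.haveILetI false
set_option linter.unusedVariables false

namespace Cfsg.Agent.Lib.Helper55.BG135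

open Cfsg Cfsg.Agent.Lib.Helper55 Cfsg.Agent.Lib.Helper55.BG134
open scoped Pointwise

variable {G : Type*} [Group G] [Finite G]

/-- A `σ(M)'`-subgroup `K` of `M` normalizing the Sylow `q`-subgroup `Sq` of `M_σ` lies in a complement of
`M_σ` in `M` normalizing `Sq`. -/
theorem exists_complIn_ge_normalizing (hG : IsMinSimpleOddOrder G) {M : Subgroup G}
    (hM : IsCoatom M) {K : Subgroup G} (hKM : K ≤ M)
    (hK : ∀ s : ℕ, s.Prime → s ∣ Nat.card K → s ∉ sigma M)
    {q : ℕ} [Fact q.Prime] {Sq : Subgroup G} (hSq : IsSylowIn q (sigmaCore M) Sq)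
    (hKSq : K ≤ Subgroup.normalizer (Sq : Set G)) :
    ∃ E : Subgroup G, IsComplIn E (sigmaCore M) M ∧ K ≤ E ∧
      E ≤ Subgroup.normalizer (Sq : Set G) := by
  have hHall := (Cfsg.Agent.S1350.result hG M hM).1
  have hσM : sigmaCore M ≤ M := Cfsg.Agent.Lib.Helper71.BG11.sigmaCore_le M
  have hMn : M ≤ Subgroup.normalizer (sigmaCore M : Set G) :=
    Cfsg.Agent.Lib.Helper71.BG11.le_normalizer_sigmaCore M
  obtain ⟨E₁, hE₁, hKE₁⟩ := Cfsg.Agent.Lib.Helper13.BG12.exists_complIn_ge hG hM hHall hKM hK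
  have hcop : (Nat.card E₁).Coprime (Nat.card (sigmaCore M)) :=
    Cfsg.Agent.Lib.Helper13.BG12.coprime_of_primes_disjoint
      (Cfsg.Agent.Lib.Helper13.BG12.complIn_prime_not_mem_sigma hHall hE₁) hHall.2.1
  have hKcop : (Nat.card K).Coprime (Nat.card (sigmaCore M)) :=
    Cfsg.Agent.Lib.Helper13.BG12.coprime_of_primes_disjoint hK hHall.2.1
  have hσtop : sigmaCore M ≠ ⊤ := fun h => hM.1 (top_le_iff.mp (h ▸ hσM))
  have hsolv : Group.IsSolvable ↥(sigmaCore M) := ms_solvable hG hσtop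
  obtain ⟨S', hS', hE₁S'⟩ :=
    Cfsg.Agent.Lib.Helper01.exists_invariant_isSylowIn q (hE₁.1.trans hMn) hcop (Or.inr hsolv)
  obtain ⟨S, c₀, hSL, hSq', hPS, hS'S, hc₀L, hc₀P, hSqS⟩ :=
    Cfsg.Agent.Lib.Helper31.exists_inv_sylow_pair K (sigmaCore M) (hKM.trans hMn) hKcop
      (Or.inr hsolv) q S' Sq hS'.1 hSq.1 hS'.2.1 hSq.2.1 (hKE₁.trans hE₁S') hKSq
  have hSS' : S = S' := a2_eq_of_sylow_le hS' hSL hSq' hS'S
  subst hSS'
  have hcSL : MulAut.conj c₀ • S ≤ sigmaCore M := by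
    intro y hy
    rw [Subgroup.mem_pointwise_smul_iff_inv_smul_mem] at hy
    have hy' : c₀⁻¹ * y * c₀ ∈ sigmaCore M := by
      have := hSL hy
      simpa [MulAut.smul_def, MulAut.conj_apply] using this
    have : y = c₀ * (c₀⁻¹ * y * c₀) * c₀⁻¹ := by group
    rw [this]
    exact (sigmaCore M).mul_mem ((sigmaCore M).mul_mem hc₀L hy') ((sigmaCore M).inv_mem hc₀L)
  have hSqeq : MulAut.conj c₀ • S = Sq :=
    hSq.2.2 _ hcSL (hSq'.of_equiv (Subgroup.equivSMul (MulAut.conj c₀) S)) hSqS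
  refine ⟨MulAut.conj c₀ • E₁, a2_complIn_conj hE₁ hMn hcop (hσM hc₀L), ?_, ?_⟩
  · intro x hx
    rw [Subgroup.mem_pointwise_smul_iff_inv_smul_mem]
    have hcomm : x * c₀ = c₀ * x := (Subgroup.mem_centralizer_iff.mp hc₀P) x hx
    have : (MulAut.conj c₀)⁻¹ • x = x := by
      simp only [MulAut.smul_def, ← map_inv, MulAut.conj_apply, inv_inv]
      rw [mul_assoc, hcomm, ← mul_assoc, inv_mul_cancel, one_mul]
    rw [this]
    exact hKE₁ hx
  · rw [Cfsg.Agent.Lib.Helper01.le_normalizer_iff_conj_smul]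
    intro y hy
    rw [Subgroup.mem_pointwise_smul_iff_inv_smul_mem] at hy
    have he : MulAut.conj ((MulAut.conj c₀)⁻¹ • y) • S = S :=
      Cfsg.Agent.Lib.Helper01.mem_normalizer_iff_conj_smul.mp (hE₁S' hy)
    rw [← hSqeq]
    have hy' : (MulAut.conj c₀)⁻¹ • y = c₀⁻¹ * y * c₀ := by
      simp [MulAut.smul_def, ← map_inv, MulAut.conj_apply]
    rw [hy'] at he
    have : MulAut.conj y * MulAut.conj c₀ = MulAut.conj c₀ * MulAut.conj (c₀⁻¹ * y * c₀) := by
      rw [← map_mul, ← map_mul]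
      congr 1
      group
    rw [smul_smul, this, ← smul_smul, he]

/-- special case `K = 1`: some complement of `M_σ` in `M` normalizes a given Sylow subgroup of `M_σ` -/
theorem exists_complIn_normalizing (hG : IsMinSimpleOddOrder G) {M : Subgroup G}
    (hM : IsCoatom M) {q : ℕ} [Fact q.Prime] {Sq : Subgroup G}
    (hSq : IsSylowIn q (sigmaCore M) Sq) :
    ∃ E : Subgroup G, IsComplIn E (sigmaCore M) M ∧ E ≤ Subgroup.normalizer (Sq : Set G) := by
  obtain ⟨E, hE, _, hEn⟩ := exists_complIn_ge_normalizing hG hM (K := ⊥) bot_le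
    (by
      intro s hs hsd
      rw [Subgroup.card_bot] at hsd
      exact absurd (Nat.dvd_one.mp hsd) hs.one_lt.ne') hSq bot_le
  exact ⟨E, hE, hEn⟩

end Cfsg.Agent.Lib.Helper55.BG135
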