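import Mathlib
import Cfsg.Agent.S1350
import Cfsg.Agent.S1417
import Cfsg.Agent.S1418
import Cfsg.Agent.S1420
import Cfsg.Agent.Lib.Helper55.Uniq2
import Cfsg.Agent.Lib.Helper13.BG12A
import Cfsg.Agent.Lib.Helper13.BG12B
import Cfsg.Agent.Lib.Helper16.BG134Asm
import Cfsg.Agent.Lib.Helper54.BG134A3a
import Cfsg.Agent.Lib.Helper58.BG1217U
import Cfsg.Agent.Lib.Helper27.BGLemmaZ
import Cfsg.Agent.Lib.Helper12.CNMaxSub
import Cfsg.Agent.Lib.Helper71.BG10Sub
import Cfsg.Agent.Lib.Helper71.BG11a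
import Cfsg.Agent.Lib.Helper11.BG134P2
import Cfsg.Agent.Lib.Helper22.BGFrobCore

/-!
# BG Corollary 14.3 (S1432) from the statements of BG Theorem 14.2 (S1430, S1431)

`x ∈ M_σ`, `x ≠ 1`, `x' ≠ 1` a `σ(M)'`-element of `C_M(x)`: either `x'` is a `κ(M)`-element and
`C_G(x) ≤ M`, or `x'` is a `τ₂(M)`-element, a `σ(L)`-element for one maximal subgroup `L`, and `M` is the
only maximal subgroup over `C_G(x')`.
-/

set_option autoImplicit false
set_option linter.unusedSectionVars false
set_option linter.style.haveILetI false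
set_option linter.unusedVariables false

namespace Cfsg.Agent.Lib.Helper55.BG143

open Cfsg Cfsg.Agent.Lib.Helper55
open scoped Pointwise

variable {G : Type*} [Group G] [Finite G]

/-- the part of S1430 (BG 14.2(a),(b)) used for BG 14.3 -/
def H1430a (G : Type*) [Group G] [Finite G] : Prop :=
  ∀ (M : Subgroup G), IsCoatom M → ∀ (K : Subgroup G), IsPiHallOf (kappa M) K M → K ≠ ⊥ →
    (∀ k ∈ K, k ≠ 1 → sigmaCore M ⊓ Subgroup.centralizer ({k} : Set G) =
      sigmaCore M ⊓ Subgroup.centralizer (K : Set G)) ∧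
    ∀ X : Subgroup G, X ≤ K → (Nat.card X).Prime →
      M ⊓ Subgroup.normalizer (X : Set G) = K ⊔ (sigmaCore M ⊓ Subgroup.centralizer (K : Set G))

/-- the part of S1431 (BG 14.2(d)) used for BG 14.3 -/
def H1431a (G : Type*) [Group G] [Finite G] : Prop :=
  ∀ (M : Subgroup G), IsCoatom M → ∀ (K : Subgroup G), IsPiHallOf (kappa M) K M → K ≠ ⊥ →
    ∀ g : G, g ∉ M → (sigmaCore M ⊓ Subgroup.centralizer (K : Set G)) ⊓
      M.map (MulAut.conj g).toMonoidHom = ⊥

/-- powers of one element commute -/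
theorem pow_comm_pow (y : G) (a b : ℕ) : y ^ a * y ^ b = y ^ b * y ^ a := by
  rw [← pow_add, ← pow_add, add_comm]

/-- **BG Corollary 14.3** from the statements of 14.2. -/
theorem s1432_of_hyps (hG : IsMinSimpleOddOrder G) (h30 : H1430a G) (h31 : H1431a G)
    (M : Subgroup G) (hM : IsCoatom M) (x : G) (hx : x ∈ sigmaCore M) (hx1 : x ≠ 1) (x' : G)
    (hx' : x' ∈ M ⊓ Subgroup.centralizer ({x} : Set G)) (hx'1 : x' ≠ 1)
    (hσ : ∀ p : ℕ, p.Prime → p ∣ orderOf x' → p ∉ sigma M) :
    ((∀ p : ℕ, p.Prime → p ∣ orderOf x' → p ∈ kappa M) ∧ Subgroup.centralizer ({x} : Set G) ≤ M) ∨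
      ((∀ p : ℕ, p.Prime → p ∣ orderOf x' → p ∈ tau2 M) ∧
        (∃ L : Subgroup G, IsCoatom L ∧ ∀ p : ℕ, p.Prime → p ∣ orderOf x' → p ∈ sigma L) ∧
        (Subgroup.centralizer ({x'} : Set G) ≤ M ∧ ∀ L : Subgroup G, IsCoatom L →
          Subgroup.centralizer ({x'} : Set G) ≤ L → L = M)) := by
  have hHall : IsPiHallOf (sigma M) (sigmaCore M) M := (Cfsg.Agent.S1350.result hG M hM).1
  have hσM : sigmaCore M ≤ M := Cfsg.Agent.Lib.Helper71.BG11.sigmaCore_le M
  have hMn : M ≤ Subgroup.normalizer (sigmaCore M : Set G) :=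
    Cfsg.Agent.Lib.Helper71.BG11.le_normalizer_sigmaCore M
  have hx'M : x' ∈ M := hx'.1
  have hcomm : x * x' = x' * x := (Subgroup.mem_centralizer_iff.mp hx'.2) x rfl
  have hn0 : orderOf x' ≠ 0 := (orderOf_pos x').ne'
  have hn1 : orderOf x' ≠ 1 := fun h => hx'1 (orderOf_eq_one_iff.mp h)
  have hoM : orderOf x' ∣ Nat.card M := by
    have := orderOf_dvd_natCard (⟨x', hx'M⟩ : M)
    rwa [Subgroup.orderOf_mk] at this
  have hMtop : M ≠ ⊤ := hM.1
  -- a complement of `M_σ`
  obtain ⟨E, hE, -⟩ := Cfsg.Agent.Lib.Helper13.BG12.exists_complIn_ge hG hM hHall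
    (K := ⊥) bot_le (by
      intro s hs hsd
      rw [Subgroup.card_bot] at hsd
      exact absurd (Nat.dvd_one.mp hsd) hs.one_lt.ne')
  by_cases hall2 : ∀ p : ℕ, p.Prime → p ∣ orderOf x' → p ∈ tau2 M
  · -- the `τ₂` case
    right
    refine ⟨hall2, ?_, ?_⟩
    · set u₀ := (orderOf x').minFac with hu₀def
      have hu₀p : u₀.Prime := Nat.minFac_prime hn1
      have hu₀d : u₀ ∣ orderOf x' := Nat.minFac_dvd _
      haveI : Fact u₀.Prime := ⟨hu₀p⟩
      have hu₀ : u₀ ∈ tau2 M := hall2 u₀ hu₀p hu₀d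
      obtain ⟨A₀, hA₀E, hA₀e, hA₀c⟩ :=
        Cfsg.Agent.Lib.Helper13.BG12.exists_elemAb_sq_le_compl hG hM hHall hu₀ hE
      have h18 := Cfsg.Agent.S1418.result hG M hM E hE u₀ hu₀ A₀ ⟨hA₀E, hA₀e, hA₀c⟩
      have hA₀1 : A₀ ≠ ⊥ := by
        rintro rfl
        rw [Subgroup.card_bot] at hA₀c
        have : 1 < u₀ ^ 2 := Nat.one_lt_pow (by norm_num) hu₀p.one_lt
        omega
      have hA₀top : A₀ ≠ ⊤ := fun h => hMtop (top_le_iff.mp (h ▸ hA₀E.trans hE.1))
      obtain ⟨L, hL, hNL⟩ :=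
        Cfsg.Agent.Lib.Helper12.CNMaxSub.exists_coatom_normalizer_le hG hA₀1 hA₀top
      have hu₀L : u₀ ∈ sigma L :=
        Cfsg.Agent.Lib.Helper58.BG12U.mem_sigma_of_normalizer_elemAb_le hG hL hA₀e hA₀c hNL
      have hLM : L ≠ M := fun h => h18.2.1.2.2 (h ▸ hNL)
      have hA₀L : A₀ ≤ L := (Subgroup.le_normalizer).trans hNL
      refine ⟨L, hL, ?_⟩
      intro u hu hud
      by_contra huL
      haveI : Fact u.Prime := ⟨hu⟩
      have hu2 : u ∈ tau2 M := hall2 u hu hud
      obtain ⟨A, hAE, hAe, hAc⟩ :=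
        Cfsg.Agent.Lib.Helper13.BG12.exists_elemAb_sq_le_compl hG hM hHall hu2 hE
      have hAL : A ≤ L := hAE.trans (h18.1.1.trans hNL)
      have hrk := Cfsg.Agent.Lib.Helper27.BGZ.rank_two hG hL huL hAL hAe hAc
      have hu2L : u ∈ tau2 L := ⟨hu, huL, hrk.1, hrk.2⟩
      have h17 := Cfsg.Agent.S1417.result hG L hL u hu2L A ⟨hAL, hAe, hAc⟩
      have hbot := h17.2.2.2.2.1 M hM (Ne.symm hLM) (hAE.trans hE.1)
      have hHallL : IsPiHallOf (sigma L) (sigmaCore L) L := (Cfsg.Agent.S1350.result hG L hL).1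
      have hA₀σ : A₀ ≤ sigmaCore L := by
        refine Cfsg.Agent.Lib.Helper71.BG10.le_of_isPiHallOf_normal hHallL
          (Cfsg.Agent.Lib.Helper71.BG11.le_normalizer_sigmaCore L) hA₀L ?_
        intro p hp hpd
        rw [hA₀c] at hpd
        have : p = u₀ := (Nat.prime_dvd_prime_iff_eq hp hu₀p).mp (hp.dvd_of_dvd_pow hpd)
        rw [this]; exact hu₀L
      have : A₀ ≤ ⊥ := hbot ▸ le_inf hA₀σ (hA₀E.trans hE.1)
      exact hA₀1 (le_bot_iff.mp this)
    · exact (Cfsg.Agent.S1420.result hG M hM E hE).2.2.2 x' hx'M hx'1 hall2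
        ⟨hx'M, x, hx, hx1, hcomm.symm⟩
  · -- the `κ` case
    left
    have hex : ∃ u : ℕ, u.Prime ∧ u ∣ orderOf x' ∧ u ∉ tau2 M := by
      by_contra hne
      apply hall2
      intro p hp hpd
      by_contra hp2
      exact hne ⟨p, hp, hpd, hp2⟩
    obtain ⟨u, hu, hud, hu2⟩ := hex
    haveI : Fact u.Prime := ⟨hu⟩
    have huσ := hσ u hu hud
    have huM : u ∣ Nat.card M := hud.trans hoM
    have hr1 : PRankLE u 1 M := by
      rcases Cfsg.Agent.Lib.Helper16.BG134.mem_tau_cases hG hM hu huM huσ with h | h | h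
      · exact h.2.2.2.2
      · exact absurd h hu2
      · exact h.2.2.2
    set z := x' ^ (orderOf x' / u) with hzdef
    have hzo : orderOf z = u := orderOf_pow_orderOf_div hn0 hud
    have hz1 : z ≠ 1 := by
      intro h
      rw [h, orderOf_one] at hzo
      exact hu.one_lt.ne hzo
    have hzM : z ∈ M := M.pow_mem hx'M _
    have hzx : z * x = x * z := by
      have : Commute x' x := hcomm.symm
      exact (this.pow_left _).eq
    have hXc : Nat.card (Subgroup.zpowers z) = u := by rw [Nat.card_zpowers, hzo]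
    have hXM : Subgroup.zpowers z ≤ M := (Subgroup.zpowers_le).mpr hzM
    have hXp : IsPGroup u (Subgroup.zpowers z) := IsPGroup.of_card (n := 1) (by rw [hXc, pow_one])
    have hX1 : Subgroup.zpowers z ≠ ⊥ := by
      intro h
      exact hz1 (Subgroup.mem_bot.mp (h ▸ Subgroup.mem_zpowers z))
    have hu2' : u ≠ 2 := ms_prime_ne_two hG hXp hX1
    -- `u ∈ κ(M)`
    have huκ : u ∈ kappa M := by
      refine ⟨hu, huM, huσ, ?_⟩
      intro P
      constructor
      · have hQM : (P : Subgroup M).map M.subtype ≤ M := Subgroup.map_subtype_le _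
        have hQu : IsPGroup u ((P : Subgroup M).map M.subtype) := P.isPGroup'.map _
        have hc : IsCyclic ↥((P : Subgroup M).map M.subtype) :=
          Cfsg.Agent.Lib.Helper13.BG12.isCyclic_of_pRankLE_one hu2' hr1 hQM hQu
        let e := Subgroup.equivMapOfInjective (P : Subgroup M) M.subtype M.subtype_injective
        exact isCyclic_of_surjective e.symm e.symm.surjective
      · obtain ⟨Q, hQ⟩ := (hXp.comap_subtype (K := M)).exists_le_sylow
        obtain ⟨m, hm⟩ := MulAction.exists_smul_eq M Q P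
        have hzQ : (⟨z, hzM⟩ : M) ∈ (Q : Subgroup M) :=
          hQ (Subgroup.mem_subgroupOf.mpr (Subgroup.mem_zpowers z))
        refine ⟨m * ⟨z, hzM⟩ * m⁻¹, ?_, ?_, (m : G) * x * (m : G)⁻¹, ?_, ?_, ?_⟩
        · rw [← hm]
          change _ ∈ ((MulAut.conj m • (Q : Subgroup M)) : Subgroup M)
          have := Subgroup.smul_mem_pointwise_smul _ (MulAut.conj m) _ hzQ
          simpa [MulAut.smul_def, MulAut.conj_apply] using this
        · intro h
          apply hz1
          have h2 : (⟨z, hzM⟩ : M) = 1 := by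
            have := congrArg (fun t => m⁻¹ * t * m) h
            simpa [mul_assoc] using this
          exact congrArg Subtype.val h2
        · have hmn := hMn m.2
          exact (Subgroup.mem_normalizer_iff.mp hmn x).mp hx
        · intro h
          apply hx1
          have := congrArg (fun t => (m : G)⁻¹ * t * (m : G)) h
          simpa [mul_assoc] using this
        · push_cast
          have : (m : G) * z * (m : G)⁻¹ * ((m : G) * x * (m : G)⁻¹) =
              (m : G) * (z * x) * (m : G)⁻¹ := by group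
          rw [this, hzx]
          group
    -- a Hall `κ(M)`-subgroup over `⟨z⟩`
    have hsolvM : Group.IsSolvable ↥M := ms_solvable hG hMtop
    obtain ⟨K, hK, hXK⟩ := Cfsg.Agent.Lib.Helper54.BG134.exists_isPiHallOf_ge hsolvM (kappa M) hXM
      (by
        intro p hp hpd
        rw [hXc] at hpd
        have : p = u := (Nat.prime_dvd_prime_iff_eq hp hu).mp hpd
        rw [this]; exact huκ)
    have hzK : z ∈ K := hXK (Subgroup.mem_zpowers z)
    have hK1 : K ≠ ⊥ := by
      intro h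
      rw [h] at hzK
      exact hz1 (Subgroup.mem_bot.mp hzK)
    obtain ⟨hpa, hN⟩ := h30 M hM K hK hK1
    have hN' := hN (Subgroup.zpowers z) hXK (by rw [hXc]; exact hu)
    have hKnorm : K ≤ Subgroup.normalizer
        ((sigmaCore M ⊓ Subgroup.centralizer (K : Set G) : Subgroup G) : Set G) :=
      Cfsg.Agent.Lib.Helper22.BGFrobF.le_normalizer_inf (hK.1.trans hMn)
        (Cfsg.Agent.Lib.Helper22.BGFrobF.le_normalizer_centralizer Subgroup.le_normalizer)
    constructor
    · intro v hv hvd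
      set w := x' ^ (orderOf x' / v) with hwdef
      have hwo : orderOf w = v := orderOf_pow_orderOf_div hn0 hvd
      have hwM : w ∈ M := M.pow_mem hx'M _
      have hwN : w ∈ Subgroup.normalizer ((Subgroup.zpowers z : Subgroup G) : Set G) := by
        apply Subgroup.centralizer_le_normalizer
        rw [Subgroup.mem_centralizer_iff]
        intro y hy
        obtain ⟨k, rfl⟩ := Subgroup.mem_zpowers_iff.mp hy
        have hc : Commute z w := pow_comm_pow x' _ _
        exact (hc.zpow_left k).eq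
      have hw : w ∈ K ⊔ (sigmaCore M ⊓ Subgroup.centralizer (K : Set G)) := by
        rw [← hN']; exact ⟨hwM, hwN⟩
      have hvd' : v ∣ Nat.card ↥(K ⊔ (sigmaCore M ⊓ Subgroup.centralizer (K : Set G))) := by
        have := orderOf_dvd_natCard
          (⟨w, hw⟩ : ↥(K ⊔ (sigmaCore M ⊓ Subgroup.centralizer (K : Set G))))
        rwa [Subgroup.orderOf_mk, hwo] at this
      have hdvd := Cfsg.Agent.Lib.Helper11.BG134.card_sup_dvd_of_le_normalizer
        (sigmaCore M ⊓ Subgroup.centralizer (K : Set G)) K hKnorm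
      rw [sup_comm] at hdvd
      rcases (Nat.Prime.dvd_mul hv).mp (hvd'.trans hdvd) with h | h
      · exfalso
        exact hσ v hv hvd (hHall.2.1 v hv (h.trans (Subgroup.card_dvd_of_le inf_le_left)))
      · exact hK.2.1 v hv h
    · intro c hc
      by_contra hcM
      have h1 := h31 M hM K hK hK1 c hcM
      have hxK : x ∈ sigmaCore M ⊓ Subgroup.centralizer (K : Set G) := by
        rw [← hpa z hzK hz1]
        refine ⟨hx, ?_⟩
        show x ∈ Subgroup.centralizer ({z} : Set G)
        rw [Subgroup.mem_centralizer_iff]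
        intro y hy
        rw [Set.mem_singleton_iff] at hy
        subst hy
        exact hzx
      have hcx : c * x * c⁻¹ = x := by
        have := (Subgroup.mem_centralizer_iff.mp hc) x rfl
        rw [← this, mul_inv_cancel_right]
      have hxc : x ∈ M.map (MulAut.conj c).toMonoidHom :=
        ⟨x, hσM hx, by simpa [MulAut.conj_apply] using hcx⟩
      have hmem : x ∈ (sigmaCore M ⊓ Subgroup.centralizer (K : Set G)) ⊓
          M.map (MulAut.conj c).toMonoidHom := Subgroup.mem_inf.mpr ⟨hxK, hxc⟩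
      rw [h1] at hmem
      exact hx1 (Subgroup.mem_bot.mp hmem)

end Cfsg.Agent.Lib.Helper55.BG143
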