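import Cfsg.Agent.Lib.Helper55.BG1214

set_option autoImplicit false
set_option linter.unusedSectionVars false
set_option linter.style.haveILetI false
set_option linter.unusedVariables false

/-!
Preparations for Bender–Glauberman Lemma 12.13 (`cent_der_sigma_uniq`): small group-theoretic leaves.
-/

namespace Cfsg.Agent.Lib.Helper55

open Cfsg
open scoped commutatorElement

section leaves

variable {G : Type*} [Group G] [Finite G] {p : ℕ} [Fact p.Prime]

theorem inUniqueMaximal_eq_of_le {K M L : Subgroup G} (hK : InUniqueMaximal K) (hM : IsCoatom M)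
    (hKM : K ≤ M) (hL : IsCoatom L) (hKL : K ≤ L) : L = M := by
  obtain ⟨M₀, _, h⟩ := hK
  rw [h L ⟨hL, hKL⟩, h M ⟨hM, hKM⟩]

/-- if `C_G(X)` contains a uniqueness subgroup `K ≤ M`, then `M` is the only maximal subgroup
containing `C_G(X)` -/
theorem centralizer_uniq_of_le (hG : IsMinSimpleOddOrder G) {M X K : Subgroup G} (hM : IsCoatom M)
    (hX1 : X ≠ ⊥) (hKX : K ≤ Subgroup.centralizer (X : Set G)) (hK : InUniqueMaximal K)
    (hKM : K ≤ M) :
    Subgroup.centralizer (X : Set G) ≤ M ∧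
      ∀ L : Subgroup G, IsCoatom L → Subgroup.centralizer (X : Set G) ≤ L → L = M := by
  have huniq : ∀ L : Subgroup G, IsCoatom L → Subgroup.centralizer (X : Set G) ≤ L → L = M :=
    fun L hL hCL => inUniqueMaximal_eq_of_le hK hM hKM hL (hKX.trans hCL)
  refine ⟨?_, huniq⟩
  have hne : Subgroup.centralizer (X : Set G) ≠ ⊤ := by
    obtain ⟨x, hx1⟩ := (Subgroup.ne_bot_iff_exists_ne_one).mp hX1
    intro h
    have h1 : Subgroup.centralizer ({(x : G)} : Set G) = ⊤ := by
      rw [eq_top_iff, ← h]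
      exact Subgroup.centralizer_le (by
        intro y hy
        rw [Set.mem_singleton_iff] at hy
        rw [hy]; exact x.2)
    exact centralizer_singleton_ne_top hG (fun e => hx1 (Subtype.ext e)) h1
  obtain ⟨L, hL, hCL⟩ := ms_exists_coatom_ge hne
  rw [← huniq L hL hCL]; exact hCL

/-- a finite group of order `p ^ 3` has class at most two -/
theorem commutator_le_center_of_card_cube {H : Type*} [Group H] [Finite H]
    (hH : Nat.card H = p ^ 3) : commutator H ≤ Subgroup.center H := by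
  have hp : p.Prime := Fact.out
  have hHp : IsPGroup p H := IsPGroup.of_card hH
  haveI : Nontrivial H := by
    rw [← Finite.one_lt_card_iff_nontrivial, hH]
    exact Nat.one_lt_pow (by norm_num) hp.one_lt
  have hZ : Nontrivial (Subgroup.center H) := hHp.center_nontrivial
  obtain ⟨k, hk0, hk⟩ := (hHp.to_subgroup (Subgroup.center H)).nontrivial_iff_card.mp hZ
  have hidx : (Subgroup.center H).index * p ^ k = p ^ 3 := by
    rw [← hk, ← hH]; exact Subgroup.index_mul_card _
  have hk3 : k ≤ 3 := by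
    by_contra hcon
    have h1 : p ^ 3 < p ^ k := Nat.pow_lt_pow_right hp.one_lt (by omega)
    have h2 : p ^ k ≤ p ^ 3 := by
      rw [← hidx]
      exact Nat.le_mul_of_pos_left _ (Nat.pos_of_ne_zero (Subgroup.index_ne_zero_of_finite))
    omega
  have hidx' : (Subgroup.center H).index = p ^ (3 - k) := by
    have h3 : p ^ 3 = p ^ (3 - k) * p ^ k := by rw [← pow_add]; congr 1; omega
    rw [h3] at hidx
    exact Nat.eq_of_mul_eq_mul_right (pow_pos hp.pos k) hidx
  have hcard : Nat.card (H ⧸ Subgroup.center H) = p ^ (3 - k) := by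
    rw [← hidx']; rfl
  have hcomm : ∀ a b : H ⧸ Subgroup.center H, a * b = b * a := by
    have hcases : 3 - k = 0 ∨ 3 - k = 1 ∨ 3 - k = 2 := by omega
    rcases hcases with h0 | h1 | h2
    · rw [h0, pow_zero] at hcard
      haveI : Subsingleton (H ⧸ Subgroup.center H) := (Nat.card_eq_one_iff_unique.mp hcard).1
      intro a b; exact Subsingleton.elim _ _
    · rw [h1, pow_one] at hcard
      haveI : IsCyclic (H ⧸ Subgroup.center H) := isCyclic_of_prime_card hcard
      intro a b
      exact (IsCyclic.commGroup (α := H ⧸ Subgroup.center H)).mul_comm a b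
    · rw [h2] at hcard
      intro a b
      exact (IsPGroup.isMulCommutative_of_card_eq_prime_sq hcard).is_comm.comm a b
  rw [commutator_def, Subgroup.commutator_le]
  intro a _ b _
  have := hcomm (QuotientGroup.mk a) (QuotientGroup.mk b)
  rw [← QuotientGroup.mk_mul, ← QuotientGroup.mk_mul, QuotientGroup.eq] at this
  have h4 : ⁅a, b⁆ = (a * b) * ((a * b)⁻¹ * (b * a))⁻¹ * (a * b)⁻¹ := by
    rw [commutatorElement_def]; group
  rw [h4]
  exact (inferInstance : (Subgroup.center H).Normal).conj_mem _ (Subgroup.inv_mem _ this) _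

theorem mem_centralizer_sup {P₁ P₂ : Subgroup G} {y : G} (h1 : ∀ a ∈ P₁, a * y = y * a)
    (h2 : ∀ b ∈ P₂, b * y = y * b) :
    y ∈ Subgroup.centralizer ((P₁ ⊔ P₂ : Subgroup G) : Set G) := by
  have h3 : P₁ ⊔ P₂ ≤ Subgroup.centralizer ({y} : Set G) := by
    refine sup_le ?_ ?_
    · intro a ha
      rw [Subgroup.mem_centralizer_iff]
      intro z hz
      rw [Set.mem_singleton_iff] at hz
      rw [hz]; exact (h1 a ha).symm
    · intro b hb
      rw [Subgroup.mem_centralizer_iff]
      intro z hz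
      rw [Set.mem_singleton_iff] at hz
      rw [hz]; exact (h2 b hb).symm
  rw [Subgroup.mem_centralizer_iff]
  intro g hg
  have := Subgroup.mem_centralizer_iff.mp (h3 hg) y rfl
  exact this.symm

theorem exists_mul_of_mem_sup_of_commute {P₁ P₂ : Subgroup G}
    (hcomm : ∀ a ∈ P₁, ∀ b ∈ P₂, a * b = b * a) {g : G} (hg : g ∈ P₁ ⊔ P₂) :
    ∃ a ∈ P₁, ∃ b ∈ P₂, g = a * b := by
  let W : Subgroup G :=
    { carrier := {g | ∃ a ∈ P₁, ∃ b ∈ P₂, g = a * b}
      mul_mem' := by
        rintro x y ⟨a, ha, b, hb, rfl⟩ ⟨a', ha', b', hb', rfl⟩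
        refine ⟨a * a', P₁.mul_mem ha ha', b * b', P₂.mul_mem hb hb', ?_⟩
        have := hcomm a' ha' b hb
        calc a * b * (a' * b') = a * (b * a') * b' := by group
          _ = a * (a' * b) * b' := by rw [this]
          _ = a * a' * (b * b') := by group
      one_mem' := ⟨1, P₁.one_mem, 1, P₂.one_mem, (mul_one 1).symm⟩
      inv_mem' := by
        rintro x ⟨a, ha, b, hb, rfl⟩
        refine ⟨a⁻¹, P₁.inv_mem ha, b⁻¹, P₂.inv_mem hb, ?_⟩
        have := hcomm a ha b hb
        calc (a * b)⁻¹ = (b * a)⁻¹ := by rw [this]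
          _ = a⁻¹ * b⁻¹ := by group }
  have hW : P₁ ⊔ P₂ ≤ W := by
    refine sup_le ?_ ?_
    · intro x hx; exact ⟨x, hx, 1, P₂.one_mem, (mul_one x).symm⟩
    · intro y hy; exact ⟨1, P₁.one_mem, y, hy, (one_mul y).symm⟩
  exact hW hg

/-- a central product of a group of order `p ^ 3` with an abelian group has class at most two -/
theorem commutator_le_centralizer_of_cprod {P₁ P₂ : Subgroup G}
    (hcomm : ∀ a ∈ P₁, ∀ b ∈ P₂, a * b = b * a) (h₁ : Nat.card P₁ = p ^ 3)
    (h₂ : ∀ a ∈ P₂, ∀ b ∈ P₂, a * b = b * a) :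
    ⁅P₁ ⊔ P₂, P₁ ⊔ P₂⁆ ≤ Subgroup.centralizer ((P₁ ⊔ P₂ : Subgroup G) : Set G) := by
  have hA : ∀ a ∈ P₁, ∀ a' ∈ P₁, ⁅a, a'⁆ ∈ P₁ ∧ ∀ g ∈ P₁, g * ⁅a, a'⁆ = ⁅a, a'⁆ * g := by
    intro a ha a' ha'
    have h1 : ⁅(⟨a, ha⟩ : ↥P₁), ⟨a', ha'⟩⁆ ∈ commutator ↥P₁ := by
      rw [commutator_def]
      exact Subgroup.commutator_mem_commutator (Subgroup.mem_top _) (Subgroup.mem_top _)
    have h2 := commutator_le_center_of_card_cube (p := p) h₁ h1
    refine ⟨?_, ?_⟩
    · have := (⁅(⟨a, ha⟩ : ↥P₁), (⟨a', ha'⟩ : ↥P₁)⁆).2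
      simpa [commutatorElement_def] using this
    · intro g hg
      have := Subgroup.mem_center_iff.mp h2 ⟨g, hg⟩
      have := congrArg Subtype.val this
      simpa [commutatorElement_def] using this
  rw [Subgroup.commutator_le]
  intro g₁ hg₁ g₂ hg₂
  obtain ⟨a, ha, b, hb, rfl⟩ := exists_mul_of_mem_sup_of_commute hcomm hg₁
  obtain ⟨a', ha', b', hb', rfl⟩ := exists_mul_of_mem_sup_of_commute hcomm hg₂
  have e1 : a * b * (a' * b') = a * a' * (b * b') := by
    have := hcomm a' ha' b hb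
    calc a * b * (a' * b') = a * (b * a') * b' := by group
      _ = a * (a' * b) * b' := by rw [this]
      _ = a * a' * (b * b') := by group
  have e2 : a' * b' * (a * b) = a' * a * (b * b') := by
    have := hcomm a ha b' hb'
    calc a' * b' * (a * b) = a' * (b' * a) * b := by group
      _ = a' * (a * b') * b := by rw [this]
      _ = a' * a * (b' * b) := by group
      _ = a' * a * (b * b') := by rw [h₂ b' hb' b hb]
  have e3 : ⁅a * b, a' * b'⁆ = ⁅a, a'⁆ := by
    have h5 : ⁅a * b, a' * b'⁆ = (a * b * (a' * b')) * (a' * b' * (a * b))⁻¹ := by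
      rw [commutatorElement_def]; group
    rw [h5, e1, e2, commutatorElement_def]; group
  rw [e3]
  obtain ⟨hc1, hc2⟩ := hA a ha a' ha'
  exact mem_centralizer_sup hc2 (fun y hy => (hcomm _ hc1 y hy).symm)

end leaves

end Cfsg.Agent.Lib.Helper55
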