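import Cfsg.Agent.Lib.Helper55.Basic

set_option autoImplicit false

namespace Cfsg.Agent.Lib.Helper55

open Cfsg

section pcoreof

variable {G : Type*} [Group G] {p : ℕ}

theorem pCoreOf_le (L : Subgroup G) : pCoreOf p L ≤ L := by
  unfold pCoreOf
  exact Subgroup.map_subtype_le _

theorem isPGroup_pCoreOf [Fact p.Prime] (L : Subgroup G) : IsPGroup p (pCoreOf p L) := by
  unfold pCoreOf
  exact isPGroup_pCore.map _

theorem le_normalizer_pCoreOf (L : Subgroup G) :
    L ≤ Subgroup.normalizer ((pCoreOf p L : Subgroup G) : Set G) := by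
  intro l hl
  rw [Subgroup.mem_normalizer_iff]
  intro x
  unfold pCoreOf
  have hn : (pCore p L).Normal := pCore_normal
  constructor
  · rintro ⟨y, hy, rfl⟩
    refine ⟨⟨l, hl⟩ * y * ⟨l, hl⟩⁻¹, hn.conj_mem y hy ⟨l, hl⟩, ?_⟩
    simp
  · rintro ⟨y, hy, hyx⟩
    refine ⟨⟨l, hl⟩⁻¹ * y * ⟨l, hl⟩, ?_, ?_⟩
    · have := hn.conj_mem y hy ⟨l, hl⟩⁻¹
      simpa using this
    · simp only [Subgroup.subtype_apply, Subgroup.coe_mul, Subgroup.coe_inv] at hyx ⊢
      rw [hyx]; group

theorem le_pCoreOf {N L : Subgroup G} (hNL : N ≤ L)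
    (hn : L ≤ Subgroup.normalizer (N : Set G)) (hp : IsPGroup p N) : N ≤ pCoreOf p L := by
  have h1 : (N.subgroupOf L).Normal := (Subgroup.normal_subgroupOf_iff_le_normalizer hNL).mpr hn
  have h2 : IsPGroup p (N.subgroupOf L) := hp.comap_subtype
  have h3 := le_pCore h1 h2
  have h4 : (N.subgroupOf L).map L.subtype ≤ pCoreOf p L := Subgroup.map_mono h3
  rwa [Subgroup.map_subgroupOf_eq_of_le hNL] at h4

theorem pCoreOf_eq_bot_iff (L : Subgroup G) : pCoreOf p L = ⊥ ↔ pCore p L = ⊥ := by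
  unfold pCoreOf
  exact (Subgroup.map_eq_bot_iff_of_injective _ L.subtype_injective)

theorem pCoreOf_cj_le (g : G) (L : Subgroup G) [Fact p.Prime] :
    cj g (pCoreOf p L) ≤ pCoreOf p (cj g L) := by
  apply le_pCoreOf (cj_mono (pCoreOf_le L))
  · rw [← cj_normalizer]
    exact cj_mono (le_normalizer_pCoreOf L)
  · exact isPGroup_cj (isPGroup_pCoreOf L)

theorem pCoreOf_cj (g : G) (L : Subgroup G) [Fact p.Prime] :
    pCoreOf p (cj g L) = cj g (pCoreOf p L) := by
  apply le_antisymm _ (pCoreOf_cj_le g L)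
  have := pCoreOf_cj_le (p := p) g⁻¹ (cj g L)
  rw [cj_inv_cj] at this
  rw [cj_le_iff] at this
  simpa using this

theorem normalizer_le_normalizer_pCoreOf (L : Subgroup G) [Fact p.Prime] :
    Subgroup.normalizer (L : Set G) ≤ Subgroup.normalizer ((pCoreOf p L : Subgroup G) : Set G) := by
  intro g hg
  rw [← cj_eq_self_iff] at hg ⊢
  rw [← pCoreOf_cj, hg]

theorem sylow_le_pCoreOf_sup [Fact p.Prime] {L : Subgroup G} (P : Sylow p G)
    (hPL : (P : Subgroup G) ≤ L) : pCoreOf p L ≤ P := by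
  have h1 : IsPGroup p ((pCoreOf p L) ⊔ (P : Subgroup G) : Subgroup G) := by
    apply IsPGroup.to_sup_of_normal_left' (isPGroup_pCoreOf L) P.isPGroup'
    exact hPL.trans (le_normalizer_pCoreOf L)
  have := P.is_maximal' h1 le_sup_right
  rw [← this]
  exact le_sup_left

end pcoreof

section large

variable {H : Type*} [Group H] {p : ℕ}

theorem isLarge_cj {Q : Subgroup H} (hL : IsLarge Q) (g : H) : IsLarge (cj g Q) := by
  obtain ⟨h1, h2⟩ := hL
  refine ⟨?_, ?_⟩
  · rw [← cj_centralizer]; exact cj_mono h1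
  · intro U hU hU1
    rw [← cj_centralizer, le_cj_iff] at hU
    have := h2 (cj g⁻¹ U) hU (cj_ne_bot hU1)
    have := cj_mono (g := g) this
    rwa [cj_normalizer, cj_normalizer, cj_cj_inv] at this

variable [Finite H] [Fact p.Prime]

/-- the centre of a nontrivial `p`-subgroup, inside the ambient group, is nontrivial -/
theorem inf_centralizer_ne_bot {T : Subgroup H} (hT : IsPGroup p T) (hT1 : T ≠ ⊥) :
    T ⊓ Subgroup.centralizer (T : Set H) ≠ ⊥ := by
  have : Nontrivial T := (Subgroup.nontrivial_iff_ne_bot T).mpr hT1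
  have := hT.center_nontrivial
  obtain ⟨z, hz⟩ := exists_ne (1 : Subgroup.center T)
  intro hbot
  apply hz
  have hzc := z.2
  have : ((z : T) : H) ∈ T ⊓ Subgroup.centralizer (T : Set H) := by
    rw [Subgroup.mem_inf]
    refine ⟨(z : T).2, ?_⟩
    rw [Subgroup.mem_centralizer_iff]
    intro y hy
    have := (Subgroup.mem_center_iff.mp hzc) ⟨y, hy⟩
    exact congrArg Subtype.val this
  rw [hbot, Subgroup.mem_bot] at this
  ext
  exact this

theorem normalizer_le_normalizer_inf_centralizer (T : Subgroup H) :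
    Subgroup.normalizer (T : Set H) ≤
      Subgroup.normalizer ((T ⊓ Subgroup.centralizer (T : Set H) : Subgroup H) : Set H) := by
  intro g hg
  rw [← cj_eq_self_iff] at hg ⊢
  rw [cj_inf, cj_centralizer, hg]

theorem large_normalizer_le {Q : Subgroup H} (hL : IsLarge Q) (hQ1 : Q ≠ ⊥) {T : Subgroup H}
    (hT : IsPGroup p T) (hQT : Q ≤ T) :
    Subgroup.normalizer (T : Set H) ≤ Subgroup.normalizer (Q : Set H) := by
  have hT1 : T ≠ ⊥ := fun h => hQ1 (le_bot_iff.mp (h ▸ hQT))
  refine (normalizer_le_normalizer_inf_centralizer T).trans ?_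
  apply hL.2 _ _ (inf_centralizer_ne_bot hT hT1)
  exact inf_le_right.trans (Subgroup.centralizer_le hQT)

/-- a large `p`-subgroup is normal in every `p`-subgroup containing it -/
theorem large_le_normalizer {Q : Subgroup H} (hL : IsLarge Q) (hQ1 : Q ≠ ⊥) {T : Subgroup H}
    (hT : IsPGroup p T) (hQT : Q ≤ T) : T ≤ Subgroup.normalizer (Q : Set H) :=
  Subgroup.le_normalizer.trans (large_normalizer_le hL hQ1 hT hQT)

theorem coe_smul_sylow (g : H) (P : Sylow p H) :
    ((g • P : Sylow p H) : Subgroup H) = cj g (P : Subgroup H) := by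
  ext x
  rw [mem_cj, Sylow.coe_subgroup_smul, Subgroup.mem_pointwise_smul_iff_inv_smul_mem]
  simp [MulAut.smul_def, MulAut.conj_apply, mul_assoc]

/-- Sylow conjugacy inside a subgroup -/
theorem exists_conj_sylow_of_le {K : Subgroup H} (P P' : Sylow p H) (hP : (P : Subgroup H) ≤ K)
    (hP' : (P' : Subgroup H) ≤ K) : ∃ k ∈ K, cj k (P : Subgroup H) = P' := by
  obtain ⟨k, hk⟩ := MulAction.exists_smul_eq K (P.subtype hP) (P'.subtype hP')
  refine ⟨k, k.2, ?_⟩
  rw [Sylow.smul_subtype] at hk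
  have := Sylow.subtype_injective hk
  rw [← coe_smul_sylow]
  rw [← this]
  rfl

theorem large_weaklyClosed {Q : Subgroup H} (hL : IsLarge Q) (hQp : IsPGroup p Q) (hQ1 : Q ≠ ⊥)
    {T : Subgroup H} (hT : IsPGroup p T) (hQT : Q ≤ T) {g : H} (hgT : cj g Q ≤ T) :
    cj g Q = Q := by
  obtain ⟨S, hTS⟩ := hT.exists_le_sylow
  have hS : IsPGroup p (S : Subgroup H) := S.isPGroup'
  -- S normalizes Q and cj g Q
  have h1 : (S : Subgroup H) ≤ Subgroup.normalizer (Q : Set H) :=
    large_le_normalizer hL hQ1 hS (hQT.trans hTS)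
  have hLg := isLarge_cj hL g
  have h2 : (S : Subgroup H) ≤ Subgroup.normalizer ((cj g Q : Subgroup H) : Set H) :=
    large_le_normalizer hLg (cj_ne_bot hQ1) hS (hgT.trans hTS)
  -- S^g also normalizes cj g Q
  have h3 : cj g (S : Subgroup H) ≤ Subgroup.normalizer ((cj g Q : Subgroup H) : Set H) := by
    rw [← cj_normalizer]; exact cj_mono h1
  -- S^g as a Sylow subgroup
  let S' : Sylow p H := g • S
  have hS' : (S' : Subgroup H) = cj g (S : Subgroup H) := coe_smul_sylow g S
  obtain ⟨n, hn, hnS⟩ := exists_conj_sylow_of_le S' S (hS' ▸ h3) h2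
  rw [hS', ← cj_mul] at hnS
  have h4 : n * g ∈ Subgroup.normalizer ((S : Subgroup H) : Set H) := cj_eq_self_iff.mp hnS
  have h5 : n * g ∈ Subgroup.normalizer (Q : Set H) :=
    large_normalizer_le hL hQ1 hS (hQT.trans hTS) h4
  have h6 : cj (n * g) Q = Q := cj_eq_self_iff.mpr h5
  rw [cj_mul] at h6
  have h7 : cj n (cj g Q) = cj g Q := cj_eq_self_iff.mpr hn
  rw [h7] at h6
  exact h6

/-- `C_H(Q) ∩ C_H(Q^g) = 1` for `g ∉ N_H(Q)` -/
theorem large_centralizer_inf_centralizer_cj {Q : Subgroup H} (hL : IsLarge Q)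
    (hQp : IsPGroup p Q) (hQ1 : Q ≠ ⊥) {g : H}
    (hg : g ∉ Subgroup.normalizer (Q : Set H)) :
    Subgroup.centralizer (Q : Set H) ⊓
      Subgroup.centralizer ((cj g Q : Subgroup H) : Set H) = ⊥ := by
  by_contra hU
  set U := Subgroup.centralizer (Q : Set H) ⊓
      Subgroup.centralizer ((cj g Q : Subgroup H) : Set H) with hUdef
  have hLg := isLarge_cj hL g
  have h1 : Subgroup.normalizer (U : Set H) ≤ Subgroup.normalizer (Q : Set H) :=
    hL.2 U inf_le_left hU
  have h2 : Subgroup.normalizer (U : Set H) ≤ Subgroup.normalizer ((cj g Q : Subgroup H) : Set H) :=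
    hLg.2 U inf_le_right hU
  -- Q centralizes U hence normalizes it
  have hcent : ∀ R : Subgroup H, U ≤ Subgroup.centralizer (R : Set H) →
      R ≤ Subgroup.normalizer (U : Set H) := by
    intro R hR r hr
    rw [Subgroup.mem_normalizer_iff]
    intro u
    constructor
    · intro hu
      have := (Subgroup.mem_centralizer_iff.mp (hR hu)) r hr
      have e : r * u * r⁻¹ = u := by rw [this]; group
      rw [e]; exact hu
    · intro hu
      have := (Subgroup.mem_centralizer_iff.mp (hR hu)) r hr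
      have e : u = r⁻¹ * (r * u * r⁻¹) * r := by group
      have e2 : r⁻¹ * (r * u * r⁻¹) * r = r * u * r⁻¹ := by
        have e3 : r⁻¹ * (r * u * r⁻¹) * r = r⁻¹ * ((r * u * r⁻¹) * r) := by group
        rw [e3, ← this]; group
      rw [e, e2]; exact hu
  have h3 : Q ≤ Subgroup.normalizer ((cj g Q : Subgroup H) : Set H) :=
    (hcent Q inf_le_left).trans h2
  have h4 : cj g Q ≤ Subgroup.normalizer (Q : Set H) :=
    (hcent (cj g Q) inf_le_right).trans h1
  -- Q ⊔ cj g Q is a p-group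
  have h5 : IsPGroup p (Q ⊔ cj g Q : Subgroup H) :=
    IsPGroup.to_sup_of_normal_left' hQp (isPGroup_cj hQp) h4
  have := large_weaklyClosed hL hQp hQ1 h5 le_sup_left (g := g) le_sup_right
  exact hg (cj_eq_self_iff.mp this)

end large

end Cfsg.Agent.Lib.Helper55
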