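import Cfsg.Agent.Lib.Helper55.FitUniq

/-!
# Bender–Glauberman, Theorem 9.4: Fitting subgroups of rank at least three
-/

set_option autoImplicit false
set_option linter.unusedSectionVars false
set_option linter.style.haveILetI false
set_option linter.unusedVariables false

namespace Cfsg.Agent.Lib.Helper55

open Cfsg
open Cfsg.Agent.Lib.Helper31 Cfsg.Agent.Lib.Helper31.BenderFit

section nine_four

variable {G : Type*} [Group G] [Finite G] {M : Subgroup G} {p : ℕ} [Fact p.Prime]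

/-- a subgroup of `p`-rank at least three is not cyclic -/
theorem not_isCyclic_of_not_pRankLE {R : Subgroup G} (hr : ¬ PRankLE p 2 ↥R) : ¬ IsCyclic ↥R := by
  have hp : p.Prime := Fact.out
  intro hcyc
  apply hr
  intro E hEc hEp
  by_contra hlt
  have hlt : p ^ 2 < Nat.card E := not_le.mp hlt
  have h1 : p < Nat.card E := lt_of_le_of_lt (by nlinarith [hp.two_le]) hlt
  exact Cfsg.Agent.Lib.Helper31.not_isCyclic_of_exp p hp E hEp h1 inferInstance

/-- **Bender–Glauberman, Theorem 8.1 (a)** for an elementary abelian subgroup of rank at least three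
of `F(M)`, without the maximality assumption -/
theorem fitting_uniq_elemAb (hG : IsMinSimpleOddOrder G) (hM : IsCoatom M) {A₀ : Subgroup G}
    (hA₀ : A₀ ≤ fittingOf M) (hA₀c : ∀ a ∈ A₀, ∀ b ∈ A₀, a * b = b * a)
    (hA₀e : ∀ a ∈ A₀, a ^ p = 1) (hA₀3 : p ^ 2 < Nat.card A₀)
    (hnp : ¬ IsPGroup p ↥(fittingOf M)) :
    InUniqueMaximal (fittingOf M ⊓ Subgroup.centralizer (A₀ : Set G)) := by
  have hp : p.Prime := Fact.out
  have hFM : fittingOf M ≤ M := Subgroup.map_subtype_le _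
  have hA₀1 : A₀ ≠ ⊥ := by
    rintro rfl
    rw [Subgroup.card_bot] at hA₀3
    have := Nat.one_lt_pow (n := 2) (by norm_num) hp.one_lt
    omega
  have hA₀p : IsPGroup p A₀ := isPGroup_of_pow_eq_one hA₀e
  have hA₀cen : A₀ ≤ Subgroup.centralizer (A₀ : Set G) := by
    intro a ha
    rw [Subgroup.mem_centralizer_iff]
    intro b hb
    exact hA₀c b hb a ha
  set A := fittingOf M ⊓ Subgroup.centralizer (A₀ : Set G) with hAdef
  have hAF : A ≤ fittingOf M := inf_le_left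
  have hA₀A : A₀ ≤ A := le_inf hA₀ hA₀cen
  have hCA : fittingOf M ⊓ Subgroup.centralizer (A : Set G) ≤ A :=
    inf_le_inf_left _ (Subgroup.centralizer_le hA₀A)
  have hF2 : 2 ≤ (Nat.card (fittingOf M)).primeFactors.card := by
    by_contra hlt
    apply hnp
    have hF0 : Nat.card (fittingOf M) ≠ 0 := Nat.card_pos.ne'
    have hpF : p ∣ Nat.card (fittingOf M) :=
      (ms_prime_dvd_card hG hA₀p hA₀1).trans (Subgroup.card_dvd_of_le hA₀)
    have hpm : p ∈ (Nat.card (fittingOf M)).primeFactors :=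
      Nat.mem_primeFactors.2 ⟨hp, hpF, hF0⟩
    have hle : (Nat.card (fittingOf M)).primeFactors.card ≤ 1 := by omega
    have huniq : ∀ {d : ℕ}, d.Prime → d ∣ Nat.card (fittingOf M) → d = p := by
      intro d hd hdF
      exact Finset.card_le_one.mp hle d (Nat.mem_primeFactors.2 ⟨hd, hdF, hF0⟩) p hpm
    exact IsPGroup.of_card (Nat.eq_prime_pow_of_unique_prime_dvd hF0 huniq)
  have hZ : ¬ RankLE 2 ↥(A ⊓ Subgroup.centralizer (A : Set G)) := by
    intro h
    have hle : A₀ ≤ A ⊓ Subgroup.centralizer (A : Set G) :=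
      le_inf hA₀A (le_centralizer_symm (inf_le_right : A ≤ Subgroup.centralizer (A₀ : Set G)))
    have h1 := pRankLE_sub_iff.mp (h p hp) A₀ hle hA₀c hA₀e
    omega
  refine ⟨M, ⟨hM, hAF.trans hFM⟩, ?_⟩
  rintro H ⟨hH, hAH⟩
  exact fitting_uniq_two hG hM hF2 hAF hCA hZ H hH hAH

/-- if `F(M)` has `p`-rank at least three for a maximal subgroup `M`, some abelian `p`-subgroup of
rank at least three lies in a unique maximal subgroup -/
theorem exists_uniq_of_fitting_rank_three (hG : IsMinSimpleOddOrder G) (hM : IsCoatom M)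
    (hF : ¬ PRankLE p 2 ↥(fittingOf M)) :
    ∃ A₁ : Subgroup G, IsPGroup p A₁ ∧ (∀ a ∈ A₁, ∀ b ∈ A₁, a * b = b * a) ∧
      ¬ PRankLE p 2 ↥A₁ ∧ InUniqueMaximal A₁ := by
  have hp : p.Prime := Fact.out
  obtain ⟨A₀, hA₀F, hA₀c, hA₀e, hA₀3⟩ := not_pRankLE_sub_iff.mp hF
  have hA₀1 : A₀ ≠ ⊥ := by
    rintro rfl
    rw [Subgroup.card_bot] at hA₀3
    have := Nat.one_lt_pow (n := 2) (by norm_num) hp.one_lt
    omega
  have hF1 : fittingOf M ≠ ⊥ := fun h => hA₀1 (eq_bot_iff.mpr (h ▸ hA₀F))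
  have hS := ms_setup hG hM
  by_cases hFp : IsPGroup p ↥(fittingOf M)
  · let P : Sylow p M := default
    have hRM : IsSylowIn p M ((P : Subgroup M).map M.subtype) := isSylowIn_of_sylow P
    have hFR : fittingOf M ≤ (P : Subgroup M).map M.subtype := hRM.normal_le hS.le hFp hS.norm
    have hR3 : ¬ PRankLE p 2 ↥((P : Subgroup M).map M.subtype) :=
      not_pRankLE_sub_iff.mpr ⟨A₀, hA₀F.trans hFR, hA₀c, hA₀e, hA₀3⟩
    have hR1 : (P : Subgroup M).map M.subtype ≠ ⊥ := fun h => hF1 (eq_bot_iff.mpr (h ▸ hFR))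
    have hp2 : p ≠ 2 := ms_prime_ne_two hG hRM.2.1 hR1
    obtain ⟨A₁, hscn, hA₁c, hA₁3⟩ := exists_scn3 hp2 hRM.2.1 hR3
    obtain ⟨hA₁F, huniq⟩ := fitting_uniq_pgroup hG hM hFp hF1 P hscn hA₁3
    refine ⟨A₁, hRM.2.1.to_le hscn.1, ?_, hA₁3, M, ⟨hM, hA₁F.trans hS.le⟩, ?_⟩
    · intro a ha b hb
      exact congrArg Subtype.val (hA₁c.is_comm.comm ⟨a, ha⟩ ⟨b, hb⟩)
    · rintro H ⟨hH, hAH⟩
      exact huniq H hH hAH
  · have hU := fitting_uniq_elemAb hG hM hA₀F hA₀c hA₀e hA₀3 hFp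
    have hA₀C : A₀ ≤ Subgroup.centralizer
        ((fittingOf M ⊓ Subgroup.centralizer (A₀ : Set G) : Subgroup G) : Set G) :=
      le_centralizer_symm inf_le_right
    have hlt : p < Nat.card A₀ := lt_of_le_of_lt (by nlinarith [hp.two_le]) hA₀3
    have hA₀U : InUniqueMaximal A₀ :=
      uniq_of_centralizing hG hU hA₀C (not_rankLE_one_of_elemAb hp hA₀c hA₀e hlt)
    exact ⟨A₀, isPGroup_of_pow_eq_one hA₀e, hA₀c,
      not_pRankLE_sub_iff.mpr ⟨A₀, le_rfl, hA₀c, hA₀e, hA₀3⟩, hA₀U⟩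

/-- **Bender–Glauberman, Theorem 9.4** -/
theorem uniq_of_fitting_rank_three (hG : IsMinSimpleOddOrder G) (hM : IsCoatom M)
    (hF : ¬ PRankLE p 2 ↥(fittingOf M)) {A : Subgroup G} (hAp : IsPGroup p A)
    (hAc : ∀ a ∈ A, ∀ b ∈ A, a * b = b * a) (hA3 : ¬ PRankLE p 2 ↥A) : InUniqueMaximal A := by
  obtain ⟨A₁, h1, h2, h3, h4⟩ := exists_uniq_of_fitting_rank_three hG hM hF
  refine uniq_of_rank_three hG h1 h2 h3 h4 hAp (not_isCyclic_of_not_pRankLE hA3) ?_
  intro h
  apply hA3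
  have hle : A ≤ Subgroup.centralizer (A : Set G) := by
    intro a ha
    rw [Subgroup.mem_centralizer_iff]
    intro b hb
    exact hAc b hb a ha
  exact pRankLE_of_inj (Subgroup.inclusion hle) (Subgroup.inclusion_injective hle) h

end nine_four

end Cfsg.Agent.Lib.Helper55
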