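import Cfsg.Agent.Lib.Helper55.PReduced

set_option autoImplicit false

namespace Cfsg.Agent.Lib.Helper55

open Cfsg

section

variable {G : Type*} [Group G] {p : ℕ}

theorem le_normalizer_of_cj_le {M P : Subgroup G} (h : ∀ m ∈ M, cj m P ≤ P) :
    M ≤ Subgroup.normalizer (P : Set G) := by
  intro m hm
  rw [← cj_eq_self_iff]
  apply le_antisymm (h m hm)
  have := h m⁻¹ (M.inv_mem hm)
  rwa [← le_cj_iff] at this

theorem subgroupOf_map_conj {K : Subgroup G} (B : Subgroup G) (g : K) :
    (B.subgroupOf K).map (MulAut.conj g).toMonoidHom = (cj (g : G) B).subgroupOf K := by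
  ext x
  rw [mem_cj, Subgroup.mem_subgroupOf, Subgroup.mem_subgroupOf, mem_cj]
  simp

/-- `N(Y) ≤ N(C(Y))`, `M ≤ N(M ⊓ C(Y))` when `M ≤ N(Y)` -/
theorem le_normalizer_inf_centralizer {M Y : Subgroup G}
    (h : M ≤ Subgroup.normalizer (Y : Set G)) :
    M ≤ Subgroup.normalizer ((M ⊓ Subgroup.centralizer (Y : Set G) : Subgroup G) : Set G) :=
  (le_inf Subgroup.le_normalizer (h.trans (normalizer_le_normalizer_centralizer Y))).trans
    Subgroup.inf_normalizer_le_normalizer_inf

variable [Finite G] [Fact p.Prime]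

/-- If `C_M(Y_M)` is `p`-closed then every `p`-subgroup of `C_M(Y_M)` lies in `O_p(M)`. -/
theorem le_pCoreOf_of_le_inf_centralizer {M : Subgroup G}
    (hpc : IsPClosed p ↥(M ⊓ Subgroup.centralizer ((largestPReducedOf p M : Subgroup G) : Set G)))
    {X : Subgroup G} (hX : IsPGroup p X)
    (hXK : X ≤ M ⊓ Subgroup.centralizer ((largestPReducedOf p M : Subgroup G) : Set G)) :
    X ≤ pCoreOf p M := by
  set K := M ⊓ Subgroup.centralizer ((largestPReducedOf p M : Subgroup G) : Set G) with hK
  obtain ⟨P⟩ : Nonempty (Sylow p K) := inferInstance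
  set P' : Subgroup G := (P : Subgroup K).map K.subtype with hP'
  have hP'K : P' ≤ K := Subgroup.map_subtype_le _
  have hP'p : IsPGroup p P' := P.isPGroup'.map _
  have hle : ∀ Z : Subgroup G, IsPGroup p Z → Z ≤ K → Z ≤ P' := by
    intro Z hZ hZK
    have h1 : Z.subgroupOf K ≤ P := le_sylow_of_isPClosed hpc P hZ.comap_subtype
    have h2 : (Z.subgroupOf K).map K.subtype ≤ P' := Subgroup.map_mono h1
    rwa [Subgroup.map_subgroupOf_eq_of_le hZK] at h2
  have hMK : M ≤ Subgroup.normalizer (K : Set G) :=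
    le_normalizer_inf_centralizer (le_normalizer_largestPReducedOf M)
  have hMP : M ≤ Subgroup.normalizer (P' : Set G) := by
    apply le_normalizer_of_cj_le
    intro m hm
    apply hle _ (isPGroup_cj hP'p)
    have : cj m K = K := cj_eq_self_iff.mpr (hMK hm)
    rw [← this]
    exact cj_mono hP'K
  have h3 : P' ≤ pCoreOf p M := le_pCoreOf (hP'K.trans inf_le_left) hMP hP'p
  exact (hle X hX hXK).trans h3

/-- `O_p(M)` is weakly closed in `M† = M C_G(Y_M)` (S2848). -/
theorem pCoreOf_weaklyClosed_dagger {M : Subgroup G} (S : Sylow p G) (hSM : (S : Subgroup G) ≤ M)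
    (hpc : IsPClosed p ↥(M ⊓ Subgroup.centralizer ((largestPReducedOf p M : Subgroup G) : Set G))) :
    IsWeaklyClosedSubgroup p ((pCoreOf p M).subgroupOf
      (M ⊔ Subgroup.centralizer ((largestPReducedOf p M : Subgroup G) : Set G))) := by
  set Y := largestPReducedOf p M with hY
  set C := Subgroup.centralizer (Y : Set G) with hC
  set Md := M ⊔ C with hMd
  set A := pCoreOf p M with hA
  have hSMd : (S : Subgroup G) ≤ Md := hSM.trans le_sup_left
  have hAS : A ≤ S := sylow_le_pCoreOf_sup S hSM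
  have hAC : A ≤ C := pCoreOf_le_centralizer_largestPReducedOf M
  have hMdC : Md ≤ Subgroup.normalizer (C : Set G) :=
    sup_le ((le_normalizer_largestPReducedOf M).trans (normalizer_le_normalizer_centralizer Y))
      Subgroup.le_normalizer
  refine ⟨S.subtype hSMd, ?_, ?_⟩
  · rw [Sylow.coe_subtype]
    intro x hx
    rw [Subgroup.mem_subgroupOf] at hx ⊢
    exact hAS hx
  · intro g hg
    rw [Sylow.coe_subtype, subgroupOf_map_conj] at hg
    rw [subgroupOf_map_conj]
    have hAMd : A ≤ Md := (pCoreOf_le M).trans le_sup_left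
    have hgA : cj (g : G) A ≤ Md := by
      have : cj (g : G) Md = Md := cj_eq_self_of_mem g.2
      exact (cj_mono hAMd).trans this.le
    have h1 : cj (g : G) A ≤ S := by
      intro x hx
      have hxMd : x ∈ Md := hgA hx
      have : (⟨x, hxMd⟩ : Md) ∈ (cj (g : G) A).subgroupOf Md := by
        rw [Subgroup.mem_subgroupOf]; exact hx
      have := hg this
      rwa [Subgroup.mem_subgroupOf] at this
    have h2 : cj (g : G) A ≤ C := by
      have : cj (g : G) C = C := cj_eq_self_iff.mpr (hMdC g.2)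
      rw [← this]; exact cj_mono hAC
    have h3 : cj (g : G) A ≤ A :=
      le_pCoreOf_of_le_inf_centralizer hpc (isPGroup_cj (isPGroup_pCoreOf M))
        (le_inf (h1.trans hSM) h2)
    have h4 : cj (g : G) A = A :=
      Subgroup.eq_of_le_of_card_ge h3 (by rw [card_cj])
    rw [h4]

end

end Cfsg.Agent.Lib.Helper55
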