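import Cfsg.Agent.Lib.Helper55.FrakM

set_option autoImplicit false

namespace Cfsg.Agent.Lib.Helper55

open Cfsg

section

variable {G : Type*} [Group G] [Finite G] {p : ℕ} [Fact p.Prime]

omit [Fact p.Prime] in
/-- every member of `𝓛` lies in a maximal member -/
theorem exists_maxCharP_ge {X : Subgroup G} (hX : X ∈ charPSubgroups p G) :
    ∃ X' ∈ maxCharPSubgroups p G, X ≤ X' := by
  have : Nonempty {Z : Subgroup G // Z ∈ charPSubgroups p G ∧ X ≤ Z} := ⟨⟨X, hX, le_rfl⟩⟩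
  obtain ⟨⟨Z, hZ, hXZ⟩, hmax⟩ :=
    Finite.exists_max (fun Z : {Z : Subgroup G // Z ∈ charPSubgroups p G ∧ X ≤ Z} => Nat.card Z.1)
  refine ⟨Z, ⟨hZ, ?_⟩, hXZ⟩
  intro L hL hZL
  have := hmax ⟨L, hL, hXZ.trans hZL⟩
  exact (Subgroup.eq_of_le_of_card_ge hZL this).symm

/-- a parabolic subgroup with nontrivial `O_p` containing `M ∈ 𝔐` lies in `M†` -/
theorem le_dagger_of_parabolic {Q : Subgroup G} (hL : IsLarge Q) (hQp : IsPGroup p Q)
    (hQ1 : Q ≠ ⊥) {M : Subgroup G} (hM : IsInFrakM p M) {X : Subgroup G} (hMX : M ≤ X)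
    (hpar : IsParabolic p X) (hX1 : pCoreOf p X ≠ ⊥) :
    X ≤ M ⊔ Subgroup.centralizer ((largestPReducedOf p M : Subgroup G) : Set G) := by
  have hX1' : pCore p ↥X ≠ ⊥ := fun h => hX1 ((pCoreOf_eq_bot_iff X).mpr h)
  have hX : X ∈ charPSubgroups p G := ⟨hX1', large_parabolic hL hQp hQ1 hpar hX1'⟩
  obtain ⟨X', hX', hXX'⟩ := exists_maxCharP_ge hX
  have := hM.2.2.1 X' hX' (hMX.trans hXX')
  rw [← this]
  exact hXX'

/-- `N_G(I) ≤ M†` for a nontrivial normal `p`-subgroup `I` of `M ∈ 𝔐`, `M` parabolic -/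
theorem normalizer_le_dagger {Q : Subgroup G} (hL : IsLarge Q) (hQp : IsPGroup p Q)
    (hQ1 : Q ≠ ⊥) {M : Subgroup G} (hM : IsInFrakM p M) (hpar : IsParabolic p M)
    {I : Subgroup G} (hI1 : I ≠ ⊥) (hIp : IsPGroup p I)
    (hMI : M ≤ Subgroup.normalizer (I : Set G)) :
    Subgroup.normalizer (I : Set G) ≤
      M ⊔ Subgroup.centralizer ((largestPReducedOf p M : Subgroup G) : Set G) := by
  apply le_dagger_of_parabolic hL hQp hQ1 hM hMI
  · obtain ⟨T, hT⟩ := hpar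
    exact ⟨T, hT.trans hMI⟩
  · intro h
    have : I ≤ pCoreOf p (Subgroup.normalizer (I : Set G)) :=
      le_pCoreOf Subgroup.le_normalizer le_rfl hIp
    rw [h] at this
    exact hI1 (le_bot_iff.mp this)

end

end Cfsg.Agent.Lib.Helper55
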