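import Cfsg.Agent.Lib.Helper55.FrakM2
import Cfsg.Agent.Lib.Helper55.SylowIn
import Cfsg.Agent.Lib.Helper55.StrEmb2
import Cfsg.Agent.Lib.Helper54.PRedAmbient
import Cfsg.Agent.Lib.Helper54.SylowLib
import Cfsg.Agent.Lib.Helper54.Quot
import Cfsg.Agent.S2821
import Cfsg.Agent.S2822
import Cfsg.Agent.Lib.Helper53.PReduced2

set_option autoImplicit false
set_option linter.unusedSectionVars false

namespace Cfsg.Agent.Lib.Helper55

open Cfsg

section typeLevel

variable {G : Type*} [Group G]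

/-- a normal subgroup all of whose supplements over `N` are trivial maps into the Frattini
subgroup of the quotient by `N` -/
theorem map_mk'_le_frattini (N K : Subgroup G) [N.Normal] [K.Normal]
    (h : ∀ X : Subgroup G, N ≤ X → X ⊔ K = ⊤ → X = ⊤) :
    K.map (QuotientGroup.mk' N) ≤ frattini (G ⧸ N) := by
  have hπ : Function.Surjective (QuotientGroup.mk' N) := QuotientGroup.mk'_surjective N
  unfold frattini Order.radical
  apply le_iInf₂
  intro Xb hXb
  by_contra hnot
  have hKn : (K.map (QuotientGroup.mk' N)).Normal := Subgroup.Normal.map inferInstance _ hπ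
  have hsup : Xb ⊔ K.map (QuotientGroup.mk' N) = ⊤ := by
    apply hXb.2
    apply lt_of_le_of_ne le_sup_left
    intro he
    apply hnot
    rw [he]
    exact le_sup_right
  set X := Xb.comap (QuotientGroup.mk' N) with hX
  have hNX : N ≤ X := by
    intro n hn
    rw [hX, Subgroup.mem_comap]
    have : (QuotientGroup.mk' N) n = 1 := by
      rw [QuotientGroup.mk'_apply, QuotientGroup.eq_one_iff]; exact hn
    rw [this]; exact Xb.one_mem
  have hXmap : X.map (QuotientGroup.mk' N) = Xb := Subgroup.map_comap_eq_self_of_surjective hπ Xb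
  have h1 : (X ⊔ K).map (QuotientGroup.mk' N) = ⊤ := by
    rw [Subgroup.map_sup, hXmap, hsup]
  have h2 : X ⊔ K = ⊤ := by
    have h3 := congrArg (Subgroup.comap (QuotientGroup.mk' N)) h1
    rw [Subgroup.comap_map_eq, QuotientGroup.ker_mk', Subgroup.comap_top] at h3
    rw [← h3]
    apply le_antisymm le_sup_left
    exact sup_le le_rfl (hNX.trans le_sup_left)
  have h4 := h X hNX h2
  apply hXb.1
  rw [← hXmap, h4, ← MonoidHom.range_eq_map, MonoidHom.range_eq_top]
  exact hπ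

variable [Finite G] {p : ℕ} [Fact p.Prime]

/-- a subgroup of `p'`-index contains a conjugate of each Sylow `p`-subgroup -/
theorem exists_conj_sylow_le_of_not_dvd_index (T : Sylow p G) (X : Subgroup G)
    (hX : ¬ p ∣ X.index) : ∃ g : G, (T : Subgroup G) ≤ X.map (MulAut.conj g).toMonoidHom := by
  obtain ⟨P⟩ : Nonempty (Sylow p X) := inferInstance
  have hP' : IsPGroup p ((P : Subgroup X).map X.subtype) := P.isPGroup'.map _
  have hidx : ¬ p ∣ ((P : Subgroup X).map X.subtype).index := by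
    rw [Subgroup.index_map_subtype]
    intro hdvd
    rcases (Nat.Prime.dvd_mul Fact.out).mp hdvd with h | h
    · exact P.not_dvd_index h
    · exact hX h
  obtain ⟨g, hg⟩ := MulAction.exists_smul_eq G (hP'.toSylow hidx) T
  refine ⟨g, ?_⟩
  have h1 : ((g • (hP'.toSylow hidx) : Sylow p G) : Subgroup G) = (T : Subgroup G) := by rw [hg]
  rw [← h1, coe_smul_sylow]
  apply cj_mono
  show (P : Subgroup X).map X.subtype ≤ X
  exact Subgroup.map_subtype_le _

/-- minimal supplements of a normal subgroup over a Sylow subgroup -/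
theorem isPClosed_and_frattini_of_minimal (T : Sylow p G) (K : Subgroup G) [hKn : K.Normal]
    (hmin : ∀ X : Subgroup G, (T : Subgroup G) ≤ X → X ⊔ K = ⊤ → X = ⊤) :
    IsPClosed p ↥K ∧ K.map (QuotientGroup.mk' (pCore p G)) ≤ frattini (G ⧸ pCore p G) := by
  have h1 : IsPClosed p ↥K := by
    have h2 := Helper54.normalizer_inf_sup_eq_top T K
    have h3 : (T : Subgroup G) ≤
        Subgroup.normalizer ((((T : Subgroup G) ⊓ K : Subgroup G)) : Set G) :=
      (le_inf Subgroup.le_normalizer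
        ((le_top : (T : Subgroup G) ≤ ⊤).trans (Subgroup.normalizer_eq_top_iff.2 hKn).ge)).trans
        Subgroup.inf_normalizer_le_normalizer_inf
    have h4 := hmin _ h3 h2
    obtain ⟨P, hP⟩ := Helper54.exists_sylow_eq_subgroupOf_of_normal T K
    apply Helper54.isPClosed_of_normal P
    rw [hP]
    have h5 : ((T : Subgroup G) ⊓ K).Normal := Subgroup.normalizer_eq_top_iff.1 h4
    rw [← Subgroup.inf_subgroupOf_right]
    exact h5.subgroupOf K
  refine ⟨h1, ?_⟩
  have : (pCore p G).Normal := pCore_normal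
  apply map_mk'_le_frattini
  intro X hNX hXK
  have hTK : (T : Subgroup G) ⊓ K ≤ X := (Helper54.sylow_inf_le_pCore_of_isPClosed h1 T).trans hNX
  have hidx : ¬ p ∣ X.index := by
    have e1 : X.index = X.relIndex K := by
      rw [Helper54.relIndex_eq_relIndex_sup_of_le_normalizer
        ((le_top : X ≤ ⊤).trans (Subgroup.normalizer_eq_top_iff.2 hKn).ge), hXK,
        Subgroup.relIndex_top_right]
    rw [e1]
    have e2 : X.relIndex K ∣ ((T : Subgroup G) ⊓ K).relIndex K :=
      Subgroup.relIndex_dvd_of_le_left K hTK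
    rw [Subgroup.inf_relIndex_right] at e2
    intro hdvd
    obtain ⟨P, hP⟩ := Helper54.exists_sylow_eq_subgroupOf_of_normal T K
    have h6 := P.not_dvd_index
    rw [hP] at h6
    exact h6 (dvd_trans hdvd e2)
  obtain ⟨g, hg⟩ := exists_conj_sylow_le_of_not_dvd_index T X hidx
  have h5 : cj g X ⊔ K = ⊤ := by
    have e : cj g (X ⊔ K) = cj g X ⊔ cj g K := Subgroup.map_sup _ _ _
    have eK : cj g K = K := cj_eq_self_iff.mpr
      ((Subgroup.normalizer_eq_top_iff.2 hKn).ge (Subgroup.mem_top g))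
    rw [eK, hXK] at e
    rw [← e, eq_top_iff]
    intro x _
    rw [mem_cj]
    exact Subgroup.mem_top _
  have h6 : cj g X = ⊤ := hmin _ hg h5
  rw [eq_top_iff]
  intro x _
  have : g * x * g⁻¹ ∈ cj g X := by rw [h6]; exact Subgroup.mem_top _
  rw [mem_cj] at this
  simpa [mul_assoc] using this

end typeLevel

section ambient

variable {H : Type*} [Group H] {p : ℕ}

/-- `C_H(Y_X)` -/
abbrev CY (p : ℕ) (X : Subgroup H) : Subgroup H :=
  Subgroup.centralizer ((largestPReducedOf p X : Subgroup H) : Set H)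

/-- members of `𝓛` have characteristic `p` -/
theorem localChar_of_mem_charP {X : Subgroup H} (hX : X ∈ charPSubgroups p H) :
    Subgroup.centralizer (pCore p ↥X : Set ↥X) ≤ pCore p ↥X :=
  centralizer_pCore_le_of_pCoreOf (inf_le_right.trans hX.2)

theorem isElementaryAbelian_subgroupOf {Y : Subgroup H} (hY : IsElementaryAbelian p Y)
    (X : Subgroup H) : IsElementaryAbelian p (Y.subgroupOf X) := by
  refine ⟨Helper54.isMulCommutative_of_comm ?_, ?_⟩
  · intro a ha b hb
    have := hY.1.is_comm.comm (⟨(a : H), Subgroup.mem_subgroupOf.1 ha⟩ : ↥Y)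
      ⟨(b : H), Subgroup.mem_subgroupOf.1 hb⟩
    have h2 := congrArg (fun z : ↥Y => (z : H)) this
    apply Subtype.ext
    simpa using h2
  · intro a ha
    exact Subtype.ext (by simpa using hY.2 (a : H) (Subgroup.mem_subgroupOf.1 ha))

variable [Finite H] [Fact p.Prime]

/-- `Y_{X₁} ≤ Y_{X₂}` for `T ≤ X₁ ≤ X₂` with `X₂` of characteristic `p` -/
theorem largestPReducedOf_mono (T : Sylow p H) {X₁ X₂ : Subgroup H}
    (hT : (T : Subgroup H) ≤ X₁) (h12 : X₁ ≤ X₂)
    (h2 : Subgroup.centralizer (pCore p ↥X₂ : Set ↥X₂) ≤ pCore p ↥X₂) :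
    largestPReducedOf p X₁ ≤ largestPReducedOf p X₂ := by
  have hY1 : largestPReducedOf p X₁ ≤ X₁ := Helper54.largestPReducedOf_le_self p X₁
  have hY2 : largestPReducedOf p X₁ ≤ X₂ := hY1.trans h12
  have hred := Helper54.isPReducedNormal_largestPReducedOf (p := p) X₁
  obtain ⟨_, hel, _⟩ := (Helper54.isPReducedNormal_subgroupOf_iff hY1).1 hred
  have key : IsPReducedNormal p (Subgroup.normalClosure
      (((largestPReducedOf p X₁).subgroupOf X₂ : Subgroup ↥X₂) : Set ↥X₂)) := by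
    apply Helper53.isPReducedNormal_normalClosure h2 (T.subtype (hT.trans h12))
      (X₁.subgroupOf X₂) ?_ _ (isElementaryAbelian_subgroupOf hel X₂)
    · intro D hDR hRD hpow
      have hD1 : D.map X₂.subtype ≤ X₁ := by
        rintro _ ⟨d, hd, rfl⟩
        exact Subgroup.mem_subgroupOf.1 (hDR hd)
      have hD2 : X₁ ≤ Subgroup.normalizer ((D.map X₂.subtype : Subgroup H) : Set H) := by
        intro x hx
        have hx' : (⟨x, h12 hx⟩ : ↥X₂) ∈ Subgroup.normalizer (D : Set ↥X₂) :=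
          hRD (Subgroup.mem_subgroupOf.2 hx)
        rw [Subgroup.mem_normalizer_iff]
        intro y
        constructor
        · rintro ⟨d, hd, rfl⟩
          refine ⟨⟨x, h12 hx⟩ * d * ⟨x, h12 hx⟩⁻¹,
            (Subgroup.mem_normalizer_iff.1 hx' d).1 hd, ?_⟩
          simp
        · rintro ⟨d, hd, hdy⟩
          refine ⟨⟨x, h12 hx⟩⁻¹ * d * ⟨x, h12 hx⟩, ?_, ?_⟩
          · have := (Subgroup.mem_normalizer_iff.1 hx' (⟨x, h12 hx⟩⁻¹ * d * ⟨x, h12 hx⟩)).2
            apply this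
            simpa [mul_assoc] using hd
          · have : (d : H) = x * y * x⁻¹ := hdy
            simp [this, mul_assoc]
      have hD3 : ∀ d ∈ D.map X₂.subtype, ∃ k : ℕ, d ^ (p ^ k) ∈
          Subgroup.centralizer ((largestPReducedOf p X₁ : Subgroup H) : Set H) := by
        rintro _ ⟨d, hd, rfl⟩
        obtain ⟨k, hk⟩ := hpow d hd
        refine ⟨k, ?_⟩
        have := (Helper54.mem_centralizer_subgroupOf_iff hY2 _).1 hk
        simpa using this
      have hD4 := Helper54.le_centralizer_of_pow_mem hY1 hred hD1 hD2 hD3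
      intro d hd
      rw [Helper54.mem_centralizer_subgroupOf_iff hY2]
      exact hD4 ⟨d, hd, rfl⟩
    · intro t ht
      rw [Subgroup.mem_subgroupOf]
      exact hT (Subgroup.mem_subgroupOf.1 ht)
  have h3 : Subgroup.normalClosure
      (((largestPReducedOf p X₁).subgroupOf X₂ : Subgroup ↥X₂) : Set ↥X₂) ≤
      largestPReduced p ↥X₂ := le_sSup key
  intro y hy
  exact ⟨⟨y, hY2 hy⟩, h3 (Subgroup.subset_normalClosure (Subgroup.mem_subgroupOf.2 hy)), rfl⟩

/-- `Ω₁Z(T) ≤ Y_X` -/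
theorem omegaOne_center_le_largestPReducedOf (T : Sylow p H) {X : Subgroup H}
    (hTX : (T : Subgroup H) ≤ X)
    (hX : Subgroup.centralizer (pCore p ↥X : Set ↥X) ≤ pCore p ↥X) :
    omegaOne p ((T : Subgroup H) ⊓ Subgroup.centralizer ((T : Subgroup H) : Set H)) ≤
      largestPReducedOf p X := by
  have h := Cfsg.Agent.S2821.result T X hTX hX _ rfl
  exact h.2.2.2.1.trans h.2.2.2.2.1

/-- `Ω₁Z(T) ≠ 1` -/
theorem omegaOne_center_ne_bot (T : Sylow p H) (hT1 : (T : Subgroup H) ≠ ⊥) :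
    omegaOne p ((T : Subgroup H) ⊓ Subgroup.centralizer ((T : Subgroup H) : Set H)) ≠ ⊥ := by
  have hZ1 := inf_centralizer_ne_bot T.isPGroup' hT1
  obtain ⟨x, hxZ, hxp⟩ := exists_orderOf_eq_prime_of_ne_bot
    (T.isPGroup'.to_le (inf_le_left :
      (T : Subgroup H) ⊓ Subgroup.centralizer ((T : Subgroup H) : Set H) ≤ T)) hZ1
  have hx1 : x ≠ 1 := by
    intro h
    rw [h, orderOf_one] at hxp
    exact (Fact.out : p.Prime).one_lt.ne hxp
  have hxO : x ∈ omegaOne p
      ((T : Subgroup H) ⊓ Subgroup.centralizer ((T : Subgroup H) : Set H)) :=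
    Helper54.mem_omegaOne hxZ (by rw [← hxp]; exact pow_orderOf_eq_one x)
  intro hbot
  rw [hbot, Subgroup.mem_bot] at hxO
  exact hx1 hxO

/-- `Y_X ≠ 1` -/
theorem largestPReducedOf_ne_bot (T : Sylow p H) (hT1 : (T : Subgroup H) ≠ ⊥) {X : Subgroup H}
    (hTX : (T : Subgroup H) ≤ X)
    (hX : Subgroup.centralizer (pCore p ↥X : Set ↥X) ≤ pCore p ↥X) :
    largestPReducedOf p X ≠ ⊥ := by
  intro hbot
  have := omegaOne_center_le_largestPReducedOf T hTX hX
  rw [hbot] at this
  exact omegaOne_center_ne_bot T hT1 (le_bot_iff.mp this)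

theorem isPGroup_largestPReducedOf (X : Subgroup H) : IsPGroup p (largestPReducedOf p X) :=
  (isPGroup_pCoreOf X).to_le (largestPReducedOf_le_pCoreOf X)

theorem largestPReducedOf_le_sylow (T : Sylow p H) {X : Subgroup H}
    (hTX : (T : Subgroup H) ≤ X) : largestPReducedOf p X ≤ (T : Subgroup H) :=
  (largestPReducedOf_le_pCoreOf X).trans (Helper54.pCoreOf_le_sylow X T hTX)

/-- a subgroup containing `T` and normalizing a nontrivial `p`-subgroup of itself lies in `𝓛` -/
theorem mem_charP_of_le_normalizer (T : Sylow p H)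
    (hpar : ∀ X : Subgroup H, (T : Subgroup H) ≤ X → pCoreOf p X ≠ ⊥ → X ∈ charPSubgroups p H)
    {A Y : Subgroup H} (hTA : (T : Subgroup H) ≤ A) (hY1 : Y ≠ ⊥) (hYp : IsPGroup p Y)
    (hYA : Y ≤ A) (hAY : A ≤ Subgroup.normalizer (Y : Set H)) : A ∈ charPSubgroups p H := by
  apply hpar A hTA
  intro hbot
  have := le_pCoreOf hYA hAY hYp
  rw [hbot] at this
  exact hY1 (le_bot_iff.mp this)

/-- for a maximal member `Mt` of `𝓛` containing `T`, `N_H(Y_{Mt}) = Mt` -/
theorem normalizer_largestPReducedOf_eq_of_max (T : Sylow p H) (hT1 : (T : Subgroup H) ≠ ⊥)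
    (hpar : ∀ X : Subgroup H, (T : Subgroup H) ≤ X → pCoreOf p X ≠ ⊥ → X ∈ charPSubgroups p H)
    {Mt : Subgroup H} (hMt : Mt ∈ maxCharPSubgroups p H) (hTMt : (T : Subgroup H) ≤ Mt) :
    Subgroup.normalizer ((largestPReducedOf p Mt : Subgroup H) : Set H) = Mt := by
  have hle : Mt ≤ Subgroup.normalizer ((largestPReducedOf p Mt : Subgroup H) : Set H) :=
    le_normalizer_largestPReducedOf Mt
  apply hMt.2 _ _ hle
  exact mem_charP_of_le_normalizer T hpar (hTMt.trans hle)
    (largestPReducedOf_ne_bot T hT1 hTMt (localChar_of_mem_charP hMt.1))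
    (isPGroup_largestPReducedOf Mt) Subgroup.le_normalizer le_rfl

theorem CY_le_of_max (T : Sylow p H) (hT1 : (T : Subgroup H) ≠ ⊥)
    (hpar : ∀ X : Subgroup H, (T : Subgroup H) ≤ X → pCoreOf p X ≠ ⊥ → X ∈ charPSubgroups p H)
    {Mt : Subgroup H} (hMt : Mt ∈ maxCharPSubgroups p H) (hTMt : (T : Subgroup H) ≤ Mt) :
    CY p Mt ≤ Mt := by
  have h := normalizer_largestPReducedOf_eq_of_max T hT1 hpar hMt hTMt
  intro x hx
  rw [← h]
  rw [Subgroup.mem_normalizer_iff]
  intro y
  have hc := Subgroup.mem_centralizer_iff.1 hx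
  constructor
  · intro hy
    have := hc y hy
    rw [← this]; simpa using hy
  · intro hy
    have := hc _ hy
    have e : y = x * y * x⁻¹ := by
      have : x * y * x⁻¹ * x = x * (x * y * x⁻¹) := this
      have e2 : x * y = x * (x * y * x⁻¹) := by simpa [mul_assoc] using this
      exact mul_left_cancel e2
    rw [e]; exact hy

/-- properties of a minimal supplement `M` of `C_H(Y_{Mt})` in a maximal member `Mt` of `𝓛` -/
theorem minimal_supplement_props (T : Sylow p H) (hT1 : (T : Subgroup H) ≠ ⊥)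
    (hpar : ∀ X : Subgroup H, (T : Subgroup H) ≤ X → pCoreOf p X ≠ ⊥ → X ∈ charPSubgroups p H)
    {Mt : Subgroup H} (hMt : Mt ∈ maxCharPSubgroups p H) (hTMt : (T : Subgroup H) ≤ Mt)
    {M : Subgroup H} (hTM : (T : Subgroup H) ≤ M) (hMMt : M ≤ Mt) (hsup : M ⊔ CY p Mt = Mt)
    (hmin : ∀ X : Subgroup H, (T : Subgroup H) ≤ X → X ≤ M → X ⊔ CY p Mt = Mt → X = M) :
    M ∈ charPSubgroups p H ∧ largestPReducedOf p M = largestPReducedOf p Mt ∧
    IsPClosed p ↥(M ⊓ CY p M) ∧
    ((M ⊓ CY p M).subgroupOf M).map (QuotientGroup.mk' (pCore p ↥M)) ≤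
      frattini (↥M ⧸ pCore p ↥M) := by
  have hcharMt := localChar_of_mem_charP hMt.1
  have hYt1 := largestPReducedOf_ne_bot T hT1 hTMt hcharMt
  have hYtT := largestPReducedOf_le_sylow T hTMt
  have hMtN : Mt ≤ Subgroup.normalizer ((largestPReducedOf p Mt : Subgroup H) : Set H) :=
    le_normalizer_largestPReducedOf Mt
  have hM : M ∈ charPSubgroups p H :=
    mem_charP_of_le_normalizer T hpar hTM hYt1 (isPGroup_largestPReducedOf Mt)
      (hYtT.trans hTM) (hMMt.trans hMtN)
  have hcharM := localChar_of_mem_charP hM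
  have hCt : CY p Mt ≤ Mt := CY_le_of_max T hT1 hpar hMt hTMt
  have hY : largestPReducedOf p M = largestPReducedOf p Mt := by
    apply le_antisymm (largestPReducedOf_mono T hTM hMMt hcharMt)
    apply Cfsg.Agent.S2822.result T M Mt hTM hTMt hcharM hcharMt
    show M ⊔ CY p Mt = Mt ⊔ CY p Mt
    rw [hsup, sup_of_le_left hCt]
  have hCYM : CY p M = CY p Mt := by
    show Subgroup.centralizer ((largestPReducedOf p M : Subgroup H) : Set H) = _
    rw [hY]
  refine ⟨hM, hY, ?_⟩
  rw [hCYM]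
  have hMK : M ≤ Subgroup.normalizer ((M ⊓ CY p Mt : Subgroup H) : Set H) :=
    le_normalizer_inf_centralizer (hMMt.trans hMtN)
  have hKn : ((M ⊓ CY p Mt).subgroupOf M).Normal :=
    (Subgroup.normal_subgroupOf_iff_le_normalizer inf_le_left).2 hMK
  have key := isPClosed_and_frattini_of_minimal (T.subtype hTM) ((M ⊓ CY p Mt).subgroupOf M) ?_
  · refine ⟨?_, key.2⟩
    exact Helper54.isPClosed_of_mulEquiv (Subgroup.subgroupOfEquivOfLe inf_le_left) key.1
  · intro X hTX hXK
    have hX' := hmin (X.map M.subtype) ?_ (Subgroup.map_subtype_le X) ?_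
    · rw [eq_top_iff]
      intro m _
      have : (m : H) ∈ X.map M.subtype := by rw [hX']; exact m.2
      obtain ⟨x, hx, hxm⟩ := this
      have : x = m := Subtype.ext hxm
      rwa [← this]
    · intro t ht
      refine ⟨⟨t, hTM ht⟩, hTX ?_, rfl⟩
      rw [Sylow.coe_subtype]
      exact Subgroup.mem_subgroupOf.2 ht
    · apply le_antisymm (sup_le ((Subgroup.map_subtype_le X).trans hMMt) hCt)
      have hMle : M ≤ X.map M.subtype ⊔ CY p Mt := by
        intro m hm
        have h1 : (⟨m, hm⟩ : ↥M) ∈ X ⊔ (M ⊓ CY p Mt).subgroupOf M := by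
          rw [hXK]; exact Subgroup.mem_top _
        have h2 : m ∈ (X ⊔ (M ⊓ CY p Mt).subgroupOf M).map M.subtype := ⟨⟨m, hm⟩, h1, rfl⟩
        rw [Subgroup.map_sup, Subgroup.subgroupOf_map_subtype] at h2
        have h3 : X.map M.subtype ⊔ (M ⊓ CY p Mt) ⊓ M ≤ X.map M.subtype ⊔ CY p Mt :=
          sup_le le_sup_left ((inf_le_left.trans inf_le_right).trans le_sup_right)
        exact h3 h2
      calc Mt = M ⊔ CY p Mt := hsup.symm
        _ ≤ X.map M.subtype ⊔ CY p Mt := sup_le hMle le_sup_right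

theorem CY_anti {X₁ X₂ : Subgroup H} (h : largestPReducedOf p X₁ ≤ largestPReducedOf p X₂) :
    CY p X₂ ≤ CY p X₁ := Subgroup.centralizer_le h

theorem CY_congr {X₁ X₂ : Subgroup H} (h : largestPReducedOf p X₁ = largestPReducedOf p X₂) :
    CY p X₁ = CY p X₂ := by
  show Subgroup.centralizer ((largestPReducedOf p X₁ : Subgroup H) : Set H) = _
  rw [h]

theorem sup_eq_sup_of_le {A B C D : Subgroup H} (hCD : C ≤ D) (h : A ⊔ C = B ⊔ C) :
    A ⊔ D = B ⊔ D := by
  calc A ⊔ D = A ⊔ (C ⊔ D) := by rw [sup_of_le_right hCD]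
    _ = (A ⊔ C) ⊔ D := (sup_assoc _ _ _).symm
    _ = (B ⊔ C) ⊔ D := by rw [h]
    _ = B ⊔ (C ⊔ D) := sup_assoc _ _ _
    _ = B ⊔ D := by rw [sup_of_le_right hCD]

/-- existence of `M ∈ 𝔐_H(T)` and `L*` (the basic property lemma) -/
theorem exists_frakM (T : Sylow p H)
    (hpar : ∀ X : Subgroup H, (T : Subgroup H) ≤ X → pCoreOf p X ≠ ⊥ → X ∈ charPSubgroups p H)
    (L : Subgroup H) (hTL : (T : Subgroup H) ≤ L) (hL : L ∈ charPSubgroups p H) :
    ∃ M Ls : Subgroup H, (T : Subgroup H) ≤ M ∧ IsInFrakM p M ∧ (T : Subgroup H) ≤ Ls ∧ Ls ≤ M ∧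
      Ls ∈ charPSubgroups p H ∧ largestPReducedOf p L = largestPReducedOf p Ls ∧
      largestPReducedOf p L ≤ largestPReducedOf p M ∧
      L ⊔ CY p L = Ls ⊔ CY p L := by
  have hT1 : (T : Subgroup H) ≠ ⊥ := by
    intro h
    have h1 : pCoreOf p L ≤ (T : Subgroup H) := Helper54.pCoreOf_le_sylow L T hTL
    rw [h] at h1
    exact hL.1 ((pCoreOf_eq_bot_iff L).mp (le_bot_iff.mp h1))
  obtain ⟨Mt0, hMt0, hLMt0⟩ := exists_maxCharP_ge hL
  have hne : Nonempty {P : Subgroup H × Subgroup H // P.2 ∈ maxCharPSubgroups p H ∧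
      (T : Subgroup H) ≤ P.1 ∧ P.1 ≤ P.2 ∧ P.1 ∈ charPSubgroups p H ∧
      largestPReducedOf p P.1 = largestPReducedOf p L ∧ L ⊔ CY p L = P.1 ⊔ CY p L} :=
    ⟨⟨(L, Mt0), hMt0, hTL, hLMt0, hL, rfl, rfl⟩⟩
  obtain ⟨⟨⟨Ls, Mt⟩, hMt, hTLs, hLsMt, hLs, hYLs, hLLs⟩, hmax⟩ :=
    Finite.exists_max (fun P : {P : Subgroup H × Subgroup H // P.2 ∈ maxCharPSubgroups p H ∧
      (T : Subgroup H) ≤ P.1 ∧ P.1 ≤ P.2 ∧ P.1 ∈ charPSubgroups p H ∧
      largestPReducedOf p P.1 = largestPReducedOf p L ∧ L ⊔ CY p L = P.1 ⊔ CY p L} =>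
        Nat.card (largestPReducedOf p P.1.2))
  simp only at hMt hTLs hLsMt hLs hYLs hLLs
  have hTMt : (T : Subgroup H) ≤ Mt := hTLs.trans hLsMt
  have hcharMt := localChar_of_mem_charP hMt.1
  have hCt : CY p Mt ≤ Mt := CY_le_of_max T hT1 hpar hMt hTMt
  have hMtN : Mt ≤ Subgroup.normalizer ((largestPReducedOf p Mt : Subgroup H) : Set H) :=
    le_normalizer_largestPReducedOf Mt
  have hYt1 := largestPReducedOf_ne_bot T hT1 hTMt hcharMt
  have hYtT := largestPReducedOf_le_sylow T hTMt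
  -- the minimal supplement
  have hne2 : Nonempty {X : Subgroup H // (T : Subgroup H) ≤ X ∧ X ≤ Mt ∧ X ⊔ CY p Mt = Mt} :=
    ⟨⟨Mt, hTMt, le_rfl, sup_of_le_left hCt⟩⟩
  obtain ⟨⟨M, hTM, hMMt, hsup⟩, hminc⟩ :=
    Finite.exists_min (fun X : {X : Subgroup H // (T : Subgroup H) ≤ X ∧ X ≤ Mt ∧
      X ⊔ CY p Mt = Mt} => Nat.card X.1)
  have hmin : ∀ X : Subgroup H, (T : Subgroup H) ≤ X → X ≤ M → X ⊔ CY p Mt = Mt → X = M := by
    intro X hTX hXM hXs
    have := hminc ⟨X, hTX, hXM.trans hMMt, hXs⟩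
    exact Subgroup.eq_of_le_of_card_ge hXM this
  obtain ⟨hM, hYM, hpc, hfr⟩ := minimal_supplement_props T hT1 hpar hMt hTMt hTM hMMt hsup hmin
  have hCYM : CY p M = CY p Mt := CY_congr hYM
  have hdag : M ⊔ CY p M = Mt := by rw [hCYM]; exact hsup
  have hYLYt : largestPReducedOf p L ≤ largestPReducedOf p Mt := by
    rw [← hYLs]; exact largestPReducedOf_mono T hTLs hLsMt hcharMt
  have hCtCL : CY p Mt ≤ CY p L := CY_anti hYLYt
  have hMnCt : M ≤ Subgroup.normalizer ((CY p Mt : Subgroup H) : Set H) :=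
    (hMMt.trans hMtN).trans (normalizer_le_normalizer_centralizer _)
  -- the new `L*`
  obtain ⟨Lss, hLssdef⟩ : ∃ Lss : Subgroup H, Lss = (Ls ⊔ CY p Mt) ⊓ M := ⟨_, rfl⟩
  have hTLss : (T : Subgroup H) ≤ Lss := by
    rw [hLssdef]; exact le_inf (hTLs.trans le_sup_left) hTM
  have hLssM : Lss ≤ M := by rw [hLssdef]; exact inf_le_right
  have hLss : Lss ∈ charPSubgroups p H :=
    mem_charP_of_le_normalizer T hpar hTLss hYt1 (isPGroup_largestPReducedOf Mt)
      (hYtT.trans hTLss) ((hLssM.trans hMMt).trans hMtN)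
  have hLssCt : Lss ⊔ CY p Mt = Ls ⊔ CY p Mt := by
    apply le_antisymm
    · rw [hLssdef]; exact sup_le inf_le_left le_sup_right
    · intro x hx
      have hxMt : x ∈ CY p Mt ⊔ M := by
        rw [sup_comm, hsup]; exact (sup_le hLsMt hCt) hx
      obtain ⟨c, hc, m, hm, rfl⟩ := Helper54.exists_mul_of_mem_sup_of_le_normalizer hMnCt hxMt
      have hm' : m ∈ Lss := by
        rw [hLssdef]
        refine ⟨?_, hm⟩
        have : m = c⁻¹ * (c * m) := by group
        rw [this]
        exact Subgroup.mul_mem _ (Subgroup.inv_mem _ ((le_sup_right : CY p Mt ≤ Ls ⊔ CY p Mt) hc)) hx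
      exact Subgroup.mul_mem _ ((le_sup_right : CY p Mt ≤ Lss ⊔ CY p Mt) hc)
        ((le_sup_left : Lss ≤ Lss ⊔ CY p Mt) hm')
  have h2 : L ⊔ CY p L = Lss ⊔ CY p L := by
    rw [hLLs]
    exact (sup_eq_sup_of_le hCtCL hLssCt).symm
  have hcharLs := localChar_of_mem_charP hLs
  have hcharLss := localChar_of_mem_charP hLss
  have hYLss : largestPReducedOf p Lss = largestPReducedOf p L := by
    apply le_antisymm
    · rw [← hYLs]
      apply Cfsg.Agent.S2822.result T Ls Lss hTLs hTLss hcharLs hcharLss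
      have hYLssYt : largestPReducedOf p Lss ≤ largestPReducedOf p Mt :=
        largestPReducedOf_mono T hTLss (hLssM.trans hMMt) hcharMt
      exact (sup_eq_sup_of_le (CY_anti hYLssYt) hLssCt).symm
    · rw [← hYLs]
      apply Cfsg.Agent.S2822.result T Lss Ls hTLss hTLs hcharLss hcharLs
      show Lss ⊔ CY p Ls = Ls ⊔ CY p Ls
      rw [CY_congr hYLs, ← hLLs]
      exact h2.symm
  have huniq : ∀ X ∈ maxCharPSubgroups p H, M ≤ X → X = Mt := by
    intro X hX hMX
    have hcharX := localChar_of_mem_charP hX.1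
    have h3 := hmax ⟨(Lss, X), hX, hTLss, hLssM.trans hMX, hLss, hYLss, h2⟩
    have h4 : largestPReducedOf p Mt ≤ largestPReducedOf p X := by
      rw [← hYM]; exact largestPReducedOf_mono T hTM hMX hcharX
    have h5 : largestPReducedOf p Mt = largestPReducedOf p X :=
      Subgroup.eq_of_le_of_card_ge h4 h3
    have h6 : X ≤ Mt := by
      have h7 := normalizer_largestPReducedOf_eq_of_max T hT1 hpar hMt hTMt
      rw [h5] at h7
      rw [← h7]
      exact le_normalizer_largestPReducedOf X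
    exact (hX.2 Mt hMt.1 h6).symm
  refine ⟨M, Lss, hTM, ⟨hM, ?_, ?_, ?_, hpc, hfr⟩, hTLss, hLssM, hLss, hYLss.symm, ?_, h2⟩
  · show M ⊔ CY p M ∈ _
    rw [hdag]; exact hMt
  · intro X hX hMX
    show X = M ⊔ CY p M
    rw [hdag]; exact huniq X hX hMX
  · show largestPReducedOf p M = largestPReducedOf p (M ⊔ CY p M)
    rw [hdag]; exact hYM
  · rw [hYM]; exact hYLYt

/-- in a group of parabolic characteristic `p`, parabolic subgroups with nontrivial `O_p` lie in
`𝓛` -/
theorem mem_charP_of_parabolicChar (hH : IsOfParabolicCharacteristic p H) (T : Sylow p H)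
    (X : Subgroup H) (hTX : (T : Subgroup H) ≤ X) (hX1 : pCoreOf p X ≠ ⊥) :
    X ∈ charPSubgroups p H := by
  refine ⟨fun h => hX1 ((pCoreOf_eq_bot_iff X).mpr h), ?_⟩
  show Subgroup.centralizer ((pCoreOf p X : Subgroup H) : Set H) ≤ pCoreOf p X
  have hXN : X ≤ Subgroup.normalizer ((pCoreOf p X : Subgroup H) : Set H) :=
    le_normalizer_pCoreOf X
  have hTN := hTX.trans hXN
  have hN := hH (pCoreOf p X) (isPGroup_pCoreOf X) hX1 ⟨T, hTN⟩
  have h1 : pCoreOf p (Subgroup.normalizer ((pCoreOf p X : Subgroup H) : Set H)) ≤ pCoreOf p X := by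
    apply le_pCoreOf ((Helper54.pCoreOf_le_sylow _ T hTN).trans hTX)
      (hXN.trans (le_normalizer_pCoreOf _)) (isPGroup_pCoreOf _)
  have h2 := Helper54.inf_centralizer_pCoreOf_le hN
  intro c hc
  apply h1
  apply h2
  refine ⟨Subgroup.centralizer_le_normalizer _ hc, ?_⟩
  exact Subgroup.centralizer_le h1 hc

omit [Finite H] [Fact p.Prime] in
theorem weakClosure_mono (Q : Subgroup H) {A B : Subgroup H} (h : A ≤ B) :
    weakClosure Q A ≤ weakClosure Q B := by
  unfold weakClosure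
  apply iSup_le
  rintro ⟨g, hg⟩
  exact le_iSup (fun g : {g : H // Q.map (MulAut.conj g).toMonoidHom ≤ B} =>
    Q.map (MulAut.conj (g : H)).toMonoidHom) ⟨g, hg.trans h⟩

end ambient

end Cfsg.Agent.Lib.Helper55
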