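import Cfsg.Agent.Lib.Helper55.Coprime

set_option autoImplicit false

namespace Cfsg.Agent.Lib.Helper55

open Cfsg

section

variable {H : Type*} [Group H] {p : ℕ}

/-- translation of `C_H(O_p(L)) ≤ O_p(L)` into the subtype form -/
theorem centralizer_pCore_le_of_pCoreOf {L : Subgroup H}
    (h : L ⊓ Subgroup.centralizer ((pCoreOf p L : Subgroup H) : Set H) ≤ pCoreOf p L) :
    Subgroup.centralizer (pCore p ↥L : Set ↥L) ≤ pCore p ↥L := by
  intro x hx
  have hx' : (x : H) ∈ L ⊓ Subgroup.centralizer ((pCoreOf p L : Subgroup H) : Set H) := by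
    rw [Subgroup.mem_inf]
    refine ⟨x.2, ?_⟩
    rw [Subgroup.mem_centralizer_iff]
    rintro r ⟨r', hr', rfl⟩
    have := (Subgroup.mem_centralizer_iff.mp hx) r' hr'
    exact congrArg Subtype.val this
  obtain ⟨y, hy, hyx⟩ := h hx'
  have : y = x := Subtype.ext hyx
  rwa [← this]

variable [Finite H] [Fact p.Prime]

theorem large_charP {Q : Subgroup H} (hL : IsLarge Q) (hQp : IsPGroup p Q)
    (hQ1 : Q ≠ ⊥) {L : Subgroup H} (hQL : Q ≤ L) (hR1 : pCore p ↥L ≠ ⊥) :
    Subgroup.centralizer (pCore p ↥L : Set ↥L) ≤ pCore p ↥L := by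
  have hR1' : pCoreOf p L ≠ ⊥ := fun h => hR1 ((pCoreOf_eq_bot_iff L).mp h)
  have hD := large_isPGroup_centralizer_pCoreOf hL hQp hQ1 hQL hR1'
  apply centralizer_pCore_le_of_pCoreOf
  apply le_pCoreOf inf_le_left
  · have h1 : L ≤ Subgroup.normalizer
        ((Subgroup.centralizer ((pCoreOf p L : Subgroup H) : Set H) : Subgroup H) : Set H) :=
      (le_normalizer_pCoreOf (p := p) L).trans (normalizer_le_normalizer_centralizer _)
    exact (le_inf Subgroup.le_normalizer h1).trans Subgroup.inf_normalizer_le_normalizer_inf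
  · exact hD.to_le inf_le_right

/-- parabolic case: `C_H(O_p(R)) ≤ O_p(R)` -/
theorem large_parabolic {Q : Subgroup H} (hL : IsLarge Q) (hQp : IsPGroup p Q)
    (hQ1 : Q ≠ ⊥) {R : Subgroup H} (hpar : IsParabolic p R) (hR1 : pCore p ↥R ≠ ⊥) :
    Subgroup.centralizer ((pCoreOf p R : Subgroup H) : Set H) ≤ pCoreOf p R := by
  obtain ⟨T, hTR⟩ := hpar
  obtain ⟨S', hQS'⟩ := hQp.exists_le_sylow
  obtain ⟨g, hg⟩ := MulAction.exists_smul_eq H S' T
  have hQT : cj g Q ≤ T := by
    rw [← hg, coe_smul_sylow]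
    exact cj_mono hQS'
  have hR1' : pCoreOf p R ≠ ⊥ := fun h => hR1 ((pCoreOf_eq_bot_iff R).mp h)
  have hD := large_isPGroup_centralizer_pCoreOf (isLarge_cj hL g) (isPGroup_cj hQp)
    (cj_ne_bot hQ1) (hQT.trans hTR) hR1'
  set D := Subgroup.centralizer ((pCoreOf p R : Subgroup H) : Set H) with hDdef
  have hRD : R ≤ Subgroup.normalizer (D : Set H) :=
    (le_normalizer_pCoreOf R).trans (normalizer_le_normalizer_centralizer _)
  have h1 : IsPGroup p (D ⊔ (T : Subgroup H) : Subgroup H) :=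
    IsPGroup.to_sup_of_normal_left' hD T.isPGroup' (hTR.trans hRD)
  have h2 := T.is_maximal' h1 le_sup_right
  have hDT : D ≤ T := by rw [← h2]; exact le_sup_left
  exact le_pCoreOf (hDT.trans hTR) hRD hD

end

end Cfsg.Agent.Lib.Helper55
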