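import Mathlib
import Cfsg.Agent.S1415
import Cfsg.Agent.S1427
import Cfsg.Agent.Lib.Helper55.SylowIn
import Cfsg.Agent.Lib.Helper55.Uniq2
import Cfsg.Agent.Lib.Helper13.BG12A
import Cfsg.Agent.Lib.Helper81.BG117K9

/-!
# BG Theorem 13.5: a Hall `τ₁(M)`-subgroup `E₁` of a complement `E` of `M_σ` acts in a prime manner on `M_σ`

From S1415 (`E₁` cyclic), S1427 (cyclic Sylow subgroups of `E` act in a prime manner) and the statement
`H1428` of S1428 (BG 13.4), taken as a hypothesis.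
-/

set_option autoImplicit false
set_option linter.unusedSectionVars false
set_option linter.style.haveILetI false
set_option linter.unusedVariables false

namespace Cfsg.Agent.Lib.Helper55.BG135

open Cfsg Cfsg.Agent.Lib.Helper55

variable {G : Type*} [Group G] [Finite G]

/-- the statement of S1428 (BG 13.4) for all maximal subgroups -/
def H1428 (G : Type*) [Group G] [Finite G] : Prop :=
  ∀ (M : Subgroup G), IsCoatom M → ∀ (E : Subgroup G), IsComplIn E (sigmaCore M) M →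
    ∀ (p : ℕ), p ∈ tau1 M → ∀ (P : Subgroup G), P ≤ E → Nat.card P = p →
      ∀ (R : Subgroup G), R ≤ E ⊓ Subgroup.centralizer (P : Set G) → (Nat.card R).Prime →
        sigmaCore M ⊓ Subgroup.centralizer (P : Set G) ≤
          sigmaCore M ⊓ Subgroup.centralizer (R : Set G)

/-- a cyclic subgroup is commutative, elementwise form -/
theorem comm_of_isCyclic {K : Subgroup G} (hK : IsCyclic K) :
    ∀ a ∈ K, ∀ b ∈ K, a * b = b * a := by
  intro a ha b hb
  obtain ⟨g, hg⟩ := IsCyclic.exists_generator (α := ↥K)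
  obtain ⟨m, hm⟩ := Subgroup.mem_zpowers_iff.mp (hg ⟨a, ha⟩)
  obtain ⟨n, hn⟩ := Subgroup.mem_zpowers_iff.mp (hg ⟨b, hb⟩)
  have : (⟨a, ha⟩ : K) * ⟨b, hb⟩ = ⟨b, hb⟩ * ⟨a, ha⟩ := by
    rw [← hm, ← hn, ← zpow_add, ← zpow_add, add_comm]
  exact congrArg Subtype.val this

/-- **BG Theorem 13.5** (prime action of `E₁` on `M_σ`): for a Hall `τ₁(M)`-subgroup `E₁` of a complement
`E` of `M_σ` in `M`, `C_{M_σ}(x) = C_{M_σ}(E₁)` for every `x ∈ E₁`, `x ≠ 1`. -/
theorem prime_action_tau1 (hG : IsMinSimpleOddOrder G) (h28 : H1428 G) {M E E₁ : Subgroup G}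
    (hM : IsCoatom M) (hE : IsComplIn E (sigmaCore M) M) (hE₁ : IsPiHallOf (tau1 M) E₁ E)
    {x : G} (hx : x ∈ E₁) (hx1 : x ≠ 1) :
    sigmaCore M ⊓ Subgroup.centralizer ({x} : Set G) =
      sigmaCore M ⊓ Subgroup.centralizer (E₁ : Set G) := by
  have hcyc : IsCyclic E₁ := (Cfsg.Agent.S1415.result hG M hM E hE).2.1 E₁ hE₁
  have hcomm := comm_of_isCyclic hcyc
  have hE₁E : E₁ ≤ E := hE₁.1
  have hEM : E ≤ M := hE.1
  refine le_antisymm (le_inf inf_le_left ?_)
    (inf_le_inf_left _ (Subgroup.centralizer_le (Set.singleton_subset_iff.mpr hx)))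
  -- the subgroup `P₀` of prime order in `⟨x⟩`
  have hn0 : orderOf x ≠ 0 := (orderOf_pos x).ne'
  have hn1 : orderOf x ≠ 1 := fun h => hx1 (orderOf_eq_one_iff.mp h)
  set p₀ := (orderOf x).minFac with hp₀def
  have hp₀ : p₀.Prime := Nat.minFac_prime hn1
  have hp₀d : p₀ ∣ orderOf x := Nat.minFac_dvd _
  set x₀ := x ^ (orderOf x / p₀) with hx₀def
  have hx₀o : orderOf x₀ = p₀ := orderOf_pow_orderOf_div hn0 hp₀d
  have hx₀E₁ : x₀ ∈ E₁ := E₁.pow_mem hx _
  have hP₀E₁ : Subgroup.zpowers x₀ ≤ E₁ := (Subgroup.zpowers_le).mpr hx₀E₁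
  have hP₀c : Nat.card (Subgroup.zpowers x₀) = p₀ := by rw [Nat.card_zpowers, hx₀o]
  have hp₀τ : p₀ ∈ tau1 M := by
    refine hE₁.2.1 p₀ hp₀ ?_
    rw [← hP₀c]
    exact Subgroup.card_dvd_of_le hP₀E₁
  have hC₀ : sigmaCore M ⊓ Subgroup.centralizer ({x} : Set G) ≤
      sigmaCore M ⊓ Subgroup.centralizer ((Subgroup.zpowers x₀ : Subgroup G) : Set G) := by
    refine inf_le_inf_left _ ?_
    intro g hg
    rw [Subgroup.mem_centralizer_iff] at hg ⊢
    have hgx : Commute x g := hg x rfl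
    intro y hy
    obtain ⟨k, rfl⟩ := Subgroup.mem_zpowers_iff.mp hy
    exact ((hgx.pow_left _).zpow_left k).eq
  -- it suffices to treat the Sylow subgroups of `E₁`
  set C₀ := sigmaCore M ⊓ Subgroup.centralizer ({x} : Set G) with hC₀def
  have key : E₁ ≤ Subgroup.centralizer (C₀ : Set G) := by
    apply Cfsg.Agent.Lib.Helper81.BG117.le_centralizer_of_sylows
    intro u T hu hud hT
    haveI : Fact u.Prime := ⟨hu⟩
    by_cases hT1 : T = ⊥
    · rw [hT1]; exact bot_le
    have hTE₁ : T ≤ E₁ := hT.1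
    have hTu : IsPGroup u T := hT.2.1
    have huτ : u ∈ tau1 M := hE₁.2.1 u hu hud
    -- an element `z` of order `u` in `T`
    have hudT : u ∣ Nat.card T := by
      obtain ⟨a, ha⟩ := IsPGroup.iff_card.mp hTu
      have ha0 : a ≠ 0 := by
        rintro rfl
        rw [pow_zero] at ha
        exact hT1 (Subgroup.card_eq_one.mp ha)
      rw [ha]
      exact dvd_pow_self u ha0
    obtain ⟨z', hz'⟩ := exists_prime_orderOf_dvd_card' u hudT
    have hzo : orderOf (z' : G) = u := by rw [Subgroup.orderOf_coe]; exact hz'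
    have hzT : (z' : G) ∈ T := z'.2
    have hz1 : (z' : G) ≠ 1 := by
      intro h
      rw [h, orderOf_one] at hzo
      exact hu.one_lt.ne hzo
    set z : G := (z' : G) with hzdef
    have hUc : Nat.card (Subgroup.zpowers z) = u := by rw [Nat.card_zpowers, hzo]
    have hUE₁ : Subgroup.zpowers z ≤ E₁ := (Subgroup.zpowers_le).mpr (hTE₁ hzT)
    have hUcent : Subgroup.zpowers z ≤
        Subgroup.centralizer ((Subgroup.zpowers x₀ : Subgroup G) : Set G) := by
      intro a ha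
      rw [Subgroup.mem_centralizer_iff]
      intro b hb
      exact hcomm b (hP₀E₁ hb) a (hUE₁ ha)
    have h1 := h28 M hM E hE p₀ hp₀τ (Subgroup.zpowers x₀) (hP₀E₁.trans hE₁E) hP₀c
      (Subgroup.zpowers z) (le_inf (hUE₁.trans hE₁E) hUcent) (by rw [hUc]; exact hu)
    -- a Sylow `u`-subgroup `Q` of `E` over `T`
    have hTE : T ≤ E := hTE₁.trans hE₁E
    obtain ⟨Q, hQ⟩ := IsPGroup.exists_le_sylow (hTu.comap_subtype (K := E))
    have hTQ : T ≤ (Q : Subgroup E).map E.subtype := by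
      intro t ht
      exact ⟨⟨t, hTE ht⟩, hQ (Subgroup.mem_subgroupOf.mpr ht), rfl⟩
    have hQM : (Q : Subgroup E).map E.subtype ≤ M := (Subgroup.map_subtype_le _).trans hEM
    have hQu : IsPGroup u ((Q : Subgroup E).map E.subtype) := Q.isPGroup'.map _
    have hu2 : u ≠ 2 := ms_prime_ne_two hG hTu hT1
    have hQc' : IsCyclic ↥((Q : Subgroup E).map E.subtype) :=
      Cfsg.Agent.Lib.Helper13.BG12.isCyclic_of_pRankLE_one hu2 huτ.2.2.2.2 hQM hQu
    have hQc : IsCyclic (Q : Subgroup E) := by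
      let e := Subgroup.equivMapOfInjective (Q : Subgroup E) E.subtype E.subtype_injective
      exact isCyclic_of_surjective e.symm e.symm.surjective
    have hzQ : z ∈ (Q : Subgroup E).map E.subtype := hTQ hzT
    have hQ1 : (Q : Subgroup E) ≠ ⊥ := by
      intro h
      rw [h, Subgroup.map_bot, Subgroup.mem_bot] at hzQ
      exact hz1 hzQ
    have h2 := Cfsg.Agent.S1427.result hG M hM E hE u Q hQ1 hQc z hzQ hz1
    -- assemble
    rw [Subgroup.le_centralizer_iff]
    have h3 : sigmaCore M ⊓ Subgroup.centralizer ((Subgroup.zpowers z : Subgroup G) : Set G) ≤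
        sigmaCore M ⊓ Subgroup.centralizer ({z} : Set G) :=
      inf_le_inf_left _ (Subgroup.centralizer_le
        (Set.singleton_subset_iff.mpr (Subgroup.mem_zpowers z)))
    have h4 : sigmaCore M ⊓ Subgroup.centralizer
        ((((Q : Subgroup E).map E.subtype : Subgroup G)) : Set G) ≤
        Subgroup.centralizer (T : Set G) :=
      inf_le_right.trans (Subgroup.centralizer_le hTQ)
    exact ((hC₀.trans h1).trans h3).trans (h2.le.trans h4)
  exact Subgroup.le_centralizer_iff.mp key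

/-- prime action, subgroup form: `C_{M_σ}(X) = C_{M_σ}(E₁)` for `1 ≠ X ≤ E₁` -/
theorem prime_action_tau1_subgroup (hG : IsMinSimpleOddOrder G) (h28 : H1428 G)
    {M E E₁ : Subgroup G} (hM : IsCoatom M) (hE : IsComplIn E (sigmaCore M) M)
    (hE₁ : IsPiHallOf (tau1 M) E₁ E) {X : Subgroup G} (hX : X ≤ E₁) (hX1 : X ≠ ⊥) :
    sigmaCore M ⊓ Subgroup.centralizer (X : Set G) =
      sigmaCore M ⊓ Subgroup.centralizer (E₁ : Set G) := by
  obtain ⟨x, hx1⟩ := (Subgroup.ne_bot_iff_exists_ne_one).mp hX1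
  have hx1' : (x : G) ≠ 1 := fun h => hx1 (Subtype.ext h)
  refine le_antisymm ?_ (inf_le_inf_left _ (Subgroup.centralizer_le hX))
  rw [← prime_action_tau1 hG h28 hM hE hE₁ (hX x.2) hx1']
  exact inf_le_inf_left _ (Subgroup.centralizer_le (Set.singleton_subset_iff.mpr x.2))

/-- prime action: any two nontrivial subgroups of `E₁` have the same centralizer in `M_σ` -/
theorem prime_action_tau1_eq (hG : IsMinSimpleOddOrder G) (h28 : H1428 G)
    {M E E₁ : Subgroup G} (hM : IsCoatom M) (hE : IsComplIn E (sigmaCore M) M)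
    (hE₁ : IsPiHallOf (tau1 M) E₁ E) {X Y : Subgroup G} (hX : X ≤ E₁) (hX1 : X ≠ ⊥)
    (hY : Y ≤ E₁) (hY1 : Y ≠ ⊥) :
    sigmaCore M ⊓ Subgroup.centralizer (X : Set G) =
      sigmaCore M ⊓ Subgroup.centralizer (Y : Set G) := by
  rw [prime_action_tau1_subgroup hG h28 hM hE hE₁ hX hX1,
    prime_action_tau1_subgroup hG h28 hM hE hE₁ hY hY1]

end Cfsg.Agent.Lib.Helper55.BG135
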