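import Mathlib
import Cfsg.Agent.Lib.Helper15.BG139Defs
import Cfsg.Agent.Lib.Helper55.BG135

/-!
# S1378 keystone 137806 (K-S1378-L7, parallel hand): BG 13.5 in the `PrimeAct` form
-/

set_option autoImplicit false
set_option linter.unusedSectionVars false
set_option linter.unusedVariables false

namespace Cfsg.Agent.Lib.Helper55.BG139

open Cfsg Cfsg.Agent.Lib.Helper55 Cfsg.Agent.Lib.Helper31.BG134 Cfsg.Agent.Lib.Helper15.BG139

variable {G : Type*} [Group G] [Finite G]

/-- **KEYSTONE 137806  K-S1378-L7** (step 7 = BG 13.5, general). -/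
theorem primeAct (hG : IsMinSimpleOddOrder G) {M E E₁ : Subgroup G} (hM : IsCoatom M)
    (h28 : H1428 G) (hE : IsComplIn E (sigmaCore M) M) (hE₁ : IsPiHallOf (tau1 M) E₁ E) :
    PrimeAct M E₁ := by
  intro x hx hx1
  have h28' : Cfsg.Agent.Lib.Helper55.BG135.H1428 G := h28
  rw [Cfsg.Agent.Lib.Helper55.BG135.prime_action_tau1 hG h28' hM hE hE₁ hx hx1]
  exact inf_le_right

end Cfsg.Agent.Lib.Helper55.BG139
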