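import Mathlib
import Cfsg.Agent.S1350
import Cfsg.Agent.Lib.Helper31.BG147Glue
import Cfsg.Agent.Lib.Helper58.BG14Glue
import Cfsg.Agent.Lib.Helper54.BG134A3a
import Cfsg.Agent.Lib.Helper55.Uniq2
import Cfsg.Agent.Lib.Helper13.BG12A

/-!
# S1434 (BG Lemma 14.6 / Theorem 14.7 (b)-(e)): glue

From the statements of S1430, S1431, S1354 and S1368 (`M ∩ M* = K K*` cyclic) for the pair `(M, M*)`.
-/

set_option autoImplicit false
set_option linter.unusedSectionVars false
set_option linter.style.haveILetI false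
set_option linter.unusedVariables false

namespace Cfsg.Agent.Lib.Helper55.BG1434

open Cfsg Subgroup Cfsg.Agent.Lib.Helper55 Cfsg.Agent.Lib.Helper11.BG14D
  Cfsg.Agent.Lib.Helper31.BG147

variable {G : Type*} [Group G] [Finite G]

theorem card_eq_card_mul_relIndex' {H K : Subgroup G} (h : H ≤ K) :
    Nat.card K = Nat.card H * H.relIndex K := by
  have h1 := Subgroup.card_mul_index (H.subgroupOf K)
  rw [Nat.card_congr (Subgroup.subgroupOfEquivOfLe h).toEquiv] at h1
  exact h1.symm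

/-- `(k - 1)(s - 1) = k s - k - s + 1` for `k, s ≥ 2` -/
theorem arith {k s : ℕ} (hk : 1 < k) (hs : 1 < s) : (k - 1) * (s - 1) = k * s - k - s + 1 := by
  obtain ⟨a, rfl⟩ : ∃ a, k = a + 2 := ⟨k - 2, by omega⟩
  obtain ⟨b, rfl⟩ : ∃ b, s = b + 2 := ⟨s - 2, by omega⟩
  have e1 : (a + 2) * (b + 2) = a * b + 2 * a + 2 * b + 4 := by ring
  have e2 : (a + 2 - 1) * (b + 2 - 1) = a * b + a + b + 1 := by
    have : a + 2 - 1 = a + 1 := by omega
    have h2 : b + 2 - 1 = b + 1 := by omega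
    rw [this, h2]; ring
  rw [e1, e2]
  omega

/-- **S1434** from the statements of S1430, S1431, S1354, S1368. -/
theorem s1434_of (hG : IsMinSimpleOddOrder G) (h30 : H1430 G) (h31 : H1431 G)
    (h54 : ∀ (M K : Subgroup G), IsCoatom M → IsCyclic K → IsPiHallOf (kappa M) K M → K ≠ ⊥ →
      ∀ k ∈ K, k ≠ 1 → M ⊓ centralizer ({k} : Set G) = K ⊔ Ks M K)
    (M : Subgroup G) (hM : IsCoatom M) (K U : Subgroup G) (hKU : IsSigmaDecomposition M K U)
    (hK1 : K ≠ ⊥) (Mstar : Subgroup G) (hMstar : IsCoatom Mstar)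
    (hKst : K = sigmaCore Mstar ⊓ centralizer ((Ks M K : Subgroup G) : Set G))
    (hKstH : IsPiHallOf (kappa Mstar) (Ks M K) Mstar)
    (hInt : M ⊓ Mstar = K ⊔ Ks M K) (hCyc : IsCyclic ↥(K ⊔ Ks M K)) :
    kappa M = tau1 M ∧ IsPiHallOf (sigma M) (Ks M K) Mstar ∧
      (∀ x ∈ K, x ≠ 1 → ∀ y ∈ Ks M K, y ≠ 1 →
        M ⊓ centralizer ({x} : Set G) = K ⊔ Ks M K ∧
        Mstar ⊓ centralizer ({y} : Set G) = K ⊔ Ks M K ∧
        centralizer ({x * y} : Set G) = K ⊔ Ks M K) ∧
      (∀ g : G, g ∉ M → ∀ z ∈ Zhat M K, z ∉ M.map (MulAut.conj g).toMonoidHom) ∧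
      Nat.card K * Nat.card ↥(Ks M K) * Set.ncard (csupp (Zhat M K)) =
        (Nat.card K * Nat.card ↥(Ks M K) - Nat.card K - Nat.card ↥(Ks M K) + 1) * Nat.card G ∧
      Nat.card G < 2 * Set.ncard (csupp (Zhat M K)) := by
  have hK : IsPiHallOf (kappa M) K M := hKU.hall
  have hKc : IsCyclic K := hKU.cyclic
  have hKs1 : Ks M K ≠ ⊥ := Ks_ne_bot hG h30 hM hK hK1
  have hcop : (Nat.card K).Coprime (Nat.card (Ks M K)) := coprime_Ks hG hM hK
  have hinf : K ⊓ Ks M K = ⊥ := inf_Ks hG hM hK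
  have hc : Ks M K ≤ centralizer (K : Set G) := inf_le_right
  have hKsσ : Ks M K ≤ sigmaCore M := inf_le_left
  have hσM : sigmaCore M ≤ M := Cfsg.Agent.Lib.Helper71.BG11.sigmaCore_le M
  haveI : IsCyclic ↥(K ⊔ Ks M K) := hCyc
  have hKsc : IsCyclic ↥(Ks M K) := Subgroup.isCyclic_of_le (le_sup_right : Ks M K ≤ K ⊔ Ks M K)
  have hZcomm : ∀ a ∈ K ⊔ Ks M K, ∀ b ∈ K ⊔ Ks M K, a * b = b * a := by
    have hcm : IsMulCommutative ↥(K ⊔ Ks M K) := IsCyclic.isMulCommutative
    intro a ha b hb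
    exact congrArg Subtype.val (isMulCommutative_iff.mp hcm ⟨a, ha⟩ ⟨b, hb⟩)
  have hKcard : 1 < Nat.card K := by
    rcases Nat.lt_or_ge 1 (Nat.card K) with h | h
    · exact h
    · exfalso
      have hpos : 0 < Nat.card K := Nat.card_pos
      exact hK1 (Subgroup.card_eq_one.mp (by omega))
  have hKscard : 1 < Nat.card ↥(Ks M K) := by
    rcases Nat.lt_or_ge 1 (Nat.card ↥(Ks M K)) with h | h
    · exact h
    · exfalso
      have hpos : 0 < Nat.card ↥(Ks M K) := Nat.card_pos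
      exact hKs1 (Subgroup.card_eq_one.mp (by omega))
  -- `K ⊓ M_σ = ⊥`
  have hKσ : K ⊓ sigmaCore M = ⊥ := by
    apply disjoint_iff.mp
    apply Subgroup.disjoint_of_coprime_natCard
    apply Nat.coprime_of_dvd
    intro p hp hpK hpS
    exact (hK.2.1 p hp hpK).2.2.1 (Cfsg.Agent.Lib.Helper71.BG11.sigmaCore_pi hG hM hp hpS)
  -- an element of `Zhat`
  have hzhat : ∀ x ∈ K, x ≠ 1 → ∀ y ∈ Ks M K, y ≠ 1 → x * y ∈ Zhat M K := by
    intro x hx hx1 y hy hy1
    refine ⟨Subgroup.mul_mem _ (le_sup_left (a := K) hx) (le_sup_right (b := Ks M K) hy), ?_⟩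
    rintro (h | h)
    · have : y ∈ K := by
        have := K.mul_mem (K.inv_mem hx) h
        simpa using this
      have : y ∈ K ⊓ Ks M K := ⟨this, hy⟩
      rw [hinf] at this
      exact hy1 (Subgroup.mem_bot.mp this)
    · have : x ∈ Ks M K := by
        have := (Ks M K).mul_mem h ((Ks M K).inv_mem hy)
        simpa using this
      have : x ∈ K ⊓ Ks M K := ⟨hx, this⟩
      rw [hinf] at this
      exact hx1 (Subgroup.mem_bot.mp this)
  refine ⟨?_, ?_, ?_, ?_, ?_, ?_⟩
  · -- `κ(M) = τ₁(M)`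
    obtain ⟨E, hE, hE1, -, -, -⟩ :=
      Cfsg.Agent.Lib.Helper58.BG14.kappa_data hG hM hKc hK hK1
    ext p
    constructor
    · intro hp
      have hpK : p ∣ Nat.card K := by
        have h1 := card_eq_card_mul_relIndex' hK.1
        have h2 : p ∣ Nat.card K * K.relIndex M := h1 ▸ hp.2.1
        rcases (Nat.Prime.dvd_mul hp.1).mp h2 with h | h
        · exact h
        · exact absurd h (hK.2.2 p hp.1 hp)
      exact hE1.2.1 p hp.1 hpK
    · intro hp
      have hpM : p ∣ Nat.card M := hp.2.2.1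
      have hrel := Cfsg.Agent.Lib.Helper13.BG12.relIndex_eq_card_of_complIn hE
      have h1 := card_eq_card_mul_relIndex' hσM
      rw [hrel] at h1
      have hpE : p ∣ Nat.card E := by
        have h2 : p ∣ Nat.card (sigmaCore M) * Nat.card E := h1 ▸ hpM
        rcases (Nat.Prime.dvd_mul hp.1).mp h2 with h | h
        · exact absurd (Cfsg.Agent.Lib.Helper71.BG11.sigmaCore_pi hG hM hp.1 h) hp.2.1
        · exact h
      have hpK : p ∣ Nat.card K := by
        have h3 := card_eq_card_mul_relIndex' hE1.1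
        have h4 : p ∣ Nat.card K * K.relIndex E := h3 ▸ hpE
        rcases (Nat.Prime.dvd_mul hp.1).mp h4 with h | h
        · exact h
        · exact absurd h (hE1.2.2 p hp.1 hp)
      exact hK.2.1 p hp.1 hpK
  · -- `K*` is a Hall `σ(M)`-subgroup of `M*`
    have hprimes : ∀ p : ℕ, p.Prime → p ∣ Nat.card ↥(Ks M K) → p ∈ sigma M := fun p hp hpd =>
      Cfsg.Agent.Lib.Helper71.BG11.sigmaCore_pi hG hM hp (hpd.trans (Subgroup.card_dvd_of_le hKsσ))
    refine ⟨hKstH.1, hprimes, ?_⟩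
    obtain ⟨B, hB, hKsB⟩ := Cfsg.Agent.Lib.Helper54.BG134.exists_isPiHallOf_ge
      (ms_solvable hG hMstar.1) (sigma M) hKstH.1 hprimes
    have hBne : B ⊓ Ks M K ≠ ⊥ := by
      rw [inf_eq_right.mpr hKsB]
      exact hKs1
    have hBσ : B ≤ sigmaCore M := (h31 M hM K hK hK1).2.2.2 B hB.2.1 hBne
    have hBKs : B ≤ Ks M K := by
      intro b hb
      have hbZ : b ∈ K ⊔ Ks M K := by
        rw [← hInt]
        exact ⟨hσM (hBσ hb), hB.1 hb⟩
      obtain ⟨x, hx, y, hy, rfl⟩ :=
        Cfsg.Agent.Lib.Helper27.BG147.exists_mul_of_mem_sup_of_centralizer hc hbZ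
      have hxσ : x ∈ sigmaCore M := by
        have := (sigmaCore M).mul_mem (hBσ hb) ((sigmaCore M).inv_mem (hKsσ hy))
        simpa using this
      have : x ∈ K ⊓ sigmaCore M := ⟨hx, hxσ⟩
      rw [hKσ] at this
      rw [Subgroup.mem_bot.mp this, one_mul]
      exact hy
    have hBeq : B = Ks M K := le_antisymm hBKs hKsB
    intro p hp hpσ
    rw [← hBeq]
    exact hB.2.2 p hp hpσ
  · -- the three centralizers
    intro x hx hx1 y hy hy1
    have h1 : M ⊓ centralizer ({x} : Set G) = K ⊔ Ks M K := h54 M K hM hKc hK hK1 x hx hx1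
    have h2 : Mstar ⊓ centralizer ({y} : Set G) = K ⊔ Ks M K := by
      have := h54 Mstar (Ks M K) hMstar hKsc hKstH hKs1 y hy hy1
      rw [this, sup_comm]
      congr 1
      exact hKst.symm
    refine ⟨h1, h2, ?_⟩
    apply le_antisymm
    · intro c hc'
      have hcz : (x * y) * c = c * (x * y) := (Subgroup.mem_centralizer_iff.mp hc') (x * y) rfl
      have hxy : x * y = y * x := (Subgroup.mem_centralizer_iff.mp (hc hy)) x hx
      have hxK : x ^ Nat.card K = 1 := by
        have := pow_card_eq_one' (G := K) (x := ⟨x, hx⟩)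
        exact congrArg Subtype.val this
      have hyK : y ^ Nat.card ↥(Ks M K) = 1 := by
        have := pow_card_eq_one' (G := ↥(Ks M K)) (x := ⟨y, hy⟩)
        exact congrArg Subtype.val this
      have hxpow := Cfsg.Agent.Lib.Helper75.BG14D.pow_crt_eq hcop hxK hyK hxy
      have hypow := Cfsg.Agent.Lib.Helper75.BG14D.pow_crt_eq hcop.symm hyK hxK hxy.symm
      have hcx : x * c = c * x := by
        rw [← hxpow]
        exact ((Commute.pow_left (show Commute (x * y) c from hcz) _).eq)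
      have hcy : y * c = c * y := by
        rw [← hypow, ← hxy]
        exact ((Commute.pow_left (show Commute (x * y) c from hcz) _).eq)
      -- `c ∈ C_G(y) ≤ M`
      have hcM : c ∈ M := by
        have hYle : zpowers y ≤ Ks M K := zpowers_le.mpr hy
        have hY1 : zpowers y ≠ ⊥ := by
          intro h
          exact hy1 (Subgroup.mem_bot.mp (h ▸ mem_zpowers y))
        apply centralizer_le h31 hM hK hK1 hYle hY1
        rw [Subgroup.mem_centralizer_iff]
        intro t ht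
        obtain ⟨n, rfl⟩ := Subgroup.mem_zpowers_iff.mp ht
        exact ((Commute.zpow_left (show Commute y c from hcy) n).eq)
      rw [← h1]
      refine Subgroup.mem_inf.mpr ⟨hcM, Subgroup.mem_centralizer_iff.mpr ?_⟩
      intro t ht
      rw [Set.mem_singleton_iff] at ht
      rw [ht]; exact hcx
    · intro t ht
      rw [Subgroup.mem_centralizer_iff]
      intro u hu
      rw [Set.mem_singleton_iff] at hu
      rw [hu]
      exact hZcomm _ (Subgroup.mul_mem _ (le_sup_left (a := K) hx) (le_sup_right (b := Ks M K) hy)) _ ht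
  · -- `Ẑ ∩ M^g = ∅`
    intro g hg z hz hzg
    obtain ⟨x, hx, y, hy, hx1, hy1, hzxy, hxy, -, ⟨b, hb⟩⟩ :=
      Cfsg.Agent.Lib.Helper27.BG147.zhat_parts hc hcop hz
    have hyg : y ∈ M.map (MulAut.conj g).toMonoidHom := by
      rw [← hb]
      exact Subgroup.pow_mem _ hzg b
    have hbot := (h31 M hM K hK hK1).1 g hg
    have : y ∈ Ks M K ⊓ M.map (MulAut.conj g).toMonoidHom := ⟨hy, hyg⟩
    rw [hbot] at this
    exact hy1 (Subgroup.mem_bot.mp this)
  · rw [← arith hKcard hKscard]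
    exact (half hG h30 h31 hM hK hK1).1
  · exact (half hG h30 h31 hM hK hK1).2

end Cfsg.Agent.Lib.Helper55.BG1434
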