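import Mathlib
import Cfsg.Agent.S1423
import Cfsg.Agent.S1425
import Cfsg.Agent.Lib.Helper55.Basic
import Cfsg.Agent.Lib.Helper55.Uniq3
import Cfsg.Agent.Lib.Helper01.BG134CJ
import Cfsg.Agent.Lib.Helper68.BG144G2

/-!
# K-1436-C (keystone 143607): `cent_unique`

Elements of order `p ∈ β(N) ∩ σ(N)` have their centralizer in exactly one maximal subgroup, a
conjugate of `N` whose sigma-core contains the element.
-/

set_option linter.unusedSectionVars false
set_option linter.style.haveILetI false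
set_option linter.unusedVariables false
set_option autoImplicit false

namespace Cfsg.Agent.Lib.Helper55.BG1436

open Cfsg Subgroup Cfsg.Agent.Lib.Helper55

variable {G : Type*} [Group G] [Finite G]

/-- the centralizer of a cyclic subgroup is the centralizer of its generator -/
theorem centralizer_zpowers_c (a : G) :
    centralizer ((zpowers a : Subgroup G) : Set G) = centralizer ({a} : Set G) := by
  apply le_antisymm
  · apply centralizer_le
    intro z hz
    rw [Set.mem_singleton_iff] at hz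
    rw [hz]
    exact mem_zpowers a
  · intro y hy
    rw [mem_centralizer_iff] at hy ⊢
    intro z hz
    obtain ⟨k, rfl⟩ := mem_zpowers_iff.mp hz
    have h1 : Commute a y := hy a rfl
    exact (h1.zpow_left k).eq

/-- KEYSTONE 143607  K-1436-C  `cent_unique`. -/
theorem cent_unique (hG : IsMinSimpleOddOrder G) {N : Subgroup G} (hN : IsCoatom N)
    {p : ℕ} (hp : p ∈ sigma N) (hβ : p ∈ beta N) {a : G} (ha : orderOf a = p) :
    ∃ g : G, a ∈ sigmaCore (N.map (MulAut.conj g).toMonoidHom) ∧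
      centralizer ({a} : Set G) ≤ N.map (MulAut.conj g).toMonoidHom ∧
      ∀ L : Subgroup G, IsCoatom L → centralizer ({a} : Set G) ≤ L → L = N.map (MulAut.conj g).toMonoidHom := by
  have hpp : p.Prime := hp.1
  haveI : Fact p.Prime := ⟨hpp⟩
  have ha1 : a ≠ 1 := by
    intro h
    rw [h, orderOf_one] at ha
    exact hpp.one_lt.ne ha
  have hYcard : Nat.card (zpowers a) = p := by rw [Nat.card_zpowers, ha]
  have hY1 : zpowers a ≠ ⊥ := by
    intro h
    exact ha1 (zpowers_eq_bot.mp h)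
  obtain ⟨g, hg⟩ := Cfsg.Agent.S1425.result hG N hN (zpowers a) hY1 (by
    intro r hr hrd
    rw [hYcard] at hrd
    have h1 : r = p := (Nat.prime_dvd_prime_iff_eq hr hpp).mp hrd
    rw [h1]; exact hp)
  have hN' : IsCoatom (cj g⁻¹ N) := isCoatom_cj g⁻¹ hN
  have hsc : sigmaCore (cj g⁻¹ N) = cj g⁻¹ (sigmaCore N) :=
    Cfsg.Agent.Lib.Helper68.BG144.sigmaCore_cj hG hN g⁻¹
  have hamem : a ∈ sigmaCore (cj g⁻¹ N) := by
    rw [hsc, mem_cj, inv_inv]
    exact hg (conj_mem_cj (mem_zpowers a))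
  have hp' : p ∈ sigma (cj g⁻¹ N) :=
    (Cfsg.Agent.Lib.Helper01.BG134.mem_sigma_cj_iff g⁻¹).mpr hp
  have hβ' : p ∈ beta (cj g⁻¹ N) :=
    ⟨⟨hβ.1.1, fun h => hβ.1.2 ((Cfsg.Agent.Lib.Helper01.BG134.pRankLE_cj_iff g⁻¹ N p 2).mp h)⟩, hβ.2⟩
  have hscle : sigmaCore (cj g⁻¹ N) ≤ cj g⁻¹ N := by
    intro z hz
    obtain ⟨w, _, rfl⟩ := Subgroup.mem_map.mp hz
    exact w.2
  have hXM : zpowers a ≤ cj g⁻¹ N := by
    rw [zpowers_le]
    exact hscle hamem
  obtain ⟨P⟩ : Nonempty (Sylow p ↥(sigmaCore (cj g⁻¹ N))) := inferInstance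
  obtain ⟨⟨h1, h2⟩, -, -⟩ := Cfsg.Agent.S1423.result hG (cj g⁻¹ N) hN' p hp' (zpowers a) hXM hYcard P
    (Or.inl hβ')
  rw [centralizer_zpowers_c] at h1 h2
  exact ⟨g⁻¹, hamem, h1, h2⟩

end Cfsg.Agent.Lib.Helper55.BG1436
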