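import Mathlib
import Cfsg.Agent.S1350
import Cfsg.Agent.S1417
import Cfsg.Agent.S1419
import Cfsg.Agent.Lib.Helper11.BG14DDefs
import Cfsg.Agent.Lib.Helper11.BG144Defs
import Cfsg.Agent.Lib.Helper13.BG12B
import Cfsg.Agent.Lib.Helper13.BG127A
import Cfsg.Agent.Lib.Helper27.BGLemmaZ
import Cfsg.Agent.Lib.Helper31.Bg10b
import Cfsg.Agent.Lib.Helper71.BG11a
import Cfsg.Agent.Lib.Helper71.BG11c
import Cfsg.Agent.Lib.Helper75.BG144E
import Cfsg.Agent.Lib.Helper77.BG137B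
import Cfsg.Agent.Lib.Helper89.BG14DS1

/-!
# BG Theorem 14.2(d) / S1367: `M` is the only maximal subgroup over `C_G(Y)`, `Y ≤ K*` of prime order

`M` maximal, `K ≠ 1` a Hall `κ(M)`-subgroup, `K* = C_{M_σ}(K)`, `Y ≤ K*` of prime order `q`.
Then `C_G(Y) ≤ M` (BG 14.3) and `M` is the only maximal subgroup containing `C_G(Y)`:
if `L ≠ M` contains `C_G(Y)` then `q ∉ σ(L)` (σ-partition + `K* ∩ M^g = 1`), a Sylow `q`-subgroup `S`
of `M_σ` over `Y` is not contained in `L` (`M` is the only maximal subgroup over `S`), so `S` is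
nonabelian and `A = Y × ⟨w⟩ ≤ C_S(Y) ≤ L` (`w` central of order `q`) has order `q²`; `q ∈ τ₂(L)`,
`L_σ ∩ M = 1` (S1417) and, the Sylow `q`-subgroups of `G` being nonabelian, S1419 for `L` says that
`C_G(Y) ≤ L` forces `Y = C_A(L_σ)`, so `L_σ ≤ C_G(Y) ≤ M`, `L_σ = 1`: impossible.
-/

set_option autoImplicit false
set_option linter.unusedSectionVars false
set_option linter.style.haveILetI false
set_option linter.unusedVariables false

namespace Cfsg.Agent.Lib.Helper55.BG147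

open Cfsg
open Cfsg.Agent.Lib.Helper11.BG14D (H1430 H1431)
open Cfsg.Agent.Lib.Helper11.BG144 (H1432)

variable {G : Type*} [Group G] [Finite G]

/-- the second clause of S1378 (σ-partition) as a hypothesis -/
def HSP2 (G : Type*) [Group G] : Prop :=
  ∀ M N : Subgroup G, IsCoatom M → IsCoatom N → (sigma M ∩ sigma N).Nonempty →
    ∃ g : G, N = M.map (MulAut.conj g).toMonoidHom

/-- **BG 14.2(d)**: uniqueness of `M` over `C_G(Y)` for `Y ≤ K*` of prime order. -/
theorem claimD (hG : IsMinSimpleOddOrder G) (hSP : HSP2 G) (h31 : H1431 G) (h32 : H1432 G)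
    (M : Subgroup G) (hM : IsCoatom M) (K : Subgroup G) (hK : IsPiHallOf (kappa M) K M)
    (hK1 : K ≠ ⊥) (Y : Subgroup G)
    (hY : Y ≤ sigmaCore M ⊓ Subgroup.centralizer (K : Set G)) (hYp : (Nat.card Y).Prime) :
    Subgroup.centralizer (Y : Set G) ≤ M ∧
      ∀ L : Subgroup G, IsCoatom L → Subgroup.centralizer (Y : Set G) ≤ L → L = M := by
  set q := Nat.card Y with hq
  haveI : Fact q.Prime := ⟨hYp⟩
  have hσM : sigmaCore M ≤ M := Cfsg.Agent.Lib.Helper71.BG11.sigmaCore_le M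
  have hY1 : Y ≠ ⊥ := by
    intro h
    rw [hq, h, Subgroup.card_bot] at hYp
    exact Nat.not_prime_one hYp
  obtain ⟨y, hyY, hy1⟩ : ∃ y : G, y ∈ Y ∧ y ≠ 1 := by
    obtain ⟨y, hy⟩ := Subgroup.ne_bot_iff_exists_ne_one.mp hY1
    exact ⟨y, y.2, fun h => hy (Subtype.ext h)⟩
  have hzy : Subgroup.zpowers y = Y :=
    Cfsg.Agent.Lib.Helper13.BG127.zpowers_eq_of_card_prime (p := q) hq.symm hyY hy1
  have hyσ : y ∈ sigmaCore M := (hY hyY).1
  have hyK : y ∈ Subgroup.centralizer (K : Set G) := (hY hyY).2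
  have hKM : K ≤ M := hK.1
  -- `C_G(Y) ≤ C_G(y)`
  have hCYy : Subgroup.centralizer (Y : Set G) ≤ Subgroup.centralizer ({y} : Set G) :=
    Subgroup.centralizer_le (by
      intro t ht
      rw [Set.mem_singleton_iff] at ht
      rw [ht]; exact hyY)
  have hCyY : Subgroup.centralizer ({y} : Set G) ≤ Subgroup.centralizer (Y : Set G) := by
    intro c hc
    rw [Subgroup.mem_centralizer_iff] at hc ⊢
    intro t ht
    rw [SetLike.mem_coe, ← hzy] at ht
    obtain ⟨n, rfl⟩ := Subgroup.mem_zpowers_iff.mp ht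
    have h1 : y * c = c * y := hc y rfl
    exact ((Commute.zpow_left (show Commute y c from h1) n).eq)
  -- a non-identity element of `K`
  obtain ⟨k, hkK, hk1⟩ : ∃ k : G, k ∈ K ∧ k ≠ 1 := by
    obtain ⟨k, hk⟩ := Subgroup.ne_bot_iff_exists_ne_one.mp hK1
    exact ⟨k, k.2, fun h => hk (Subtype.ext h)⟩
  have hkM : k ∈ M := hKM hkK
  have hyk : y * k = k * y := by
    have := (Subgroup.mem_centralizer_iff.mp hyK) k hkK
    exact this.symm
  have hkcent : k ∈ M ⊓ Subgroup.centralizer ({y} : Set G) := by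
    refine Subgroup.mem_inf.mpr ⟨hkM, ?_⟩
    refine Subgroup.mem_centralizer_iff.mpr ?_
    intro t ht
    rw [Set.mem_singleton_iff] at ht
    rw [ht]; exact hyk
  have hokK : orderOf k ∣ Nat.card K := by
    have := orderOf_dvd_natCard (⟨k, hkK⟩ : K)
    rwa [Subgroup.orderOf_mk] at this
  have hkκ : ∀ p : ℕ, p.Prime → p ∣ orderOf k → p ∈ kappa M := fun p hp hpd =>
    hK.2.1 p hp (hpd.trans hokK)
  have hkσ : ∀ p : ℕ, p.Prime → p ∣ orderOf k → p ∉ sigma M := fun p hp hpd =>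
    (hkκ p hp hpd).2.2.1
  -- BG 14.3
  have hCyM : Subgroup.centralizer ({y} : Set G) ≤ M := by
    rcases h32 M hM y hyσ hy1 k hkcent hk1 hkσ with h | h
    · exact h.2
    · exfalso
      have hn1 : orderOf k ≠ 1 := fun h' => hk1 (orderOf_eq_one_iff.mp h')
      have hp := Nat.minFac_prime hn1
      have hpd := Nat.minFac_dvd (orderOf k)
      exact Cfsg.Agent.Lib.Helper75.BG144.not_mem_tau2_of_mem_kappa (hkκ _ hp hpd) (h.1 _ hp hpd)
  have hCYM : Subgroup.centralizer (Y : Set G) ≤ M := hCYy.trans hCyM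
  refine ⟨hCYM, ?_⟩
  intro L hL hCL
  by_contra hLM
  -- `Y` is abelian, so `Y ≤ C_G(Y) ≤ L`
  have hYcomm : Y ≤ Subgroup.centralizer (Y : Set G) := by
    intro a ha
    rw [Subgroup.mem_centralizer_iff]
    intro t ht
    rw [SetLike.mem_coe, ← hzy] at ht
    rw [← hzy] at ha
    obtain ⟨n, rfl⟩ := Subgroup.mem_zpowers_iff.mp ht
    obtain ⟨m, rfl⟩ := Subgroup.mem_zpowers_iff.mp ha
    rw [← zpow_add, ← zpow_add, add_comm]
  have hYL : Y ≤ L := hYcomm.trans hCL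
  have hYM : Y ≤ M := hYcomm.trans hCYM
  have hYσ : Y ≤ sigmaCore M := fun a ha => (hY ha).1
  have hYKs : Y ≤ sigmaCore M ⊓ Subgroup.centralizer (K : Set G) := hY
  have hqdvd : q ∣ Nat.card ↥(sigmaCore M ⊓ Subgroup.centralizer (K : Set G)) := by
    have := Subgroup.card_dvd_of_le hYKs
    rwa [← hq] at this
  -- `q ∉ σ(L)`
  have hHall : IsPiHallOf (sigma M) (sigmaCore M) M := (Cfsg.Agent.S1350.result hG M hM).1
  have hqσM : q ∈ sigma M := by
    refine hHall.2.1 q hYp ?_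
    have := Subgroup.card_dvd_of_le hYσ
    rwa [← hq] at this
  have hqL : q ∉ sigma L := by
    intro hqL
    obtain ⟨g, hg⟩ := hSP M L hM hL ⟨q, hqσM, hqL⟩
    by_cases hgM : g ∈ M
    · apply hLM
      rw [hg]
      ext t
      rw [Subgroup.mem_map]
      constructor
      · rintro ⟨m, hm, rfl⟩
        simp only [MulEquiv.coe_toMonoidHom, MulAut.conj_apply]
        exact M.mul_mem (M.mul_mem hgM hm) (M.inv_mem hgM)
      · intro ht
        refine ⟨g⁻¹ * t * g, M.mul_mem (M.mul_mem (M.inv_mem hgM) ht) hgM, ?_⟩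
        simp only [MulEquiv.coe_toMonoidHom, MulAut.conj_apply]
        group
    · have hbot := (h31 M hM K hK hK1).1 g hgM
      have : Y ≤ ⊥ := by
        rw [← hbot]
        exact le_inf hYKs (hg ▸ hYL)
      exact hY1 (le_bot_iff.mp this)
  -- a Sylow `q`-subgroup of `M_σ` over `Y`
  have hYq : IsPGroup q Y := IsPGroup.of_card (n := 1) (by rw [pow_one])
  obtain ⟨S, hS⟩ := (hYq.comap_subtype (K := sigmaCore M)).exists_le_sylow
  set S' : Subgroup G := (S : Subgroup ↥(sigmaCore M)).map (sigmaCore M).subtype with hS'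
  have hYS' : Y ≤ S' := by
    intro a ha
    exact ⟨⟨a, hYσ ha⟩, hS (Subgroup.mem_subgroupOf.mpr ha), rfl⟩
  have hS'σ : S' ≤ sigmaCore M := Subgroup.map_subtype_le _
  have hS'q : IsPGroup q S' := S.isPGroup'.map _
  obtain ⟨hS'uniq, hS'M, -⟩ := (h31 M hM K hK hK1).2.2.1 q hYp hqdvd S
  have hS'L : ¬ S' ≤ L := by
    intro h
    obtain ⟨H, -, hHu⟩ := hS'uniq
    exact hLM ((hHu L ⟨hL, h⟩).trans (hHu M ⟨hM, hS'M⟩).symm)
  -- an element of `S'` not commuting with `y`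
  obtain ⟨s, hsS', hsy⟩ : ∃ s ∈ S', s * y ≠ y * s := by
    by_contra hne
    apply hS'L
    intro s hs
    apply hCL
    apply hCyY
    rw [Subgroup.mem_centralizer_iff]
    intro t ht
    rw [Set.mem_singleton_iff] at ht
    rw [ht]
    by_contra h2
    exact hne ⟨s, hs, fun h3 => h2 h3.symm⟩
  -- a central element `w` of order `q` of `S'`
  have hS'1 : S' ≠ ⊥ := fun h => hY1 (le_bot_iff.mp (h ▸ hYS'))
  obtain ⟨w, hwS', hwo, hwc⟩ := Cfsg.Agent.Lib.Helper31.Bg10.exists_central_order_p hS'q hS'1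
  have hwY : w ∉ Y := by
    intro hw
    have hw1 : w ≠ 1 := by
      intro h
      rw [h, orderOf_one] at hwo
      exact hYp.one_lt.ne' hwo.symm
    have hzw : Subgroup.zpowers w = Y :=
      Cfsg.Agent.Lib.Helper13.BG127.zpowers_eq_of_card_prime (p := q) hq.symm hw hw1
    have : y ∈ Subgroup.zpowers w := hzw ▸ hyY
    obtain ⟨n, rfl⟩ := Subgroup.mem_zpowers_iff.mp this
    apply hsy
    have h1 : Commute s w := hwc s hsS'
    exact (h1.zpow_right n).eq
  have hwYc : ∀ a ∈ Y, a * w = w * a := fun a ha => hwc a (hYS' ha)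
  obtain ⟨hAe, hAc⟩ := Cfsg.Agent.Lib.Helper31.Bg10.elemAb_sup_zpowers (p := q) hq.symm hwo hwYc hwY
  set A : Subgroup G := Y ⊔ Subgroup.zpowers w with hA
  -- `A ≤ C_{S'}(Y) ≤ L ⊓ M`
  have hwCY : w ∈ Subgroup.centralizer (Y : Set G) := by
    rw [Subgroup.mem_centralizer_iff]
    intro t ht
    exact (hwYc t ht)
  have hAC : A ≤ Subgroup.centralizer (Y : Set G) :=
    sup_le hYcomm ((Subgroup.zpowers_le).mpr hwCY)
  have hAL : A ≤ L := hAC.trans hCL
  have hAM : A ≤ M := hAC.trans hCYM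
  -- `q ∈ τ₂(L)`
  have hrk := Cfsg.Agent.Lib.Helper27.BGZ.rank_two hG hL hqL hAL hAe hAc
  have hq2L : q ∈ tau2 L := ⟨hYp, hqL, hrk.1, hrk.2⟩
  have h17 := Cfsg.Agent.S1417.result hG L hL q hq2L A ⟨hAL, hAe, hAc⟩
  have hbot : sigmaCore L ⊓ M = ⊥ := h17.2.2.2.2.1 M hM (fun h => hLM h.symm) hAM
  -- a complement of `L_σ` over `A`
  have hHallL : IsPiHallOf (sigma L) (sigmaCore L) L := (Cfsg.Agent.S1350.result hG L hL).1
  obtain ⟨E, hE, hAE⟩ := Cfsg.Agent.Lib.Helper13.BG12.exists_complIn_ge hG hL hHallL hAL (by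
    intro p hp hpd
    rw [hAc] at hpd
    have : p = q := (Nat.prime_dvd_prime_iff_eq hp hYp).mp (hp.dvd_of_dvd_pow hpd)
    rw [this]; exact hqL)
  -- the Sylow `q`-subgroups of `G` are nonabelian
  have hSyl : ∀ P : Sylow q G, ¬ IsMulCommutative (P : Subgroup G) := by
    apply Cfsg.Agent.Lib.Helper77.BG137.sylow_all_nonabelian
    intro hall
    obtain ⟨P, hP⟩ := hS'q.exists_le_sylow
    have hc := hall P
    have h1 : (⟨s, hP hsS'⟩ : (P : Subgroup G)) * ⟨y, hP (hYS' hyY)⟩ =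
        ⟨y, hP (hYS' hyY)⟩ * ⟨s, hP hsS'⟩ := hc.is_comm.comm _ _
    exact hsy (congrArg Subtype.val h1)
  have h19 := Cfsg.Agent.S1419.result hG L hL E hE q hq2L hSyl A ⟨hAE, hAe, hAc⟩
  have hYE : Y ≤ E := le_sup_left.trans hAE
  -- `Y = C_A(L_σ)`
  have hYeq : Y = A ⊓ Subgroup.centralizer (sigmaCore L : Set G) := by
    by_contra hne
    exact (h19.2.2 Y hYE hq.symm hne).2 hCL
  -- so `L_σ ≤ C_G(Y) ≤ M`
  have hLσC : sigmaCore L ≤ Subgroup.centralizer (Y : Set G) := by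
    intro t ht
    rw [Subgroup.mem_centralizer_iff]
    intro a ha
    have ha' : a ∈ A ⊓ Subgroup.centralizer (sigmaCore L : Set G) := hYeq ▸ ha
    exact ((Subgroup.mem_centralizer_iff.mp ha'.2) t ht).symm
  have hLσ1 : sigmaCore L = ⊥ := by
    apply le_bot_iff.mp
    rw [← hbot]
    exact le_inf le_rfl (hLσC.trans hCYM)
  have hL1 : L ≠ ⊥ := fun h => hY1 (le_bot_iff.mp (h ▸ hYL))
  exact Cfsg.Agent.Lib.Helper71.BG11.sigmaCore_ne_bot hG hL hL1 hLσ1

/-- **S1367** from the statements of S1378, S1430, S1431, S1432. -/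
theorem s1367_of (hG : IsMinSimpleOddOrder G) (hSP : HSP2 G) (h30 : H1430 G) (h31 : H1431 G)
    (h32 : H1432 G) (M : Subgroup G) (hM : IsCoatom M) (K U : Subgroup G)
    (hKU : IsSigmaDecomposition M K U) (hK1 : K ≠ ⊥) (Mstar : Subgroup G) (hMstar : IsCoatom Mstar)
    (hKst : K = sigmaCore Mstar ⊓
      Subgroup.centralizer ((sigmaCore M ⊓ Subgroup.centralizer (K : Set G)) : Set G))
    (hKstH : IsPiHallOf (kappa Mstar) (sigmaCore M ⊓ Subgroup.centralizer (K : Set G)) Mstar) :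
    (∀ X : Subgroup G, X ≤ (sigmaCore M ⊓ Subgroup.centralizer (K : Set G)) → (Nat.card X).Prime →
        Subgroup.centralizer (X : Set G) ≤ M ∧
          ∀ L : Subgroup G, IsCoatom L → Subgroup.centralizer (X : Set G) ≤ L → L = M) ∧
      (∀ Y : Subgroup G, Y ≤ K → (Nat.card Y).Prime →
        Subgroup.centralizer (Y : Set G) ≤ Mstar ∧
          ∀ L : Subgroup G, IsCoatom L → Subgroup.centralizer (Y : Set G) ≤ L → L = Mstar) := by
  have hKs1 : sigmaCore M ⊓ Subgroup.centralizer (K : Set G) ≠ ⊥ :=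
    (Cfsg.Agent.Lib.Helper89.BG14D.kFacts hG h30 M hM K U hKU hK1).Ks_ne
  refine ⟨fun X hX hXp => claimD hG hSP h31 h32 M hM K hKU.hall hK1 X hX hXp, fun Y hY hYp => ?_⟩
  refine claimD hG hSP h31 h32 Mstar hMstar _ hKstH hKs1 Y ?_ hYp
  have hcoe : ((sigmaCore M ⊓ Subgroup.centralizer (K : Set G) : Subgroup G) : Set G) =
      ((sigmaCore M : Set G) ⊓ (Subgroup.centralizer (K : Set G) : Set G)) :=
    Subgroup.coe_inf _ _
  rw [hcoe, ← hKst]
  exact hY

end Cfsg.Agent.Lib.Helper55.BG147
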