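import Cfsg.Agent.Lib.Helper55.WeakProd
import Cfsg.Agent.Lib.Helper30.Components
import Cfsg.Agent.Lib.Helper29.Quasisimple

set_option autoImplicit false
set_option linter.unusedSectionVars false

namespace Cfsg.Agent.Lib.Helper55

open Cfsg
open scoped commutatorElement

section qsA

variable {K : Type*} [Group K] [Finite K] {p : ℕ} [Fact p.Prime]

/-- a normal subgroup `D` of `K` with `O_p(K) = 1` having a central subgroup `A` with
`D / A` a `p`-group contains no nontrivial `p`-subgroup -/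
theorem eq_bot_of_le_central_ext (hK : pCore p K = ⊥) (D A : Subgroup K) [hD : D.Normal]
    (hAD : A ≤ D) (hAc : D ≤ Subgroup.centralizer (A : Set K))
    (hDA : ∀ d ∈ D, ∃ n : ℕ, d ^ (p ^ n) ∈ A)
    (Y : Subgroup K) (hY : IsPGroup p Y) (hYD : Y ≤ D) : Y = ⊥ := by
  -- `D` is nilpotent
  have hAn : (A.subgroupOf D).Normal := by
    constructor
    intro a ha d
    rw [Subgroup.mem_subgroupOf] at ha ⊢
    have h1 : (d : K) * (a : K) = (a : K) * (d : K) := by
      have := hAc d.2 (a : K) ha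
      exact this.symm
    have e : ((d * a * d⁻¹ : ↥D) : K) = (a : K) := by
      push_cast
      rw [h1]; group
    rw [e]; exact ha
  have hcen : A.subgroupOf D ≤ Subgroup.center ↥D := by
    intro a ha
    rw [Subgroup.mem_subgroupOf] at ha
    rw [Subgroup.mem_center_iff]
    intro d
    apply Subtype.ext
    push_cast
    exact (hAc d.2 (a : K) ha).symm
  have hpq : IsPGroup p (↥D ⧸ A.subgroupOf D) := by
    intro x
    obtain ⟨d, rfl⟩ := QuotientGroup.mk_surjective x
    obtain ⟨n, hn⟩ := hDA d d.2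
    refine ⟨n, ?_⟩
    rw [← QuotientGroup.mk_pow, QuotientGroup.eq_one_iff, Subgroup.mem_subgroupOf]
    simpa using hn
  haveI hnilq : Group.IsNilpotent (↥D ⧸ A.subgroupOf D) := hpq.isNilpotent
  haveI hnil : Group.IsNilpotent ↥D := by
    apply Subgroup.isNilpotent_of_ker_le_center (QuotientGroup.mk' (A.subgroupOf D))
    rw [QuotientGroup.ker_mk']; exact hcen
  obtain ⟨P, hP⟩ := (hY.comap_subtype (K := D)).exists_le_sylow
  change Y.subgroupOf D ≤ P at hP
  have hPn : (P : Subgroup ↥D).Normal := inferInstance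
  have h1 : (P : Subgroup ↥D) ≤ pCore p ↥D := le_pCore hPn P.2
  have h2 : pCoreOf p D ≤ pCore p K := by
    apply le_pCore _ (isPGroup_pCoreOf D)
    rw [← Subgroup.normalizer_eq_top_iff, eq_top_iff]
    have := normalizer_le_normalizer_pCoreOf (p := p) D
    rwa [Subgroup.normalizer_eq_top_iff.2 hD] at this
  rw [hK, le_bot_iff, pCoreOf_eq_bot_iff] at h2
  rw [h2, le_bot_iff] at h1
  rw [h1, le_bot_iff] at hP
  rw [eq_bot_iff]
  intro y hy
  have : (⟨y, hYD hy⟩ : ↥D) ∈ Y.subgroupOf D := by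
    rw [Subgroup.mem_subgroupOf]; exact hy
  rw [hP, Subgroup.mem_bot] at this
  rw [Subgroup.mem_bot]
  exact congrArg Subtype.val this

/-- Let `O_p(K) = 1` and `F` a normal quasisimple subgroup of `K` with `K / F` a `p`-group.
Then `[F, Y] = F` for every nontrivial `p`-subgroup `Y`. -/
theorem qs_commutator_eq (hK : pCore p K = ⊥) (F : Subgroup K) [hFn : F.Normal]
    (hF : IsQuasisimple ↥F) (hKF : ∀ k : K, ∃ n : ℕ, k ^ (p ^ n) ∈ F)
    (Y : Subgroup K) (hY : IsPGroup p Y) (hY1 : Y ≠ ⊥) : ⁅F, Y⁆ = F := by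
  obtain ⟨hperf, hne, hdich⟩ := Helper30.qs_subgroup hF
  have hVF : ⁅F, Y⁆ ≤ F := Subgroup.commutator_le_left F Y
  rcases hdich ⁅F, Y⁆ hVF (Helper01.le_normalizer_commutator_left F Y) with h | h
  · exact h
  · exfalso
    have h1 : ⁅⁅F, Y⁆, F⁆ = ⊥ := Subgroup.commutator_eq_bot_iff_le_centralizer.2 h
    have h2 : ⁅⁅Y, F⁆, F⁆ = ⊥ := by rw [Subgroup.commutator_comm Y F]; exact h1
    have h3 : ⁅⁅F, F⁆, Y⁆ = ⊥ := Subgroup.commutator_commutator_eq_bot_of_rotate h1 h2
    rw [hperf] at h3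
    have h4 : Y ≤ Subgroup.centralizer (F : Set K) := by
      rw [← Subgroup.commutator_eq_bot_iff_le_centralizer, Subgroup.commutator_comm]; exact h3
    apply hY1
    apply eq_bot_of_le_central_ext hK (Subgroup.centralizer (F : Set K))
      (F ⊓ Subgroup.centralizer (F : Set K)) inf_le_right _ _ Y hY h4
    · exact Subgroup.centralizer_le inf_le_left
    · intro d hd
      obtain ⟨n, hn⟩ := hKF d
      exact ⟨n, hn, Subgroup.pow_mem _ hd _⟩

end qsA

section img

variable {G : Type*} [Group G] (E N : Subgroup G) [hn : (N.subgroupOf E).Normal]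

/-- image of `X ∩ E` in `E / (N ∩ E)` -/
abbrev img (X : Subgroup G) : Subgroup (↥E ⧸ N.subgroupOf E) :=
  (X.subgroupOf E).map (QuotientGroup.mk' (N.subgroupOf E))

theorem img_mono {X Y : Subgroup G} (h : X ≤ Y) : img E N X ≤ img E N Y :=
  Subgroup.map_mono (Subgroup.comap_mono h)

theorem exists_mul_of_img_le {X Y : Subgroup G} (hX : X ≤ E) (h : img E N X ≤ img E N Y)
    {x : G} (hx : x ∈ X) : ∃ y ∈ Y, ∃ c ∈ E ⊓ N, x = y * c := by
  have h1 : QuotientGroup.mk' (N.subgroupOf E) ⟨x, hX hx⟩ ∈ img E N X :=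
    Subgroup.mem_map_of_mem _ (by rw [Subgroup.mem_subgroupOf]; exact hx)
  obtain ⟨y, hy, e⟩ := h h1
  rw [SetLike.mem_coe, Subgroup.mem_subgroupOf] at hy
  rw [QuotientGroup.mk'_apply, QuotientGroup.mk'_apply, QuotientGroup.eq,
    Subgroup.mem_subgroupOf] at e
  refine ⟨(y : G), hy, (y : G)⁻¹ * x, ⟨?_, ?_⟩, by group⟩
  · exact E.mul_mem (E.inv_mem y.2) (hX hx)
  · simpa using e

theorem le_sup_of_img_le {X Y : Subgroup G} (hX : X ≤ E) (h : img E N X ≤ img E N Y) :
    X ≤ Y ⊔ (E ⊓ N) := by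
  intro x hx
  obtain ⟨y, hy, c, hc, rfl⟩ := exists_mul_of_img_le E N hX h hx
  exact mul_mem (Subgroup.mem_sup_left hy) (Subgroup.mem_sup_right hc)

theorem subgroupOf_commutator {A B : Subgroup G} (hA : A ≤ E) (hB : B ≤ E) :
    (⁅A, B⁆).subgroupOf E = ⁅A.subgroupOf E, B.subgroupOf E⁆ := by
  apply Subgroup.map_injective E.subtype_injective
  rw [Subgroup.map_commutator, Subgroup.subgroupOf_map_subtype, Subgroup.subgroupOf_map_subtype,
    Subgroup.subgroupOf_map_subtype, inf_eq_left.2 hA, inf_eq_left.2 hB, inf_eq_left]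
  exact (Subgroup.commutator_mono hA hB).trans (Subgroup.commutator_le_self E)

theorem img_commutator {A B : Subgroup G} (hA : A ≤ E) (hB : B ≤ E) :
    img E N ⁅A, B⁆ = ⁅img E N A, img E N B⁆ := by
  unfold img
  rw [subgroupOf_commutator E hA hB, Subgroup.map_commutator]

theorem img_sup {A B : Subgroup G} (hA : A ≤ E) (hB : B ≤ E) :
    img E N (A ⊔ B) = img E N A ⊔ img E N B := by
  unfold img
  rw [Subgroup.subgroupOf_sup hA hB, Subgroup.map_sup]

theorem img_eq_bot_of_le {X : Subgroup G} (hX : X ≤ N) : img E N X = ⊥ := by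
  unfold img
  rw [eq_bot_iff]
  have : X.subgroupOf E ≤ (QuotientGroup.mk' (N.subgroupOf E)).ker := by
    rw [QuotientGroup.ker_mk']
    exact Subgroup.comap_mono hX
  exact (Subgroup.map_eq_bot_iff _).2 this |>.le

theorem le_of_img_eq_bot {X : Subgroup G} (hX : X ≤ E) (h : img E N X = ⊥) : X ≤ N := by
  have h1 : img E N X ≤ img E N ⊥ := by rw [h]; exact bot_le
  have := le_sup_of_img_le E N hX h1
  rw [bot_sup_eq] at this
  exact this.trans inf_le_right

theorem img_normal {X : Subgroup G} (hXE : X ≤ E)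
    (hX : E ≤ Subgroup.normalizer (X : Set G)) : (img E N X).Normal := by
  have : (X.subgroupOf E).Normal := (Subgroup.normal_subgroupOf_iff_le_normalizer hXE).2 hX
  exact Subgroup.Normal.map this _ (QuotientGroup.mk'_surjective _)

theorem isPGroup_img {p : ℕ} {X : Subgroup G} (hX : IsPGroup p X) : IsPGroup p (img E N X) :=
  (hX.comap_subtype (K := E)).map _

end img

section core

variable {G : Type*} [Group G] [Finite G] {p : ℕ} [Fact p.Prime]

omit [Finite G] [Fact p.Prime] in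
theorem commutatorElement_mul_left' (a c y : G) :
    ⁅a * c, y⁆ = a * ⁅c, y⁆ * a⁻¹ * ⁅a, y⁆ := by
  simp only [commutatorElement_def]; group

omit [Finite G] [Fact p.Prime] in
theorem commutator_top_of_perfect {L : Subgroup G} (h : ⁅L, L⁆ = L) : commutator ↥L = ⊤ := by
  apply Subgroup.map_injective L.subtype_injective
  rw [commutator_def, Subgroup.map_commutator, ← MonoidHom.range_eq_map, Subgroup.range_subtype]
  exact h

theorem qs_section_core (Q : Subgroup G) (hQp : IsPGroup p ↥Q) (hQ1 : Q ≠ ⊥)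
    (hwc : IsWeaklyClosedSubgroup p Q) (C E W Er : Subgroup G) (hQE : Q ≤ E)
    (hQC : ¬ Q ≤ C) [hn : (C.subgroupOf E).Normal]
    (hred : pCore p (↥E ⧸ C.subgroupOf E) = ⊥)
    (hqs : IsQuasisimple ↥(((pResidual p ↥E) ⊔ C.subgroupOf E).map
      (QuotientGroup.mk' (C.subgroupOf E))))
    (hW : W = weakClosure Q E) (hWC : ⁅W, C⁆ ≤ pCoreOf p W) (hEr : Er = pResOf p W)
    [hn2 : (C.subgroupOf Er).Normal] :
    pResOf p E ⊔ (E ⊓ C) = Er ⊔ (E ⊓ C) ∧ ⁅Er, Er⁆ = Er ∧ pResOf p Er = Er ∧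
    IsQuasisimple (↥Er ⧸ C.subgroupOf Er) ∧ IsQuasisimple (↥Er ⧸ pCore p ↥Er) ∧
    ∀ Y : Subgroup G, Y ≤ E → IsPGroup p ↥Y → ¬ Y ≤ C → ⁅Er, Y⁆ = Er := by
  -- facts on `W`
  have hQnE : Q ≤ Subgroup.normalizer (E : Set G) := hQE.trans Subgroup.le_normalizer
  have hEQ : E ⊔ Q = E := sup_eq_left.2 hQE
  obtain ⟨hQW, hWE, hEW, -, -, hErQ⟩ := weakClosure_sup_props hQp hQ1 hwc hQnE
  rw [hEQ, ← hW] at hQW hWE hEW hErQ
  rw [← hEr] at hErQ
  have hErW : Er ≤ W := by rw [hEr]; exact pResOf_le p W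
  have hErE : Er ≤ E := hErW.trans hWE
  have hEEr : E ≤ Subgroup.normalizer (Er : Set G) := by
    rw [hEr]; exact hEW.trans (normalizer_le_normalizer_pResOf p W)
  have hErres : pResOf p Er = Er := by
    conv_rhs => rw [hEr]
    rw [hEr]; exact pResOf_pResOf p W
  have hEC : E ≤ Subgroup.normalizer ((E ⊓ C : Subgroup G) : Set G) := by
    have := Subgroup.normal_subgroupOf_iff_le_normalizer_inf.1 hn
    rwa [inf_comm] at this
  -- the quasisimple group `F`
  obtain ⟨F, hF⟩ : ∃ F, F = img E C (pResOf p E) := ⟨_, rfl⟩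
  have hsub : (pResOf p E).subgroupOf E = pResidual p ↥E :=
    Subgroup.comap_map_eq_self_of_injective E.subtype_injective _
  have hF' : F = (pResidual p ↥E).map (QuotientGroup.mk' (C.subgroupOf E)) := by
    rw [hF]; unfold img; rw [hsub]
  have hF2 : ((pResidual p ↥E) ⊔ C.subgroupOf E).map (QuotientGroup.mk' (C.subgroupOf E)) = F := by
    rw [Subgroup.map_sup, hF']
    have : (C.subgroupOf E).map (QuotientGroup.mk' (C.subgroupOf E)) = ⊥ := by
      rw [Subgroup.map_eq_bot_iff, QuotientGroup.ker_mk']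
    rw [this, sup_bot_eq]
  rw [hF2] at hqs
  haveI hFn : F.Normal := by
    rw [hF]
    exact img_normal E C (pResOf_le p E)
      (Subgroup.le_normalizer.trans (normalizer_le_normalizer_pResOf p E))
  have hKF : ∀ k : ↥E ⧸ C.subgroupOf E, ∃ n : ℕ, k ^ (p ^ n) ∈ F := by
    intro k
    obtain ⟨e, rfl⟩ := QuotientGroup.mk_surjective k
    obtain ⟨n, hn⟩ := Helper54.exists_pow_mem_pResidual (p := p) e
    refine ⟨n, ?_⟩
    rw [hF']
    exact ⟨e ^ (p ^ n), hn, rfl⟩
  obtain ⟨hFperf, -, -⟩ := Helper30.qs_subgroup hqs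
  have keyA : ∀ Y : Subgroup G, Y ≤ E → IsPGroup p ↥Y → ¬ Y ≤ C → ⁅F, img E C Y⁆ = F := by
    intro Y hYE hYp hYC
    apply qs_commutator_eq hred F hqs hKF _ (isPGroup_img E C hYp)
    intro h
    exact hYC (le_of_img_eq_bot E C hYE h)
  -- claim 1
  have hWn : (img E C W).Normal := img_normal E C hWE hEW
  have hFW : F ≤ img E C W := by
    rw [← keyA Q hQE hQp hQC]
    exact (Subgroup.commutator_mono le_top (img_mono E C hQW)).trans
      (Subgroup.commutator_le_right _ _)
  have h1a : pResOf p E ≤ W ⊔ (E ⊓ C) := by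
    apply le_sup_of_img_le E C (pResOf_le p E)
    rw [← hF]; exact hFW
  obtain ⟨T, hT, hQT⟩ := exists_isSylowIn_ge hQW hQp
  have hWT : W ≤ Er ⊔ T := by rw [hEr]; exact le_pResOf_sup_of_isSylowIn hT
  have hTE : T ≤ E := hT.1.trans hWE
  have h1b : pResOf p (W ⊔ (E ⊓ C)) ≤ Er ⊔ (E ⊓ C) := by
    apply pResOf_le_of_sup (P := T) _ _ hT.2.1
    · apply le_antisymm
      · apply sup_le
        · exact hWT.trans (sup_le (le_sup_left.trans le_sup_left) le_sup_right)
        · exact le_sup_right.trans le_sup_left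
      · apply sup_le
        · exact sup_le (hErW.trans le_sup_left) le_sup_right
        · exact hT.1.trans le_sup_left
    · exact hTE.trans (le_normalizer_sup' hEEr hEC)
  have h1c : pResOf p E ≤ Er ⊔ (E ⊓ C) := by
    rw [← pResOf_pResOf]
    exact (pResOf_mono p h1a).trans h1b
  have hErE' : Er ≤ pResOf p E := by rw [hEr]; exact pResOf_mono p hWE
  have h1 : pResOf p E ⊔ (E ⊓ C) = Er ⊔ (E ⊓ C) :=
    le_antisymm (sup_le h1c le_sup_right) (sup_le (hErE'.trans le_sup_left) le_sup_right)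
  have hFEr : img E C Er = F := by
    apply le_antisymm
    · rw [hF]; exact img_mono E C hErE'
    · rw [hF]
      refine (img_mono E C h1c).trans ?_
      rw [img_sup E C hErE inf_le_left, img_eq_bot_of_le E C inf_le_right, sup_bot_eq]
  -- the `p`-group `P₀`
  obtain ⟨P₀, hP₀⟩ : ∃ P₀, P₀ = pCoreOf p W ⊓ Er := ⟨_, rfl⟩
  have hP₀p : IsPGroup p ↥P₀ := by
    rw [hP₀]; exact (isPGroup_pCoreOf W).to_le inf_le_left
  have hP₀Er : P₀ ≤ Er := by rw [hP₀]; exact inf_le_right
  have hEP₀ : E ≤ Subgroup.normalizer (P₀ : Set G) := by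
    rw [hP₀]
    exact (le_inf (hEW.trans (normalizer_le_normalizer_pCoreOf W)) hEEr).trans
      Subgroup.inf_normalizer_le_normalizer_inf
  have hcomm : ∀ c ∈ Er, c ∈ C → ∀ w ∈ W, ⁅c, w⁆ ∈ P₀ := by
    intro c hcE hcC w hw
    rw [hP₀]
    constructor
    · have h := hWC (Subgroup.commutator_mem_commutator hw hcC)
      have e : ⁅c, w⁆ = ⁅w, c⁆⁻¹ := (commutatorElement_inv w c).symm
      rw [e]; exact Subgroup.inv_mem _ h
    · have h2 : w * c⁻¹ * w⁻¹ ∈ Er :=
        (Subgroup.mem_normalizer_iff.1 (hEEr (hWE hw)) c⁻¹).1 (Er.inv_mem hcE)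
      have e : ⁅c, w⁆ = c * (w * c⁻¹ * w⁻¹) := by rw [commutatorElement_def]; group
      rw [e]; exact Er.mul_mem hcE h2
  -- generic step
  have step : ∀ V Z : Subgroup G, V ≤ Er → img E C Er ≤ img E C V → Z ≤ W →
      Z ≤ Subgroup.normalizer (V : Set G) → Er ≤ Subgroup.normalizer (V : Set G) →
      ⁅Er, Z⁆ = Er → Er ≤ V := by
    intro V Z hVEr himg hZW hZV hErV hcomZ
    have h2 : ⁅Er, Z⁆ ≤ V ⊔ P₀ := by
      rw [Subgroup.commutator_le]
      intro x hx z hz
      obtain ⟨a, ha, c, hc, rfl⟩ := exists_mul_of_img_le E C hErE himg hx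
      have hcEr : c ∈ Er := by
        have : c = a⁻¹ * (a * c) := by group
        rw [this]; exact Er.mul_mem (Er.inv_mem (hVEr ha)) hx
      rw [commutatorElement_mul_left']
      apply mul_mem
      · apply Subgroup.mem_sup_right
        exact (Subgroup.mem_normalizer_iff.1 (hEP₀ (hErE (hVEr ha))) _).1
          (hcomm c hcEr hc.2 z (hZW hz))
      · apply Subgroup.mem_sup_left
        have h3 : z * a⁻¹ * z⁻¹ ∈ V := (Subgroup.mem_normalizer_iff.1 (hZV hz) a⁻¹).1 (V.inv_mem ha)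
        have e : ⁅a, z⁆ = a * (z * a⁻¹ * z⁻¹) := by rw [commutatorElement_def]; group
        rw [e]; exact V.mul_mem ha h3
    rw [hcomZ] at h2
    have h3 : Er = V ⊔ P₀ := le_antisymm h2 (sup_le hVEr hP₀Er)
    have h4 : pResOf p Er ≤ V := pResOf_le_of_sup h3 (hP₀Er.trans hErV) hP₀p
    rwa [hErres] at h4
  -- perfectness
  have hperf : ⁅Er, Er⁆ = Er := by
    apply le_antisymm (Subgroup.commutator_le_self Er)
    apply step ⁅Er, Er⁆ Q (Subgroup.commutator_le_self Er) _ hQW
      (le_normalizer_commutator' (hQE.trans hEEr) (hQE.trans hEEr))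
      (le_normalizer_commutator' Subgroup.le_normalizer Subgroup.le_normalizer) hErQ
    rw [img_commutator E C hErE hErE, hFEr, hFperf]
  -- property (6)
  have h6 : ∀ Y : Subgroup G, Y ≤ E → IsPGroup p ↥Y → ¬ Y ≤ C → ⁅Er, Y⁆ = Er := by
    intro Y hYE hYp hYC
    have hV : ⁅Er, Y⁆ ≤ Er := commutator_le_of_le_normalizer (hYE.trans hEEr)
    apply le_antisymm hV
    apply step ⁅Er, Y⁆ Er hV _ hErW (Helper01.le_normalizer_commutator_left Er Y)
      (Helper01.le_normalizer_commutator_left Er Y) hperf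
    rw [img_commutator E C hErE hYE, hFEr, keyA Y hYE hYp hYC]
  -- `O_p(Er) ≤ C`
  have hK3 : pCoreOf p Er ≤ C := by
    apply le_of_img_eq_bot E C ((pCoreOf_le Er).trans hErE)
    rw [eq_bot_iff, ← hred]
    exact le_pCore (img_normal E C ((pCoreOf_le Er).trans hErE)
      (hEEr.trans (normalizer_le_normalizer_pCoreOf Er))) (isPGroup_img E C (isPGroup_pCoreOf Er))
  have hP₀core : P₀ ≤ pCoreOf p Er :=
    le_pCoreOf hP₀Er (hErE.trans hEP₀) hP₀p
  -- property (4)
  have h4 : IsQuasisimple (↥Er ⧸ C.subgroupOf Er) := by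
    obtain ⟨f, hf⟩ : ∃ f : ↥Er →* ↥E ⧸ C.subgroupOf E,
      f = (QuotientGroup.mk' (C.subgroupOf E)).comp (Subgroup.inclusion hErE) := ⟨_, rfl⟩
    have hker : f.ker = C.subgroupOf Er := by
      ext x
      rw [MonoidHom.mem_ker, hf, MonoidHom.comp_apply, QuotientGroup.mk'_apply,
        QuotientGroup.eq_one_iff, Subgroup.mem_subgroupOf, Subgroup.mem_subgroupOf]
      rfl
    have hrange : f.range = F := by
      rw [hf, MonoidHom.range_comp, Subgroup.inclusion_range, ← hFEr]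
    have e1 : ↥Er ⧸ f.ker ≃* ↥f.range := QuotientGroup.quotientKerEquivRange f
    have e2 : ↥Er ⧸ C.subgroupOf Er ≃* ↥Er ⧸ f.ker :=
      QuotientGroup.quotientMulEquivOfEq hker.symm
    have e3 : ↥f.range ≃* ↥F := MulEquiv.subgroupCongr hrange
    exact Helper29.qs_of_mulEquiv ((e2.trans (e1.trans e3)).symm) hqs
  -- property (5)
  have h5 : IsQuasisimple (↥Er ⧸ pCore p ↥Er) := by
    have h12 : pCore p ↥Er ≤ C.subgroupOf Er := by
      intro x hx
      rw [Subgroup.mem_subgroupOf]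
      exact hK3 ⟨x, hx, rfl⟩
    have hperfK : commutator (↥Er ⧸ pCore p ↥Er) = ⊤ := by
      have h0 : commutator ↥Er = ⊤ := commutator_top_of_perfect hperf
      rw [commutator_def, ← Subgroup.map_top_of_surjective (QuotientGroup.mk' (pCore p ↥Er))
        (QuotientGroup.mk'_surjective _), ← Subgroup.map_commutator, ← commutator_def, h0]
    have hcen : (C.subgroupOf Er).map (QuotientGroup.mk' (pCore p ↥Er)) ≤
        Subgroup.center (↥Er ⧸ pCore p ↥Er) := by
      rintro _ ⟨c, hc, rfl⟩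
      rw [Subgroup.mem_center_iff]
      intro k
      obtain ⟨x, rfl⟩ := QuotientGroup.mk_surjective k
      rw [SetLike.mem_coe, Subgroup.mem_subgroupOf] at hc
      have h3 : (⁅(c : G), (x : G)⁆) ∈ pCoreOf p Er :=
        hP₀core (hcomm c c.2 hc x (hErW x.2))
      obtain ⟨y, hy, e⟩ := h3
      have e' : y = ⁅c, x⁆ := by
        apply Subtype.ext
        rw [← Subgroup.coe_subtype, e]
        simp [commutatorElement_def]
      rw [e'] at hy
      have h4 : QuotientGroup.mk' (pCore p ↥Er) ⁅c, x⁆ = 1 := by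
        rw [QuotientGroup.mk'_apply, QuotientGroup.eq_one_iff]; exact hy
      rw [map_commutatorElement, commutatorElement_eq_one_iff_mul_comm] at h4
      exact h4.symm
    have e : (↥Er ⧸ pCore p ↥Er) ⧸ (C.subgroupOf Er).map (QuotientGroup.mk' (pCore p ↥Er)) ≃*
        ↥Er ⧸ C.subgroupOf Er :=
      QuotientGroup.quotientQuotientEquivQuotient (pCore p ↥Er) (C.subgroupOf Er) h12
    exact Helper29.qs_of_quotient_central hperfK _ hcen (Helper29.qs_of_mulEquiv e.symm h4)
  exact ⟨h1, hperf, hErres, h4, h5, h6⟩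

end core

end Cfsg.Agent.Lib.Helper55
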