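import Cfsg.Agent.Lib.Helper55.StabSeries
import Cfsg.Agent.Lib.Helper55.QsSection

set_option autoImplicit false

namespace Cfsg.Agent.Lib.Helper55

open Cfsg

section centmod

variable {G : Type*} [Group G]

/-- the centralizer of `N` modulo the normal subgroup `R` -/
def centMod (R N : Subgroup G) [R.Normal] : Subgroup G :=
  (Subgroup.centralizer ((N.map (QuotientGroup.mk' R) : Subgroup (G ⧸ R)) : Set (G ⧸ R))).comap
    (QuotientGroup.mk' R)

theorem le_iff_map_mk_eq_bot (R : Subgroup G) [R.Normal] (X : Subgroup G) :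
    X ≤ R ↔ X.map (QuotientGroup.mk' R) = ⊥ := by
  rw [← le_bot_iff, Subgroup.map_le_iff_le_comap, comap_mk'_bot]

theorem le_centMod_iff (R : Subgroup G) [R.Normal] {X N : Subgroup G} :
    X ≤ centMod R N ↔ ⁅X, N⁆ ≤ R := by
  unfold centMod
  rw [← Subgroup.map_le_iff_le_comap, le_iff_map_mk_eq_bot R, Subgroup.map_commutator,
    Subgroup.commutator_eq_bot_iff_le_centralizer]

theorem centMod_normal (R : Subgroup G) [R.Normal] {N : Subgroup G} (hN : N.Normal) :
    (centMod R N).Normal := by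
  unfold centMod
  have h1 : (N.map (QuotientGroup.mk' R)).Normal :=
    Subgroup.Normal.map hN _ (QuotientGroup.mk'_surjective R)
  exact Subgroup.Normal.comap inferInstance _

end centmod

section expsq

variable {G : Type*} [Group G]

open scoped commutatorElement in
/-- in a group where `⁅a, b⁆` commutes with `a`, `⁅a ^ k, b⁆ = ⁅a, b⁆ ^ k` -/
theorem commutatorElement_pow_left {a b : G} (h : Commute ⁅a, b⁆ a) (k : ℕ) :
    ⁅a ^ k, b⁆ = ⁅a, b⁆ ^ k := by
  induction k with
  | zero => simp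
  | succ k ih =>
    rw [pow_succ', commutatorElement_mul_left', ih, pow_succ]
    have h2 : Commute (⁅a, b⁆ ^ k) a := h.pow_left k
    have h3 : a * ⁅a, b⁆ ^ k * a⁻¹ = ⁅a, b⁆ ^ k := by
      rw [← h2.eq, mul_assoc, mul_inv_cancel, mul_one]
    rw [h3]

open scoped commutatorElement in
/-- a group `Y` with a central subgroup `N ≥ Y'`, `Y/N` of exponent `t`, acted on by `Q`
centralizing `N` with `Y = [Y, Q]`, has exponent dividing `t * t` -/
theorem exp_sq_of_central {Y N Q : Subgroup G} {t : ℕ} (hNY : N ≤ Y) (hYY : ⁅Y, Y⁆ ≤ N)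
    (hNc : N ≤ Subgroup.centralizer (Y : Set G)) (ht : ∀ y ∈ Y, y ^ t ∈ N)
    (hQN : Q ≤ Subgroup.centralizer (N : Set G)) (hQY : Q ≤ Subgroup.normalizer (Y : Set G))
    (hYQ : Y ≤ ⁅Y, Q⁆) : ∀ y ∈ Y, y ^ (t * t) = 1 := by
  -- elements of `N` commute with elements of `Y`
  have hcomm : ∀ n ∈ N, ∀ y ∈ Y, Commute n y := by
    intro n hn y hy
    exact ((Subgroup.mem_centralizer_iff.1 (hNc hn)) y hy).symm
  -- step 1
  have step1 : ∀ a ∈ Y, ∀ b ∈ Y, ⁅a, b⁆ ^ t = 1 := by
    intro a ha b hb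
    have hz : ⁅a, b⁆ ∈ N := hYY (Subgroup.commutator_mem_commutator ha hb)
    rw [← commutatorElement_pow_left (hcomm _ hz a ha) t]
    rw [commutatorElement_eq_one_iff_commute]
    exact hcomm _ (ht a ha) b hb
  -- step 2
  let T : Subgroup G :=
    { carrier := {d | d ∈ N ∧ d ^ t = 1}
      mul_mem' := by
        rintro x y ⟨hx, hx1⟩ ⟨hy, hy1⟩
        refine ⟨N.mul_mem hx hy, ?_⟩
        rw [(hcomm x hx y (hNY hy)).mul_pow, hx1, hy1, one_mul]
      one_mem' := ⟨N.one_mem, one_pow t⟩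
      inv_mem' := by
        rintro x ⟨hx, hx1⟩
        exact ⟨N.inv_mem hx, by rw [inv_pow, hx1, inv_one]⟩ }
  have step2 : ∀ d ∈ ⁅Y, Y⁆, d ^ t = 1 := by
    have : ⁅Y, Y⁆ ≤ T := by
      rw [Subgroup.commutator_le]
      intro a ha b hb
      exact ⟨hYY (Subgroup.commutator_mem_commutator ha hb), step1 a ha b hb⟩
    intro d hd
    exact (this hd).2
  -- step 3
  let φ : ↥Y →* Abelianization ↥Y := (powMonoidHom t).comp Abelianization.of
  have step3 : ⁅Y, Q⁆ ≤ φ.ker.map Y.subtype := by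
    rw [Subgroup.commutator_le]
    intro g hg q hq
    have hgq : q * g⁻¹ * q⁻¹ ∈ Y :=
      (Subgroup.mem_normalizer_iff.1 (hQY hq) g⁻¹).1 (Y.inv_mem hg)
    refine ⟨⟨g, hg⟩ * ⟨q * g⁻¹ * q⁻¹, hgq⟩, ?_, ?_⟩
    · rw [SetLike.mem_coe, MonoidHom.mem_ker]
      show (Abelianization.of (⟨g, hg⟩ * ⟨q * g⁻¹ * q⁻¹, hgq⟩ : ↥Y)) ^ t = 1
      rw [map_mul, mul_pow, ← map_pow, ← map_pow, ← map_mul]
      have e : (⟨g, hg⟩ : ↥Y) ^ t * (⟨q * g⁻¹ * q⁻¹, hgq⟩ : ↥Y) ^ t = 1 := by
        apply Subtype.ext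
        have hc : Commute (g ^ t) q :=
          ((Subgroup.mem_centralizer_iff.1 (hQN hq)) (g ^ t) (ht g hg))
        have e1 : (q * g⁻¹ * q⁻¹) ^ t = q * (g ^ t)⁻¹ * q⁻¹ := by
          rw [conj_pow, inv_pow]
        show g ^ t * (q * g⁻¹ * q⁻¹) ^ t = 1
        rw [e1, ← mul_assoc, ← mul_assoc, hc.eq, mul_assoc q, mul_inv_cancel, mul_one,
          mul_inv_cancel]
      rw [e, map_one]
    · show g * (q * g⁻¹ * q⁻¹) = ⁅g, q⁆
      rw [commutatorElement_def]; group
  intro y hy
  obtain ⟨w, hw, hwy⟩ := step3 (hYQ hy)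
  have hwy' : w = ⟨y, hy⟩ := Subtype.ext hwy
  rw [hwy', SetLike.mem_coe, MonoidHom.mem_ker] at hw
  have h1 : Abelianization.of ((⟨y, hy⟩ : ↥Y) ^ t) = 1 := by
    rw [map_pow]; exact hw
  have h2 : (⟨y, hy⟩ : ↥Y) ^ t ∈ commutator ↥Y := by
    rw [← Abelianization.ker_of, MonoidHom.mem_ker]; exact h1
  have h3 : y ^ t ∈ ⁅Y, Y⁆ := by
    have : ((⟨y, hy⟩ : ↥Y) ^ t : ↥Y).1 ∈ (commutator ↥Y).map Y.subtype := ⟨_, h2, rfl⟩
    rw [commutator_def, Subgroup.map_commutator, ← MonoidHom.range_eq_map,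
      Subgroup.range_subtype] at this
    exact this
  rw [pow_mul]
  exact step2 _ h3

/-- version of `exp_sq_of_central` modulo a normal subgroup `R` -/
theorem exp_sq_mod (R : Subgroup G) [R.Normal] {Y N Q : Subgroup G} {t : ℕ} (hNY : N ≤ Y)
    (hYY : ⁅Y, Y⁆ ≤ N) (hNc : ⁅N, Y⁆ ≤ R) (ht : ∀ y ∈ Y, y ^ t ∈ N)
    (hQN : ⁅Q, N⁆ ≤ R) (hQY : Q ≤ Subgroup.normalizer (Y : Set G))
    (hYQ : Y ≤ ⁅Y, Q⁆) : ∀ y ∈ Y, y ^ (t * t) ∈ R := by
  have key := exp_sq_of_central (Y := Y.map (QuotientGroup.mk' R))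
    (N := N.map (QuotientGroup.mk' R)) (Q := Q.map (QuotientGroup.mk' R)) (t := t)
    (Subgroup.map_mono hNY)
    (by rw [← Subgroup.map_commutator]; exact Subgroup.map_mono hYY)
    (by
      rw [← Subgroup.commutator_eq_bot_iff_le_centralizer, ← Subgroup.map_commutator,
        ← le_iff_map_mk_eq_bot]
      exact hNc)
    (by
      rintro _ ⟨y, hy, rfl⟩
      rw [← map_pow]
      exact Subgroup.mem_map_of_mem _ (ht y hy))
    (by
      rw [← Subgroup.commutator_eq_bot_iff_le_centralizer, ← Subgroup.map_commutator,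
        ← le_iff_map_mk_eq_bot]
      exact hQN)
    ((Subgroup.map_mono hQY).trans (Subgroup.le_normalizer_map _))
    (by rw [← Subgroup.map_commutator]; exact Subgroup.map_mono hYQ)
  intro y hy
  have h1 := key _ (Subgroup.mem_map_of_mem (QuotientGroup.mk' R) hy)
  rw [← map_pow] at h1
  exact (QuotientGroup.eq_one_iff _).1 h1

end expsq

section classtwo

variable {H : Type*} [Group H]

open scoped commutatorElement in
/-- a quotient in which all double commutators vanish is nilpotent of class at most two -/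
theorem class_two_quotient (R : Subgroup H) [R.Normal]
    (h : ∀ x y z : H, ⁅⁅x, y⁆, z⁆ ∈ R) :
    ∃ _ : Group.IsNilpotent (H ⧸ R), Group.nilpotencyClass (H ⧸ R) ≤ 2 := by
  have h2 : Subgroup.upperCentralSeries (H ⧸ R) 2 = ⊤ := by
    rw [eq_top_iff]
    intro x _
    rw [Subgroup.mem_upperCentralSeries_succ_iff]
    intro y
    rw [Subgroup.upperCentralSeries_one, Subgroup.mem_center_iff]
    intro z
    induction x using QuotientGroup.induction_on with
    | H a =>
    induction y using QuotientGroup.induction_on with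
    | H b =>
    induction z using QuotientGroup.induction_on with
    | H c =>
    have h3 := h a b c
    have h4 : (QuotientGroup.mk (⁅⁅a, b⁆, c⁆) : H ⧸ R) = (1 : H ⧸ R) :=
      (QuotientGroup.eq_one_iff _).2 h3
    have h5 : ⁅⁅(QuotientGroup.mk a : H ⧸ R), (QuotientGroup.mk b : H ⧸ R)⁆,
        (QuotientGroup.mk c : H ⧸ R)⁆ = (1 : H ⧸ R) := by
      rw [← h4]; rfl
    rw [commutatorElement_eq_one_iff_commute] at h5
    exact h5.eq.symm
  have hnil : Group.IsNilpotent (H ⧸ R) := ⟨⟨2, h2⟩⟩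
  exact ⟨hnil, Subgroup.upperCentralSeries_eq_top_iff_nilpotencyClass_le.1 h2⟩

end classtwo

section powers

/-- a nontrivial finite solvable group is not generated by its `t`-th powers, for some prime `t` -/
theorem exists_prime_powers_ne_top (H : Type*) [Group H] [Finite H] [Group.IsSolvable H]
    [Nontrivial H] :
    ∃ t : ℕ, t.Prime ∧ Subgroup.closure {x : H | ∃ z : H, x = z ^ t} ≠ ⊤ := by
  have h1 : commutator H < ⊤ := Group.IsSolvable.commutator_lt_top_of_nontrivial H
  have hA : Nontrivial (Abelianization H) := by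
    obtain ⟨y, -, hy⟩ := SetLike.exists_of_lt h1
    refine ⟨⟨Abelianization.of y, 1, ?_⟩⟩
    intro h
    apply hy
    rw [← Abelianization.ker_of, MonoidHom.mem_ker]
    exact h
  have hcard : Nat.card (Abelianization H) ≠ 1 := by
    intro h
    have := (Nat.card_eq_one_iff_unique.1 h).1
    exact not_subsingleton _ this
  obtain ⟨t, ht, hdvd⟩ := Nat.exists_prime_and_dvd hcard
  refine ⟨t, ht, ?_⟩
  have : Fact t.Prime := ⟨ht⟩
  obtain ⟨a, ha⟩ := exists_prime_orderOf_dvd_card' t hdvd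
  intro htop
  let f : Abelianization H →* Abelianization H := powMonoidHom t
  have hsurj : Function.Surjective f := by
    intro b
    obtain ⟨y, rfl⟩ := QuotientGroup.mk'_surjective (commutator H) b
    have hy : y ∈ Subgroup.closure {x : H | ∃ z : H, x = z ^ t} := by rw [htop]; trivial
    have : Abelianization.of y ∈ f.range := by
      induction hy using Subgroup.closure_induction with
      | mem x hx =>
        obtain ⟨z, rfl⟩ := hx
        exact ⟨Abelianization.of z, by simp [f]⟩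
      | one => exact ⟨1, by simp⟩
      | mul x y _ _ hx hy => rw [map_mul]; exact f.range.mul_mem hx hy
      | inv x _ hx => rw [map_inv]; exact f.range.inv_mem hx
    exact this
  have hinj : Function.Injective f := Finite.injective_iff_surjective.2 hsurj
  have h2 : f a = f 1 := by
    show a ^ t = 1 ^ t
    rw [← ha, pow_orderOf_eq_one, one_pow]
  have h3 := hinj h2
  rw [h3, orderOf_one] at ha
  exact ht.ne_one ha.symm

end powers

section commsup

variable {G : Type*} [Group G]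

open scoped commutatorElement in
/-- `[A ⊔ B, C] ≤ M` when `A, B, C` normalize `M` and `[A, C], [B, C] ≤ M` -/
theorem commutator_sup_le_of_le_normalizer {A B C M : Subgroup G}
    (hA : A ≤ Subgroup.normalizer (M : Set G)) (hB : B ≤ Subgroup.normalizer (M : Set G))
    (h1 : ⁅A, C⁆ ≤ M) (h2 : ⁅B, C⁆ ≤ M) : ⁅A ⊔ B, C⁆ ≤ M := by
  let K : Subgroup G :=
    { carrier := {x | x ∈ Subgroup.normalizer (M : Set G) ∧ ∀ c ∈ C, ⁅x, c⁆ ∈ M}
      mul_mem' := by
        rintro x y ⟨hx, hx1⟩ ⟨hy, hy1⟩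
        refine ⟨Subgroup.mul_mem _ hx hy, ?_⟩
        intro c hc
        rw [commutatorElement_mul_left']
        exact M.mul_mem ((Subgroup.mem_normalizer_iff.1 hx _).1 (hy1 c hc)) (hx1 c hc)
      one_mem' := by
        refine ⟨Subgroup.one_mem _, ?_⟩
        intro c _
        rw [commutatorElement_one_left]
        exact M.one_mem
      inv_mem' := by
        rintro x ⟨hx, hx1⟩
        refine ⟨Subgroup.inv_mem _ hx, ?_⟩
        intro c hc
        have e : ⁅x⁻¹, c⁆ = x⁻¹ * (⁅x, c⁆)⁻¹ * x⁻¹⁻¹ := by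
          rw [commutatorElement_def, commutatorElement_def]; group
        rw [e]
        exact (Subgroup.mem_normalizer_iff.1 (Subgroup.inv_mem _ hx) _).1 (M.inv_mem (hx1 c hc)) }
  have hAK : A ≤ K := by
    intro a ha
    exact ⟨hA ha, fun c hc => h1 (Subgroup.commutator_mem_commutator ha hc)⟩
  have hBK : B ≤ K := by
    intro b hb
    exact ⟨hB hb, fun c hc => h2 (Subgroup.commutator_mem_commutator hb hc)⟩
  rw [Subgroup.commutator_le]
  intro x hx c hc
  exact ((sup_le hAK hBK) hx).2 c hc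

open scoped commutatorElement in
theorem le_normalizer_of_commutator_le' {A B : Subgroup G} (h : ⁅A, B⁆ ≤ B) :
    A ≤ Subgroup.normalizer (B : Set G) := by
  intro a ha
  rw [Subgroup.mem_normalizer_iff]
  intro b
  constructor
  · intro hb
    have h1 : ⁅a, b⁆ ∈ B := h (Subgroup.commutator_mem_commutator ha hb)
    have e : a * b * a⁻¹ = ⁅a, b⁆ * b := by rw [commutatorElement_def]; group
    rw [e]
    exact B.mul_mem h1 hb
  · intro hb
    have h1 : ⁅a⁻¹, a * b * a⁻¹⁆ ∈ B :=
      h (Subgroup.commutator_mem_commutator (A.inv_mem ha) hb)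
    have e : b = ⁅a⁻¹, a * b * a⁻¹⁆ * (a * b * a⁻¹) := by rw [commutatorElement_def]; group
    rw [e]
    exact B.mul_mem h1 hb

end commsup

end Cfsg.Agent.Lib.Helper55
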