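import Mathlib
import Cfsg.Prelude.Def_Solvable
import Cfsg.Agent.Lib.Helper72.G42Defs

/-!
# K-G42 pack (S2553), leaf 255303 L3a: a perfect minimal normal subgroup.
-/

set_option autoImplicit false
set_option linter.unusedSectionVars false
set_option linter.style.haveILetI false
set_option linter.unusedVariables false

namespace Cfsg.Agent.Lib.Helper55.G42

open Cfsg.Agent.Lib.Helper72.G42

theorem l3a_map_conj_le {G : Type*} [Group G] {K N : Subgroup G} (h : NormalizedBy K N) {k : G}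
    (hk : k ∈ K) : N.map (MulAut.conj k).toMonoidHom ≤ N := by
  rintro x ⟨n, hn, rfl⟩
  simpa using h k hk n hn

theorem l3a_normalizedBy_commutator {G : Type*} [Group G] {K N : Subgroup G}
    (h : NormalizedBy K N) : NormalizedBy K ⁅N, N⁆ := by
  intro k hk m hm
  have h1 : (⁅N, N⁆).map (MulAut.conj k).toMonoidHom ≤ ⁅N, N⁆ := by
    rw [Subgroup.map_commutator]
    exact Subgroup.commutator_mono (l3a_map_conj_le h hk) (l3a_map_conj_le h hk)
  have := h1 (Subgroup.mem_map_of_mem _ hm)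
  simpa using this

theorem l3a_commutator_le_self {G : Type*} [Group G] (N : Subgroup G) : ⁅N, N⁆ ≤ N := by
  rw [Subgroup.commutator_le]
  intro a ha b hb
  exact N.mul_mem (N.mul_mem (N.mul_mem ha hb) (N.inv_mem ha)) (N.inv_mem hb)

theorem l3a_solvable_of_commutator_eq_bot {G : Type*} [Group G] (N : Subgroup G)
    (h : ⁅N, N⁆ = ⊥) : Group.IsSolvable ↥N := by
  rw [Subgroup.commutator_eq_bot_iff_le_centralizer] at h
  apply Group.isSolvable_of_comm
  intro a b
  apply Subtype.ext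
  have := (Subgroup.mem_centralizer_iff.mp (h a.2)) b.1 b.2
  simpa using this.symm

theorem exists_minNormal_perfect (K : Subgroup (Equiv.Perm (Fin 8))) (hK : K ≠ ⊥)
    (hsolv : ∀ M : Subgroup (Equiv.Perm (Fin 8)), M ≤ K → NormalizedBy K M → Group.IsSolvable ↥M → M = ⊥) :
    ∃ N : Subgroup (Equiv.Perm (Fin 8)), N ≤ K ∧ NormalizedBy K N ∧ N ≠ ⊥ ∧ ⁅N, N⁆ = N ∧
      ∀ M : Subgroup (Equiv.Perm (Fin 8)), M ≤ N → NormalizedBy K M → M = ⊥ ∨ M = N := by
  classical
  let S : Set (Subgroup (Equiv.Perm (Fin 8))) := {N | N ≤ K ∧ NormalizedBy K N ∧ N ≠ ⊥}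
  have hS : S.Nonempty :=
    ⟨K, le_rfl, fun k hk m hm => K.mul_mem (K.mul_mem hk hm) (K.inv_mem hk), hK⟩
  obtain ⟨N, hNS, hmin⟩ :=
    WellFounded.has_min (measure (fun N : Subgroup (Equiv.Perm (Fin 8)) => Nat.card N)).wf S hS
  obtain ⟨hNK, hNn, hN1⟩ := hNS
  have hminimal : ∀ M : Subgroup (Equiv.Perm (Fin 8)), M ≤ N → NormalizedBy K M → M = ⊥ ∨ M = N := by
    intro M hMN hMn
    by_cases hM : M = ⊥
    · exact Or.inl hM
    · right
      have hMS : M ∈ S := ⟨hMN.trans hNK, hMn, hM⟩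
      have h1 : ¬ (Nat.card M < Nat.card N) := hmin M hMS
      exact Subgroup.eq_of_le_of_card_ge hMN (not_lt.mp h1)
  refine ⟨N, hNK, hNn, hN1, ?_, hminimal⟩
  rcases hminimal ⁅N, N⁆ (l3a_commutator_le_self N) (l3a_normalizedBy_commutator hNn) with h | h
  · exact absurd (hsolv N hNK hNn (l3a_solvable_of_commutator_eq_bot N h)) hN1
  · exact h

end Cfsg.Agent.Lib.Helper55.G42
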