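import Cfsg.Agent.Lib.Helper55.PMinComp
import Cfsg.Agent.Lib.Helper55.ClassTwo
import Cfsg.Agent.Lib.Helper54.FStarSub
import Cfsg.Agent.Lib.Helper54.Quot
import Cfsg.Agent.S2827
import Cfsg.Agent.S2831

set_option autoImplicit false
set_option linter.unusedSectionVars false
set_option linter.unusedVariables false

namespace Cfsg.Agent.Lib.Helper55

open Cfsg

section mcb

variable {G : Type*} [Group G] [Finite G] {p : ℕ} [Fact p.Prime]

/-- McBride's lemma inside a subgroup `K` with Sylow `p`-subgroup `T` -/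
theorem mcbride_sub {K T W : Subgroup G} (hT : IsSylowIn p K T) (hTW : T ≤ W)
    (hN : K ⊓ Subgroup.normalizer (T : Set G) ≤ W)
    (hP : ∀ P' : Subgroup G, T ≤ P' → P' ≤ K → IsPMinimal p ↥P' → P' ≤ W) : K ≤ W := by
  intro k hk
  obtain ⟨x, hx, y, hy, hxy⟩ := Helper53.frattini_pElementClosure (hT.toSylow) (⟨k, hk⟩ : ↥K)
  rw [← Helper53.mcbride (hT.toSylow)] at hx
  have h1 : (Helper53.mcb p ((hT.toSylow : Sylow p ↥K) : Subgroup ↥K)).map K.subtype ≤ W := by
    rw [Subgroup.map_le_iff_le_comap]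
    apply Helper53.mcb_le
    · rw [← Subgroup.map_le_iff_le_comap, hT.map_toSylow]
      exact hTW
    · intro P' hTP' hP'
      rw [← Subgroup.map_le_iff_le_comap]
      apply hP
      · rw [← hT.map_toSylow]
        exact Subgroup.map_mono hTP'
      · exact Subgroup.map_subtype_le _
      · exact Helper53.isPMinimal_of_equiv
          (P'.equivMapOfInjective K.subtype K.subtype_injective) hP'
  have h2 : (x : G) ∈ W := h1 ⟨x, hx, rfl⟩
  have h3 : (y : G) ∈ W := by
    apply hN
    refine ⟨y.2, ?_⟩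
    have h4 : (y : G) ∈ (Subgroup.normalizer
        (((hT.toSylow : Sylow p ↥K) : Subgroup ↥K) : Set ↥K)).map K.subtype := ⟨y, hy, rfl⟩
    have h5 := Subgroup.le_normalizer_map K.subtype h4
    rwa [hT.map_toSylow] at h5
  have h6 : k = (x : G) * (y : G) := by
    have := congrArg (fun z : ↥K => (z : G)) hxy
    simpa using this
  rw [h6]
  exact W.mul_mem h2 h3

end mcb

section iso

variable {G : Type*} [Group G] [Finite G] {p : ℕ} [Fact p.Prime]

/-- the setting of an isolated `p`-minimal subgroup `P` over the Sylow `p`-subgroup `S` -/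
structure Iso (p : ℕ) (S : Sylow p G) (P L : Subgroup G) : Prop where
  hSP : (S : Subgroup G) ≤ P
  hPmin : IsPMinimal p ↥P
  hNL : Subgroup.normalizer ((S : Subgroup G) : Set G) ≤ L
  hPL : ∀ P' : Subgroup G, (S : Subgroup G) ≤ P' → IsPMinimal p ↥P' → P' ≠ P → P' ≤ L
  hiso : ¬ pCoreOf p L ≤ pCoreOf p P

variable {S : Sylow p G} {P L : Subgroup G}

omit [Finite G] [Fact p.Prime] in
theorem Iso.S_le_L (h : Iso p S P L) : (S : Subgroup G) ≤ L :=
  Subgroup.le_normalizer.trans h.hNL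

omit [Finite G] in
theorem Iso.Q_le_S (h : Iso p S P L) : pCoreOf p L ≤ S :=
  sylow_le_pCoreOf_sup S h.S_le_L

omit [Finite G] in
theorem Iso.not_P_le_L (h : Iso p S P L) : ¬ P ≤ L := by
  intro hPL
  apply h.hiso
  apply le_pCoreOf (h.Q_le_S.trans h.hSP) (hPL.trans (le_normalizer_pCoreOf L))
    (isPGroup_pCoreOf L)

theorem Iso.P_le (h : Iso p S P L) : P ≤ pResOf p P ⊔ (S : Subgroup G) :=
  le_pResOf_sup_of_isSylowIn (isSylowIn_of_sylow_le S h.hSP)

theorem Iso.not_O_le_L (h : Iso p S P L) : ¬ pResOf p P ≤ L := by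
  intro hO
  exact h.not_P_le_L (h.P_le.trans (sup_le hO h.S_le_L))

/-- a subgroup `K` over `S` lies in `W` as soon as `W` contains `O^p(P)`, `S` and `L ⊓ K` -/
theorem Iso.le_of_mcbride (h : Iso p S P L) {K W : Subgroup G} (hSK : (S : Subgroup G) ≤ K)
    (hOW : pResOf p P ≤ W) (hSW : (S : Subgroup G) ≤ W) (hLW : L ⊓ K ≤ W) : K ≤ W := by
  apply mcbride_sub (isSylowIn_of_sylow_le S hSK) hSW
  · intro x hx
    exact hLW ⟨h.hNL hx.2, hx.1⟩
  · intro P' hSP' hP'K hP'
    by_cases hPP : P' = P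
    · rw [hPP]
      exact h.P_le.trans (sup_le hOW hSW)
    · exact (le_inf (h.hPL P' hSP' hP' hPP) hP'K).trans hLW

theorem Iso.top_le (h : Iso p S P L) : (⊤ : Subgroup G) ≤ pResOf p P ⊔ L :=
  h.le_of_mcbride le_top le_sup_left (h.S_le_L.trans le_sup_right)
    (inf_le_left.trans le_sup_right)

/-- a `p`-minimal group is minimal over its Sylow `p`-subgroups -/
theorem isMinimalOver_of_isPMinimal {H : Type*} [Group H] [Finite H] (hH : IsPMinimal p H)
    (T : Sylow p H) : IsMinimalOver (T : Subgroup H) := by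
  refine ⟨?_, (hH T).2⟩
  obtain ⟨hTn, M, ⟨hM, hTM⟩, huniq⟩ := hH T
  by_contra hne
  have hC : (Subgroup.normalClosure ((T : Subgroup H) : Set H)).Normal :=
    Subgroup.normalClosure_normal
  have hTC : (T : Subgroup H) ≤ Subgroup.normalClosure ((T : Subgroup H) : Set H) :=
    Subgroup.le_normalClosure
  obtain ⟨M₁, hM₁, hCM₁⟩ := (eq_top_or_exists_le_coatom _).resolve_left hne
  have hNne : Subgroup.normalizer ((T : Subgroup H) : Set H) ≠ ⊤ := by
    intro h
    exact hTn (Subgroup.normalizer_eq_top_iff.mp h)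
  obtain ⟨M₂, hM₂, hNM₂⟩ := (eq_top_or_exists_le_coatom _).resolve_left hNne
  have e1 : M₁ = M := huniq M₁ ⟨hM₁, hTC.trans hCM₁⟩
  have e2 : M₂ = M := huniq M₂ ⟨hM₂, Subgroup.le_normalizer.trans hNM₂⟩
  have h1 := Sylow.normalizer_sup_eq_top' T hTC
  have : (⊤ : Subgroup H) ≤ M := by
    rw [← h1]
    exact sup_le (e2 ▸ hNM₂) (e1 ▸ hCM₁)
  exact hM.1 (top_le_iff.mp this)

theorem Iso.comm_O_Q (h : Iso p S P L) : ⁅pResOf p P, pCoreOf p L⁆ = pResOf p P := by
  have hS := isSylowIn_of_sylow_le S h.hSP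
  have hmin := isMinimalOver_of_isPMinimal h.hPmin hS.toSylow
  have hirr := Cfsg.Agent.S2831.result hS.toSylow hmin
  have key := (Cfsg.Agent.S2827.result hirr hS.toSylow).2.2.2 ((pCoreOf p L).subgroupOf P)
  have hQP : pCoreOf p L ≤ P := h.Q_le_S.trans h.hSP
  have h1 : (pCoreOf p L).subgroupOf P ≤ ((hS.toSylow : Sylow p ↥P) : Subgroup ↥P) := by
    rw [hS.coe_toSylow]
    intro x hx
    rw [Subgroup.mem_subgroupOf] at hx ⊢
    exact h.Q_le_S hx
  have h2 : ((hS.toSylow : Sylow p ↥P) : Subgroup ↥P) ≤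
      Subgroup.normalizer (((pCoreOf p L).subgroupOf P : Subgroup ↥P) : Set ↥P) := by
    rw [hS.coe_toSylow]
    intro x hx
    rw [Subgroup.mem_subgroupOf] at hx
    have h3 : (x : G) ∈ Subgroup.normalizer ((pCoreOf p L : Subgroup G) : Set G) :=
      (le_normalizer_pCoreOf L) (h.S_le_L hx)
    have h4 : x ∈ (Subgroup.normalizer ((pCoreOf p L : Subgroup G) : Set G)).comap P.subtype := h3
    exact Subgroup.le_normalizer_comap P.subtype h4
  have h3 : ¬ (pCoreOf p L).subgroupOf P ≤ pCore p ↥P := by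
    intro hle
    apply h.hiso
    have := Subgroup.map_mono (f := P.subtype) hle
    rwa [Subgroup.map_subgroupOf_eq_of_le hQP] at this
  have h4 := (key h1 h2 h3).1
  have h5 := congrArg (Subgroup.map P.subtype) h4
  rw [Subgroup.map_commutator, Subgroup.map_subgroupOf_eq_of_le hQP] at h5
  exact h5

/-- `O^p(N S) ≤ N` -/
theorem pResOf_sup_sylow_le {N : Subgroup G} (hN : N.Normal) (S : Sylow p G) :
    pResOf p (N ⊔ (S : Subgroup G)) ≤ N :=
  pResOf_le_of_sup rfl (le_normalizer_of_normal' hN _) S.isPGroup'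

/-- every normal subgroup contains `O^p(P)` or lies in `L` -/
theorem Iso.dichotomy (h : Iso p S P L) {N : Subgroup G} (hN : N.Normal) :
    pResOf p P ≤ N ∨ N ≤ L := by
  by_cases hP : P ≤ N ⊔ (S : Subgroup G)
  · left
    exact (pResOf_mono p hP).trans (pResOf_sup_sylow_le hN S)
  · right
    apply le_sup_left.trans
    apply mcbride_sub (isSylowIn_of_sylow_le S (le_sup_right : (S : Subgroup G) ≤ N ⊔ S))
      h.S_le_L
    · intro x hx
      exact h.hNL hx.2
    · intro P' hSP' hP'K hP'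
      apply h.hPL P' hSP' hP'
      intro hPP
      exact hP (hPP ▸ hP'K)

omit [Finite G] in
theorem pCoreOf_normal_of_normal {N : Subgroup G} (hN : N.Normal) : (pCoreOf p N).Normal := by
  rw [← Subgroup.normalizer_eq_top_iff, eq_top_iff]
  intro g _
  rw [← cj_eq_self_iff, ← pCoreOf_cj, cj_eq_self_of_normal hN]

omit [Finite G] in
theorem pCoreOf_le_pCoreOf_of_normal {N Y : Subgroup G} (hN : N.Normal) (hNY : N ≤ Y) :
    pCoreOf p N ≤ pCoreOf p Y := by
  have := pCoreOf_normal_of_normal (p := p) hN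
  exact le_pCoreOf ((pCoreOf_le N).trans hNY) (le_normalizer_of_normal' this Y)
    (isPGroup_pCoreOf N)

omit [Finite G] in
theorem pCoreOf_le_pCore_of_normal {N : Subgroup G} (hN : N.Normal) :
    pCoreOf p N ≤ pCore p G :=
  le_pCore (pCoreOf_normal_of_normal hN) (isPGroup_pCoreOf N)

omit [Finite G] in
/-- normal subgroups inside `L` are centralized by `O_p(L)` modulo their `p`-core -/
theorem commutator_pCoreOf_le {N L : Subgroup G} (hN : N.Normal) (hNL : N ≤ L) :
    ⁅N, pCoreOf p L⁆ ≤ pCoreOf p N := by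
  have h1 : ⁅N, pCoreOf p L⁆ ≤ N := by
    have := hN
    exact Subgroup.commutator_le_left N _
  have h2 : ⁅N, pCoreOf p L⁆ ≤ pCoreOf p L := by
    rw [Subgroup.commutator_comm]
    exact commutator_le_of_le_normalizer (hNL.trans (le_normalizer_pCoreOf L))
  have h3 : N ⊓ pCoreOf p L ≤ pCoreOf p N := by
    apply le_pCoreOf inf_le_left
    · exact (le_inf Subgroup.le_normalizer (hNL.trans (le_normalizer_pCoreOf L))).trans
        Subgroup.inf_normalizer_le_normalizer_inf
    · exact (isPGroup_pCoreOf L).to_le inf_le_right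
  exact (le_inf h1 h2).trans h3

/-- first part: `O^p(P)` lies in the preimage of `F*(G/O_p(G))` -/
theorem Iso.part1 (h : Iso p S P L) [hn : (pCore p G).Normal] :
    pResOf p P ≤ (generalizedFittingSubgroup (G ⧸ pCore p G)).comap
      (QuotientGroup.mk' (pCore p G)) := by
  obtain ⟨F, hF⟩ : ∃ F, F = (generalizedFittingSubgroup (G ⧸ pCore p G)).comap
      (QuotientGroup.mk' (pCore p G)) := ⟨_, rfl⟩
  rw [← hF]
  have hFn : F.Normal := by
    rw [hF]
    exact Subgroup.Normal.comap inferInstance _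
  rcases h.dichotomy hFn with h1 | h1
  · exact h1
  · exfalso
    have h2 : ⁅F, pCoreOf p L⁆ ≤ pCore p G :=
      (commutator_pCoreOf_le hFn h1).trans (pCoreOf_le_pCore_of_normal hFn)
    have hsurj : Function.Surjective (QuotientGroup.mk' (pCore p G)) :=
      QuotientGroup.mk'_surjective _
    have h3 : F.map (QuotientGroup.mk' (pCore p G)) =
        generalizedFittingSubgroup (G ⧸ pCore p G) := by
      rw [hF]
      exact Subgroup.map_comap_eq_self_of_surjective hsurj _
    have h4 : ⁅generalizedFittingSubgroup (G ⧸ pCore p G),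
        (pCoreOf p L).map (QuotientGroup.mk' (pCore p G))⁆ = ⊥ := by
      rw [← h3, ← Subgroup.map_commutator, eq_bot_iff]
      intro x hx
      obtain ⟨y, hy, rfl⟩ := hx
      rw [Subgroup.mem_bot]
      exact (QuotientGroup.eq_one_iff y).2 (h2 hy)
    have h5 : (pCoreOf p L).map (QuotientGroup.mk' (pCore p G)) ≤
        Subgroup.centralizer ((generalizedFittingSubgroup (G ⧸ pCore p G) :
          Subgroup (G ⧸ pCore p G)) : Set (G ⧸ pCore p G)) := by
      rw [Subgroup.commutator_comm] at h4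
      exact Subgroup.commutator_eq_bot_iff_le_centralizer.1 h4
    have h6 : pCore p (G ⧸ pCore p G) = ⊥ := by
      rw [Helper54.pCore_quotient_of_isPGroup (pCore p G) isPGroup_pCore, eq_bot_iff]
      rintro x ⟨y, hy, rfl⟩
      rw [Subgroup.mem_bot]
      exact (QuotientGroup.eq_one_iff y).2 hy
    have h7 := Helper54.eq_bot_of_le_centralizer_genFitting h6
      ((isPGroup_pCoreOf L).map (QuotientGroup.mk' (pCore p G))) h5
    have h8 : pCoreOf p L ≤ pCore p G := by
      intro x hx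
      have : QuotientGroup.mk' (pCore p G) x ∈
          (pCoreOf p L).map (QuotientGroup.mk' (pCore p G)) := Subgroup.mem_map_of_mem _ hx
      rw [h7, Subgroup.mem_bot] at this
      exact (QuotientGroup.eq_one_iff x).1 this
    apply h.hiso
    apply h8.trans
    have h9 : pCore p G ≤ (S : Subgroup G) := by
      have := pCore_normal (p := p) (G := G)
      exact (isPGroup_pCore (p := p) (G := G)).le_sylow_of_normal S
    exact le_pCoreOf (h9.trans h.hSP) (le_normalizer_of_normal' pCore_normal P) isPGroup_pCore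

end iso

section part2

variable {G : Type*} [Group G] [Finite G] {p : ℕ} [Fact p.Prime]

/-- the largest normal subgroup of `G` inside `Y` centralized by `O_p(L)` modulo `O_p(Y)` -/
def isoN (p : ℕ) (L Y : Subgroup G) : Subgroup G :=
  sSup {N' : Subgroup G | N'.Normal ∧ N' ≤ Y ∧ ⁅N', pCoreOf p L⁆ ≤ pCoreOf p Y}

omit [Finite G] [Fact p.Prime] in
theorem isoN_normal (L Y : Subgroup G) : (isoN p L Y).Normal :=
  Subgroup.sSup_normal _ (fun _ hH => hH.1)

omit [Finite G] [Fact p.Prime] in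
theorem isoN_le (L Y : Subgroup G) : isoN p L Y ≤ Y :=
  sSup_le (fun _ hH => hH.2.1)

omit [Finite G] in
theorem comm_isoN (L : Subgroup G) {Y : Subgroup G} (hYn : Y.Normal) :
    ⁅isoN p L Y, pCoreOf p L⁆ ≤ pCoreOf p Y := by
  have := pCoreOf_normal_of_normal (p := p) hYn
  rw [Subgroup.commutator_comm]
  apply commutator_sSup_le
  intro B hB
  rw [Subgroup.commutator_comm]
  exact hB.2.2

variable {S : Sylow p G} {P L Y : Subgroup G}

theorem Iso.le_of_normal (h : Iso p S P L)
    (hY : Y = Subgroup.normalClosure ((pResOf p P : Subgroup G) : Set G)) {N' : Subgroup G}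
    (hN' : N'.Normal) (hO : pResOf p P ≤ N') : Y ≤ N' := by
  rw [hY]
  have := hN'
  exact Subgroup.normalClosure_le_normal hO

theorem Iso.O_le_Y (h : Iso p S P L)
    (hY : Y = Subgroup.normalClosure ((pResOf p P : Subgroup G) : Set G)) : pResOf p P ≤ Y := by
  rw [hY]
  exact Subgroup.le_normalClosure

theorem Iso.Y_normal (h : Iso p S P L)
    (hY : Y = Subgroup.normalClosure ((pResOf p P : Subgroup G) : Set G)) : Y.Normal := by
  rw [hY]
  exact Subgroup.normalClosure_normal

theorem Iso.le_isoN (h : Iso p S P L)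
    (hY : Y = Subgroup.normalClosure ((pResOf p P : Subgroup G) : Set G)) {N' : Subgroup G}
    (hN' : N'.Normal) (hle : N' ≤ Y) (hne : N' ≠ Y) : N' ≤ isoN p L Y := by
  apply le_sSup
  refine ⟨hN', hle, ?_⟩
  rcases h.dichotomy hN' with h1 | h1
  · exact absurd (le_antisymm hle (h.le_of_normal hY hN' h1)) hne
  · exact (commutator_pCoreOf_le hN' h1).trans (pCoreOf_le_pCoreOf_of_normal hN' hle)

theorem Iso.R_le_L (h : Iso p S P L) {Y : Subgroup G} (hYn : Y.Normal) : pCoreOf p Y ≤ L := by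
  have h9 : pCore p G ≤ (S : Subgroup G) := by
    have := pCore_normal (p := p) (G := G)
    exact (isPGroup_pCore (p := p) (G := G)).le_sylow_of_normal S
  exact (pCoreOf_le_pCore_of_normal hYn).trans (h9.trans h.S_le_L)

theorem Iso.isoN_ne (h : Iso p S P L)
    (hY : Y = Subgroup.normalClosure ((pResOf p P : Subgroup G) : Set G)) :
    isoN p L Y ≠ Y := by
  intro heq
  have hYn := h.Y_normal hY
  have h1 := comm_isoN (p := p) L hYn
  rw [heq] at h1
  apply h.not_O_le_L
  rw [← h.comm_O_Q]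
  exact ((Subgroup.commutator_mono (h.O_le_Y hY) le_rfl).trans h1).trans (h.R_le_L hYn)

/-- `Y = [Y, O_p(L)]` -/
theorem Iso.Y_le_comm (h : Iso p S P L)
    (hY : Y = Subgroup.normalClosure ((pResOf p P : Subgroup G) : Set G)) :
    Y ≤ ⁅Y, pCoreOf p L⁆ := by
  have hYn := h.Y_normal hY
  have hO : pResOf p P ≤ ⁅Y, pCoreOf p L⁆ := by
    conv_lhs => rw [← h.comm_O_Q]
    exact Subgroup.commutator_mono (h.O_le_Y hY) le_rfl
  have hL : L ≤ Subgroup.normalizer ((⁅Y, pCoreOf p L⁆ : Subgroup G) : Set G) :=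
    le_normalizer_commutator' (le_normalizer_of_normal' hYn L) (le_normalizer_pCoreOf L)
  have hn : (⁅Y, pCoreOf p L⁆).Normal := by
    rw [← Subgroup.normalizer_eq_top_iff, eq_top_iff]
    exact h.top_le.trans (sup_le (hO.trans Subgroup.le_normalizer) hL)
  exact h.le_of_normal hY hn hO

theorem Iso.O_ne_bot (h : Iso p S P L) : pResOf p P ≠ ⊥ := by
  intro h0
  apply h.not_O_le_L
  rw [h0]
  exact bot_le

theorem Iso.derived_le (h : Iso p S P L)
    (hY : Y = Subgroup.normalClosure ((pResOf p P : Subgroup G) : Set G))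
    (hsolv : Group.IsSolvable ↥Y) : ⁅Y, Y⁆ ≤ isoN p L Y := by
  have hYn := h.Y_normal hY
  have hn : (⁅Y, Y⁆).Normal := Subgroup.commutator_normal Y Y
  apply h.le_isoN hY hn (Subgroup.commutator_le_left Y Y)
  intro heq
  have h1 : commutator ↥Y = ⊤ := commutator_top_of_perfect heq
  have hnt : Nontrivial ↥Y := by
    rw [Subgroup.nontrivial_iff_ne_bot]
    intro h0
    apply h.O_ne_bot
    rw [eq_bot_iff, ← h0]
    exact h.O_le_Y hY
  exact (Group.IsSolvable.commutator_lt_top_of_nontrivial ↥Y).ne h1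

/-- `N` is central in `Y` modulo `O_p(Y)` -/
theorem Iso.comm_N_Y (h : Iso p S P L)
    (hY : Y = Subgroup.normalClosure ((pResOf p P : Subgroup G) : Set G)) :
    ⁅Y, isoN p L Y⁆ ≤ pCoreOf p Y := by
  have hYn := h.Y_normal hY
  have hRn : (pCoreOf p Y).Normal := pCoreOf_normal_of_normal hYn
  have hNn : (isoN p L Y).Normal := isoN_normal L Y
  have hNQ := comm_isoN (p := p) L hYn
  rw [← le_centMod_iff]
  have hCn : (centMod (pCoreOf p Y) (isoN p L Y)).Normal := centMod_normal _ hNn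
  apply h.le_of_normal hY hCn
  rw [le_centMod_iff]
  have h1 : ⁅⁅pCoreOf p L, Y⁆, isoN p L Y⁆ ≤ pCoreOf p Y := by
    apply three_subgroups_mod
    · have : ⁅Y, isoN p L Y⁆ ≤ isoN p L Y := Subgroup.commutator_le_right Y _
      exact (Subgroup.commutator_mono this le_rfl).trans hNQ
    · exact (Subgroup.commutator_mono hNQ le_rfl).trans (Subgroup.commutator_le_left _ Y)
  refine le_trans ?_ h1
  apply Subgroup.commutator_mono _ le_rfl
  conv_lhs => rw [← h.comm_O_Q]
  rw [Subgroup.commutator_comm]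
  exact Subgroup.commutator_mono le_rfl (h.O_le_Y hY)

theorem Iso.S_le_normalizer_O (h : Iso p S P L) :
    (S : Subgroup G) ≤ Subgroup.normalizer ((pResOf p P : Subgroup G) : Set G) :=
  (h.hSP.trans Subgroup.le_normalizer).trans (normalizer_le_normalizer_pResOf p P)

/-- `Y = ⟨O^p(P), L ∩ Y⟩` -/
theorem Iso.Y_le_sup (h : Iso p S P L)
    (hY : Y = Subgroup.normalClosure ((pResOf p P : Subgroup G) : Set G)) :
    Y ≤ pResOf p P ⊔ (L ⊓ Y) := by
  have hYn := h.Y_normal hY
  have hSY : (S : Subgroup G) ≤ Subgroup.normalizer (Y : Set G) := le_normalizer_of_normal' hYn _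
  have h1 : Y ⊔ (S : Subgroup G) ≤ (pResOf p P ⊔ (L ⊓ Y)) ⊔ (S : Subgroup G) := by
    apply h.le_of_mcbride le_sup_right (le_sup_left.trans le_sup_left) le_sup_right
    intro x hx
    obtain ⟨y, hy, s, hs, rfl⟩ := Helper54.exists_mul_of_mem_sup_of_le_normalizer hSY hx.2
    have hyL : y ∈ L := by
      have := L.mul_mem hx.1 (L.inv_mem (h.S_le_L hs))
      rwa [mul_assoc, mul_inv_cancel, mul_one] at this
    exact Subgroup.mul_mem _ ((le_sup_left : _ ≤ (pResOf p P ⊔ (L ⊓ Y)) ⊔ (S : Subgroup G))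
      ((le_sup_right : L ⊓ Y ≤ pResOf p P ⊔ (L ⊓ Y)) ⟨hyL, hy⟩))
      ((le_sup_right : _ ≤ (pResOf p P ⊔ (L ⊓ Y)) ⊔ (S : Subgroup G)) hs)
  have hSn : (S : Subgroup G) ≤ Subgroup.normalizer ((pResOf p P ⊔ (L ⊓ Y) : Subgroup G) : Set G) := by
    apply le_normalizer_sup' h.S_le_normalizer_O
    exact (le_inf (h.S_le_L.trans Subgroup.le_normalizer) hSY).trans
      Subgroup.inf_normalizer_le_normalizer_inf
  intro y hy
  obtain ⟨a, ha, s, hs, rfl⟩ :=
    Helper54.exists_mul_of_mem_sup_of_le_normalizer hSn (h1 ((le_sup_left : Y ≤ Y ⊔ S) hy))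
  have haY : a ∈ Y := (sup_le (h.O_le_Y hY) inf_le_right) ha
  have hsY : s ∈ Y := by
    have := Y.mul_mem (Y.inv_mem haY) hy
    rwa [← mul_assoc, inv_mul_cancel, one_mul] at this
  exact Subgroup.mul_mem _ ha ((le_sup_right : L ⊓ Y ≤ pResOf p P ⊔ (L ⊓ Y))
    ⟨h.S_le_L hs, hsY⟩)

theorem Iso.isoN_le_L (h : Iso p S P L)
    (hY : Y = Subgroup.normalClosure ((pResOf p P : Subgroup G) : Set G)) :
    isoN p L Y ≤ L := by
  rcases h.dichotomy (isoN_normal (p := p) L Y) with h1 | h1
  · exact absurd (le_antisymm (isoN_le L Y) (h.le_of_normal hY (isoN_normal L Y) h1))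
      (h.isoN_ne hY)
  · exact h1

theorem Iso.Y_inf_Q_le (h : Iso p S P L)
    (hY : Y = Subgroup.normalClosure ((pResOf p P : Subgroup G) : Set G))
    (hder : ⁅Y, Y⁆ ≤ isoN p L Y) : Y ⊓ pCoreOf p L ≤ isoN p L Y := by
  have hYn := h.Y_normal hY
  obtain ⟨M₁, hM₁⟩ : ∃ M₁, M₁ = isoN p L Y ⊔ (Y ⊓ pCoreOf p L) := ⟨_, rfl⟩
  have hM₁Y : M₁ ≤ Y := by
    rw [hM₁]; exact sup_le (isoN_le L Y) inf_le_left
  have hYM : Y ≤ Subgroup.normalizer (M₁ : Set G) := by
    apply le_normalizer_of_commutator_le'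
    refine (Subgroup.commutator_mono le_rfl hM₁Y).trans (hder.trans ?_)
    rw [hM₁]; exact le_sup_left
  have hLM : L ≤ Subgroup.normalizer (M₁ : Set G) := by
    rw [hM₁]
    apply le_normalizer_sup' (le_normalizer_of_normal' (isoN_normal L Y) L)
    exact (le_inf (le_normalizer_of_normal' hYn L) (le_normalizer_pCoreOf L)).trans
      Subgroup.inf_normalizer_le_normalizer_inf
  have hn : M₁.Normal := by
    rw [← Subgroup.normalizer_eq_top_iff, eq_top_iff]
    exact h.top_le.trans (sup_le ((h.O_le_Y hY).trans hYM) hLM)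
  have hne : M₁ ≠ Y := by
    intro heq
    apply h.not_O_le_L
    apply (h.O_le_Y hY).trans
    rw [← heq, hM₁]
    exact sup_le (h.isoN_le_L hY) (inf_le_right.trans (pCoreOf_le L))
  have := h.le_isoN hY hn hM₁Y hne
  rw [hM₁] at this
  exact le_sup_right.trans this

theorem Iso.Y_le_O_sup_N (h : Iso p S P L)
    (hY : Y = Subgroup.normalClosure ((pResOf p P : Subgroup G) : Set G))
    (hder : ⁅Y, Y⁆ ≤ isoN p L Y) : Y ≤ pResOf p P ⊔ isoN p L Y := by
  have hYn := h.Y_normal hY
  have hMY : pResOf p P ⊔ isoN p L Y ≤ Y := sup_le (h.O_le_Y hY) (isoN_le L Y)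
  have hYM : Y ≤ Subgroup.normalizer ((pResOf p P ⊔ isoN p L Y : Subgroup G) : Set G) := by
    apply le_normalizer_of_commutator_le'
    exact (Subgroup.commutator_mono le_rfl hMY).trans (hder.trans le_sup_right)
  refine (h.Y_le_comm hY).trans ?_
  refine (Subgroup.commutator_mono (h.Y_le_sup hY) le_rfl).trans ?_
  apply commutator_sup_le_of_le_normalizer ((h.O_le_Y hY).trans hYM) (inf_le_right.trans hYM)
  · rw [h.comm_O_Q]; exact le_sup_left
  · refine le_trans ?_ ((h.Y_inf_Q_le hY hder).trans le_sup_right)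
    apply le_inf
    · have := hYn
      exact (Subgroup.commutator_mono inf_le_right le_rfl).trans (Subgroup.commutator_le_left Y _)
    · rw [Subgroup.commutator_comm]
      exact commutator_le_of_le_normalizer (inf_le_left.trans (le_normalizer_pCoreOf L))

theorem Iso.Y_le_O_sup_R (h : Iso p S P L)
    (hY : Y = Subgroup.normalClosure ((pResOf p P : Subgroup G) : Set G))
    (hder : ⁅Y, Y⁆ ≤ isoN p L Y) : Y ≤ pResOf p P ⊔ pCoreOf p Y := by
  have hYn := h.Y_normal hY
  have hMY : pResOf p P ⊔ pCoreOf p Y ≤ Y := sup_le (h.O_le_Y hY) (pCoreOf_le Y)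
  have hNM : isoN p L Y ≤
      Subgroup.normalizer ((pResOf p P ⊔ pCoreOf p Y : Subgroup G) : Set G) := by
    apply le_normalizer_of_commutator_le'
    rw [Subgroup.commutator_comm]
    exact ((Subgroup.commutator_mono hMY le_rfl).trans (h.comm_N_Y hY)).trans le_sup_right
  refine (h.Y_le_comm hY).trans ?_
  refine (Subgroup.commutator_mono (h.Y_le_O_sup_N hY hder) le_rfl).trans ?_
  apply commutator_sup_le_of_le_normalizer (le_sup_left.trans Subgroup.le_normalizer) hNM
  · rw [h.comm_O_Q]; exact le_sup_left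
  · exact (comm_isoN L hYn).trans le_sup_right

theorem Iso.O_eq_Y (h : Iso p S P L)
    (hY : Y = Subgroup.normalClosure ((pResOf p P : Subgroup G) : Set G))
    (hder : ⁅Y, Y⁆ ≤ isoN p L Y) : pResOf p P = Y := by
  have hYn := h.Y_normal hY
  apply le_antisymm (h.O_le_Y hY)
  have h1 : Y = pResOf p P ⊔ pCoreOf p Y :=
    le_antisymm (h.Y_le_O_sup_R hY hder) (sup_le (h.O_le_Y hY) (pCoreOf_le Y))
  have hRS : pCoreOf p Y ≤ (S : Subgroup G) := by
    have h9 : pCore p G ≤ (S : Subgroup G) := by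
      have := pCore_normal (p := p) (G := G)
      exact (isPGroup_pCore (p := p) (G := G)).le_sylow_of_normal S
    exact (pCoreOf_le_pCore_of_normal hYn).trans h9
  have h2 : pResOf p Y ≤ pResOf p P :=
    pResOf_le_of_sup h1 (hRS.trans h.S_le_normalizer_O) (isPGroup_pCoreOf Y)
  refine le_trans ?_ h2
  have hn : (pResOf p Y).Normal := by
    rw [← Subgroup.normalizer_eq_top_iff, eq_top_iff]
    exact (le_normalizer_of_normal' hYn ⊤).trans (normalizer_le_normalizer_pResOf p Y)
  apply h.le_of_normal hY hn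
  rw [← pResOf_pResOf p P]
  exact pResOf_mono p (h.O_le_Y hY)

theorem Iso.Y_nontrivial (h : Iso p S P L)
    (hY : Y = Subgroup.normalClosure ((pResOf p P : Subgroup G) : Set G)) : Nontrivial ↥Y := by
  rw [Subgroup.nontrivial_iff_ne_bot]
  intro h0
  apply h.O_ne_bot
  rw [eq_bot_iff, ← h0]
  exact h.O_le_Y hY

/-- `Y/N` has prime exponent -/
theorem Iso.exists_prime (h : Iso p S P L)
    (hY : Y = Subgroup.normalClosure ((pResOf p P : Subgroup G) : Set G))
    (hsolv : Group.IsSolvable ↥Y) :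
    ∃ t : ℕ, t.Prime ∧ ∀ y ∈ Y, y ^ t ∈ isoN p L Y := by
  have hYn := h.Y_normal hY
  have hnt := h.Y_nontrivial hY
  obtain ⟨t, ht, hne⟩ := exists_prime_powers_ne_top ↥Y
  refine ⟨t, ht, ?_⟩
  obtain ⟨Pw, hPw⟩ : ∃ Pw, Pw = Subgroup.closure {x : G | ∃ z ∈ Y, x = z ^ t} := ⟨_, rfl⟩
  have hPwY : Pw ≤ Y := by
    rw [hPw, Subgroup.closure_le]
    rintro x ⟨z, hz, rfl⟩
    exact Y.pow_mem hz t
  have hPwn : Pw.Normal := by
    constructor
    intro n hn g
    rw [hPw] at hn
    induction hn using Subgroup.closure_induction with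
    | mem x hx =>
      obtain ⟨z, hz, rfl⟩ := hx
      rw [hPw]
      apply Subgroup.subset_closure
      exact ⟨g * z * g⁻¹, hYn.conj_mem z hz g, (conj_pow).symm⟩
    | one => rw [mul_one, mul_inv_cancel]; exact Pw.one_mem
    | mul x y _ _ hx hy =>
      have e : g * (x * y) * g⁻¹ = (g * x * g⁻¹) * (g * y * g⁻¹) := by group
      rw [e]; exact Pw.mul_mem hx hy
    | inv x _ hx =>
      have e : g * x⁻¹ * g⁻¹ = (g * x * g⁻¹)⁻¹ := by group
      rw [e]; exact Pw.inv_mem hx
  have hPwne : Pw ≠ Y := by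
    intro heq
    apply hne
    rw [eq_top_iff]
    intro w _
    have hw : (w : G) ∈ Subgroup.closure {x : G | ∃ z ∈ Y, x = z ^ t} := by
      rw [← hPw, heq]; exact w.2
    have key : ∀ x : G, x ∈ Subgroup.closure {x : G | ∃ z ∈ Y, x = z ^ t} →
        ∀ hx : x ∈ Y, (⟨x, hx⟩ : ↥Y) ∈ Subgroup.closure {x : ↥Y | ∃ z : ↥Y, x = z ^ t} := by
      intro x hx
      induction hx using Subgroup.closure_induction with
      | mem x hx =>
        obtain ⟨z, hz, rfl⟩ := hx
        intro hx'
        apply Subgroup.subset_closure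
        exact ⟨⟨z, hz⟩, Subtype.ext rfl⟩
      | one =>
        intro _
        exact Subgroup.one_mem _
      | mul x y hx hy ihx ihy =>
        intro hxy
        have hxY : x ∈ Y := hPwY (by rw [hPw]; exact hx)
        have hyY : y ∈ Y := hPwY (by rw [hPw]; exact hy)
        have e : (⟨x * y, hxy⟩ : ↥Y) = ⟨x, hxY⟩ * ⟨y, hyY⟩ := Subtype.ext rfl
        rw [e]
        exact Subgroup.mul_mem _ (ihx hxY) (ihy hyY)
      | inv x hx ihx =>
        intro hxi
        have hxY : x ∈ Y := hPwY (by rw [hPw]; exact hx)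
        have e : (⟨x⁻¹, hxi⟩ : ↥Y) = (⟨x, hxY⟩ : ↥Y)⁻¹ := Subtype.ext rfl
        rw [e]
        exact Subgroup.inv_mem _ (ihx hxY)
    exact key w hw w.2
  have hle := h.le_isoN hY hPwn hPwY hPwne
  intro y hy
  apply hle
  rw [hPw]
  exact Subgroup.subset_closure ⟨y, hy, rfl⟩

open scoped commutatorElement in
/-- second part: if `Y` is solvable then `Y = O^p(P)` and `Y/O_p(Y)` is a `t`-group of class at
most two -/
theorem Iso.part2 (h : Iso p S P L)
    (hY : Y = Subgroup.normalClosure ((pResOf p P : Subgroup G) : Set G))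
    (hsolv : Group.IsSolvable ↥Y) :
    pResOf p P = Y ∧ ∃ _ : (pCore p ↥Y).Normal, ∃ t : ℕ, t.Prime ∧ t ≠ p ∧
      IsPGroup t (↥Y ⧸ pCore p ↥Y) ∧ ∃ _ : Group.IsNilpotent (↥Y ⧸ pCore p ↥Y),
        Group.nilpotencyClass (↥Y ⧸ pCore p ↥Y) ≤ 2 := by
  have hYn := h.Y_normal hY
  have hder := h.derived_le hY hsolv
  refine ⟨h.O_eq_Y hY hder, pCore_normal, ?_⟩
  obtain ⟨t, ht, hpow⟩ := h.exists_prime hY hsolv
  have hRn : (pCoreOf p Y).Normal := pCoreOf_normal_of_normal hYn
  have hNY : ⁅isoN p L Y, Y⁆ ≤ pCoreOf p Y := by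
    rw [Subgroup.commutator_comm]; exact h.comm_N_Y hY
  have hexp : ∀ y ∈ Y, y ^ (t * t) ∈ pCoreOf p Y := by
    apply exp_sq_mod (pCoreOf p Y) (isoN_le L Y) hder hNY hpow
    · rw [Subgroup.commutator_comm]; exact comm_isoN L hYn
    · exact le_normalizer_of_normal' hYn _
    · exact h.Y_le_comm hY
  have hmem : ∀ w : ↥Y, (w : G) ∈ pCoreOf p Y → w ∈ pCore p ↥Y := by
    intro w hw
    obtain ⟨v, hv, hvw⟩ := hw
    have : v = w := Subtype.ext hvw
    rwa [← this]
  refine ⟨t, ht, ?_, ?_, ?_⟩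
  · intro htp
    apply h.not_O_le_L
    apply (h.O_le_Y hY).trans
    have hYp : IsPGroup p ↥Y := by
      intro y
      have h1 := hexp (y : G) y.2
      obtain ⟨k, hk⟩ := (isPGroup_pCoreOf (p := p) Y) ⟨_, h1⟩
      refine ⟨2 + k, ?_⟩
      apply Subtype.ext
      have h2 := congrArg (fun z : ↥(pCoreOf p Y) => (z : G)) hk
      simp only [Subgroup.coe_pow, Subgroup.coe_one] at h2 ⊢
      rw [← h2, htp, pow_add, pow_mul, sq]
    have h9 : pCore p G ≤ (S : Subgroup G) := by
      have := pCore_normal (p := p) (G := G)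
      exact (isPGroup_pCore (p := p) (G := G)).le_sylow_of_normal S
    exact ((le_pCore hYn hYp).trans h9).trans h.S_le_L
  · intro g
    induction g using QuotientGroup.induction_on with
    | H y =>
      refine ⟨2, ?_⟩
      rw [← QuotientGroup.mk_pow, QuotientGroup.eq_one_iff]
      apply hmem
      have := hexp (y : G) y.2
      rw [← sq] at this
      simpa using this
  · apply class_two_quotient
    intro x y z
    apply hmem
    have h1 : ⁅⁅(x : G), (y : G)⁆, (z : G)⁆ ∈ ⁅⁅Y, Y⁆, Y⁆ :=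
      Subgroup.commutator_mem_commutator (Subgroup.commutator_mem_commutator x.2 y.2) z.2
    have h2 := ((Subgroup.commutator_mono hder le_rfl).trans hNY) h1
    exact h2

end part2

end Cfsg.Agent.Lib.Helper55
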