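import Cfsg.Agent.Lib.Helper55.TransFamily
import Cfsg.Agent.Lib.Helper55.QsSection
import Cfsg.Agent.Lib.Helper55.CoprimeGen
import Cfsg.Agent.Lib.Helper30.Layer
import Cfsg.Agent.Lib.Helper42.Components
import Cfsg.Agent.Lib.Helper53.McBride
import Cfsg.Agent.Lib.Helper54.Minimal

set_option autoImplicit false

namespace Cfsg.Agent.Lib.Helper55

open Cfsg

section general

variable {G : Type*} [Group G]

theorem le_normalizer_iSup_cj (S A : Subgroup G) :
    S ≤ Subgroup.normalizer ((⨆ s : S, cj (s : G) A : Subgroup G) : Set G) := by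
  apply le_normalizer_of_cj_le
  intro t ht
  change Subgroup.map _ _ ≤ _
  rw [Subgroup.map_iSup]
  apply iSup_le
  intro s
  change cj t (cj (s : G) A) ≤ _
  rw [← cj_mul]
  exact le_iSup (fun s : S => cj (s : G) A) ⟨t * s, S.mul_mem ht s.2⟩

/-- a perfect subgroup lies in every normal subgroup with `p`-group quotient -/
theorem perfect_le_of_isPGroup_quotient [Finite G] {p : ℕ} [Fact p.Prime] {K N : Subgroup G}
    [N.Normal] (hK : Group.IsPerfect ↥K) (hN : IsPGroup p (G ⧸ N)) : K ≤ N := by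
  have h1 : Group.IsPerfect ↥(K.map (QuotientGroup.mk' N)) := Group.IsPerfect.map _
  have h2 : Group.IsNilpotent (G ⧸ N) := hN.isNilpotent
  have h3 : Group.IsSolvable ↥(K.map (QuotientGroup.mk' N)) := inferInstance
  have h4 : ¬ Nontrivial ↥(K.map (QuotientGroup.mk' N)) := by
    intro h
    exact Group.IsPerfect.not_isSolvable (G := ↥(K.map (QuotientGroup.mk' N))) h3
  rw [not_nontrivial_iff_subsingleton] at h4
  have h5 : K.map (QuotientGroup.mk' N) = ⊥ := Subgroup.eq_bot_of_subsingleton _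
  intro k hk
  have h6 : QuotientGroup.mk' N k ∈ K.map (QuotientGroup.mk' N) := Subgroup.mem_map_of_mem _ hk
  rw [h5, Subgroup.mem_bot] at h6
  exact (QuotientGroup.eq_one_iff k).1 h6

end general

section pmin

variable {P : Type*} [Group P] [Finite P] {p : ℕ} [Fact p.Prime]

omit [Fact p.Prime] in
/-- in a `p`-minimal group, proper subgroups over `S` lie in the maximal subgroup over `S` -/
theorem pmin_le_coatom (hP : IsPMinimal p P) (S : Sylow p P) {M H : Subgroup P}
    (hM : IsCoatom M) (hSM : (S : Subgroup P) ≤ M) (hSH : (S : Subgroup P) ≤ H) (hH : H ≠ ⊤) :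
    H ≤ M := by
  obtain ⟨_, M₀, ⟨_, _⟩, huniq⟩ := hP S
  obtain ⟨M', hM'co, hM'⟩ := (eq_top_or_exists_le_coatom H).resolve_left hH
  have h1 : M' = M₀ := huniq M' ⟨hM'co, hSH.trans hM'⟩
  have h2 : M = M₀ := huniq M ⟨hM, hSM⟩
  rw [h2, ← h1]; exact hM'

/-- a subgroup `T` of a normal subgroup `N ≤ M`, Sylow in `N` and normalized by `S`, is normal -/
theorem pmin_frattini (hP : IsPMinimal p P) (S : Sylow p P) {M : Subgroup P}
    (hM : IsCoatom M) (hSM : (S : Subgroup P) ≤ M) {N : Subgroup P} (hN : N.Normal) (hNM : N ≤ M)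
    {r : ℕ} [Fact r.Prime] {T : Subgroup P} (hT : IsSylowIn r N T)
    (hST : (S : Subgroup P) ≤ Subgroup.normalizer (T : Set P)) : T.Normal := by
  have := hN
  have h1 := Sylow.normalizer_sup_eq_top (hT.toSylow)
  rw [hT.map_toSylow] at h1
  by_contra hn
  have h2 : Subgroup.normalizer (T : Set P) ≠ ⊤ := by
    intro h; exact hn (Subgroup.normalizer_eq_top_iff.1 h)
  have h3 := pmin_le_coatom hP S hM hSM hST h2
  have h4 : (⊤ : Subgroup P) ≤ M := by rw [← h1]; exact sup_le h3 hNM
  exact hM.1 (top_le_iff.1 h4)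

theorem pmin_normal_coprime (hP : IsPMinimal p P) (hOp : pCore p P = ⊥) (S : Sylow p P)
    {M : Subgroup P} (hM : IsCoatom M) (hSM : (S : Subgroup P) ≤ M) {N : Subgroup P}
    (hN : N.Normal) (hNM : N ≤ M) : (Nat.card N).Coprime p := by
  have hS : IsSylowIn p ⊤ (S : Subgroup P) := isSylowIn_of_sylow_le S le_top
  have hT : IsSylowIn p N ((S : Subgroup P) ⊓ N) :=
    hS.inf_normal le_top (by rw [Subgroup.normalizer_eq_top_iff.2 hN])
  have hn : ((S : Subgroup P) ⊓ N).Normal := by
    apply pmin_frattini hP S hM hSM hN hNM hT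
    intro s hs
    rw [← cj_eq_self_iff, cj_inf, cj_eq_self_of_mem hs, cj_eq_self_of_normal hN]
  have hbot : (S : Subgroup P) ⊓ N = ⊥ := by
    rw [eq_bot_iff, ← hOp]
    exact le_pCore hn (S.isPGroup'.to_le inf_le_left)
  rw [hbot] at hT
  have h1 := (hT.toSylow).card_eq_multiplicity
  have h2 : Nat.card ((hT.toSylow : Sylow p ↥N) : Subgroup ↥N) = 1 := by
    rw [hT.coe_toSylow]; simp
  rw [h2] at h1
  have hp : p.Prime := Fact.out
  have h3 : (Nat.card N).factorization p = 0 := by
    by_contra h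
    have : 1 < p ^ (Nat.card N).factorization p := Nat.one_lt_pow h hp.one_lt
    omega
  rcases (Nat.factorization_eq_zero_iff _ _).1 h3 with h | h | h
  · exact absurd hp h
  · exact Nat.coprime_comm.1 ((Nat.Prime.coprime_iff_not_dvd hp).2 h)
  · exact absurd h Nat.card_pos.ne'

/-- a normal subgroup inside the maximal subgroup over `S` is nilpotent -/
theorem pmin_normal_nilpotent (hP : IsPMinimal p P) (hOp : pCore p P = ⊥) (S : Sylow p P)
    {M : Subgroup P} (hM : IsCoatom M) (hSM : (S : Subgroup P) ≤ M) {N : Subgroup P}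
    (hN : N.Normal) (hNM : N ≤ M) : Group.IsNilpotent ↥N := by
  have hcop := pmin_normal_coprime hP hOp S hM hSM hN hNM
  apply ((Group.isNilpotent_of_finite_tfae (G := ↥N)).out 0 3).2
  intro r hr R
  have := hr
  have hSN : (S : Subgroup P) ≤ Subgroup.normalizer (N : Set P) := by
    rw [Subgroup.normalizer_eq_top_iff.2 hN]; exact le_top
  obtain ⟨T, hT, hST⟩ := exists_invariant_isSylowIn (S.isPGroup') hSN hcop r
  have hTn : T.Normal := pmin_frattini hP S hM hSM hN hNM hT hST
  have h1 : ((hT.toSylow : Sylow r ↥N) : Subgroup ↥N).Normal := by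
    rw [hT.coe_toSylow]
    exact (Subgroup.normal_subgroupOf_iff_le_normalizer hT.1).2
      (by rw [Subgroup.normalizer_eq_top_iff.2 hTn]; exact le_top)
  have h2 : R = hT.toSylow := by
    have u := Sylow.unique_of_normal _ h1
    exact (u.uniq R).trans (u.uniq _).symm
  rw [h2]; exact h1

/-- a normal subgroup containing a component supplements `S` -/
theorem pmin_sup_eq_top (hP : IsPMinimal p P) (hOp : pCore p P = ⊥) (S : Sylow p P)
    {M : Subgroup P} (hM : IsCoatom M) (hSM : (S : Subgroup P) ≤ M) {N K : Subgroup P}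
    (hN : N.Normal) (hK : IsComponent K) (hKN : K ≤ N) : N ⊔ (S : Subgroup P) = ⊤ := by
  by_contra h
  have h1 := pmin_le_coatom hP S hM hSM le_sup_right h
  have h2 : Group.IsNilpotent ↥N := pmin_normal_nilpotent hP hOp S hM hSM hN (le_sup_left.trans h1)
  exact Helper30.component_not_le_solvable hK (inferInstance : Group.IsSolvable ↥N) hKN

theorem component_le_pResidual (K : Subgroup P) (hK : IsComponent K) : K ≤ pResidual p P := by
  have := Helper54.pResidual_normal p P
  exact perfect_le_of_isPGroup_quotient hK.2.1 Helper54.pResidual_quotient_isPGroup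

theorem layer_le_normalizer_component {K : Subgroup P} (hK : IsComponent K) :
    layer P ≤ Subgroup.normalizer (K : Set P) :=
  Helper30.layer_le (fun _ hK' => Helper30.component_le_normalizer hK' hK.1)

theorem pmin_component_structure (hP : IsPMinimal p P) (hOp : pCore p P = ⊥) (S : Sylow p P)
    {M : Subgroup P} (hM : IsCoatom M) (hSM : (S : Subgroup P) ≤ M)
    (K : Subgroup P) (hK : IsComponent K) :
    pResidual p P = layer P ∧ fittingSubgroup P ≤ layer P ∧
      layer P = ⨆ s : (S : Subgroup P), cj (s : P) K ∧ layer P ⊔ (S : Subgroup P) = ⊤ := by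
  have hEn : (layer P).Normal := Helper30.layer_normal
  have hES : layer P ⊔ (S : Subgroup P) = ⊤ :=
    pmin_sup_eq_top hP hOp S hM hSM hEn hK (Helper30.component_le_layer hK)
  have hRE : pResidual p P ≤ layer P := Helper54.pResidual_le_of_sup_eq_top S.isPGroup' hES
  have hER : layer P ≤ pResidual p P := Helper30.layer_le (fun K' hK' => component_le_pResidual K' hK')
  have hREeq : pResidual p P = layer P := le_antisymm hRE hER
  obtain ⟨D, hD⟩ : ∃ D : Subgroup P, D = ⨆ s : (S : Subgroup P), cj (s : P) K := ⟨_, rfl⟩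
  have hDE : D ≤ layer P := by
    rw [hD]
    exact iSup_le (fun s => Helper30.component_le_layer (Helper30.isComponent_conj _ hK))
  have hKD : K ≤ D := by
    rw [hD]
    have := le_iSup (fun s : (S : Subgroup P) => cj (s : P) K) 1
    simpa [cj_one] using this
  have hSD : (S : Subgroup P) ≤ Subgroup.normalizer (D : Set P) := by
    rw [hD]; exact le_normalizer_iSup_cj _ _
  have hED : layer P ≤ Subgroup.normalizer (D : Set P) := by
    apply le_normalizer_of_cj_le
    intro e he
    rw [hD]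
    change Subgroup.map _ _ ≤ _
    rw [Subgroup.map_iSup]
    apply iSup_le
    intro s
    have h1 : cj e (cj (s : P) K) = cj (s : P) K :=
      cj_eq_self_iff.2 (layer_le_normalizer_component (Helper30.isComponent_conj _ hK) he)
    change cj e (cj (s : P) K) ≤ _
    rw [h1]
    exact le_iSup (fun s : (S : Subgroup P) => cj (s : P) K) s
  have hDn : D.Normal := by
    rw [← Subgroup.normalizer_eq_top_iff, eq_top_iff, ← hES]
    exact sup_le hED hSD
  have hDS : D ⊔ (S : Subgroup P) = ⊤ := pmin_sup_eq_top hP hOp S hM hSM hDn hK hKD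
  have hRD : pResidual p P ≤ D := by
    have := hDn
    exact Helper54.pResidual_le_of_sup_eq_top S.isPGroup' hDS
  refine ⟨hREeq, ?_, ?_, hES⟩
  · unfold fittingSubgroup
    apply sSup_le
    rintro N ⟨hNn, hNnil⟩
    have hNS : N ⊔ (S : Subgroup P) ≠ ⊤ := by
      intro h
      have := hNn
      have h1 : pResidual p P ≤ N := Helper54.pResidual_le_of_sup_eq_top S.isPGroup' h
      have h2 : K ≤ N := (Helper30.component_le_layer hK).trans (hER.trans h1)
      exact Helper30.component_not_le_solvable hK (inferInstance : Group.IsSolvable ↥N) h2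
    have h1 := pmin_le_coatom hP S hM hSM le_sup_right hNS
    have hcop := pmin_normal_coprime hP hOp S hM hSM hNn (le_sup_left.trans h1)
    rw [← hREeq]
    intro n hn
    apply Subgroup.subset_closure
    change Nat.Coprime (orderOf n) p
    have h2 : orderOf n ∣ Nat.card N := by
      have := orderOf_dvd_natCard (⟨n, hn⟩ : N)
      rwa [Subgroup.orderOf_mk] at this
    exact Nat.Coprime.coprime_dvd_left h2 hcop
  · rw [← hD]
    exact le_antisymm (hREeq ▸ hRD) hDE

theorem isSylowIn_inf_of_sup_eq_top {E S H : Subgroup P} (hE : E.Normal)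
    (hS : IsSylowIn p ⊤ S) (hES : E ⊔ S = ⊤) (hEH : E ≤ H) : IsSylowIn p H (S ⊓ H) := by
  refine ⟨inf_le_right, hS.2.1.to_le inf_le_left, ?_⟩
  intro T' hT'H hT'p hle
  obtain ⟨g, -, hg⟩ := hS.exists_conj_le le_top hT'p
  have hg' : g⁻¹ ∈ E ⊔ S := by rw [hES]; exact Subgroup.mem_top _
  obtain ⟨e, he, s, hs, hes⟩ := Helper54.exists_mul_of_mem_sup_of_le_normalizer
    (A := E) (B := S) (by rw [Subgroup.normalizer_eq_top_iff.2 hE]; exact le_top) hg'
  have hg2 : g = s⁻¹ * e⁻¹ := by
    have : g = (g⁻¹)⁻¹ := by group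
    rw [this, hes]; group
  rw [hg2, cj_mul, cj_le_iff, inv_inv, cj_eq_self_of_mem hs] at hg
  have h1 : cj e⁻¹ T' ≤ S ⊓ H := by
    refine le_inf hg ?_
    have : cj e⁻¹ H = H := cj_eq_self_of_mem (hEH (E.inv_mem he))
    rw [← this]; exact cj_mono hT'H
  have h2 : Nat.card T' ≤ Nat.card (S ⊓ H : Subgroup P) := by
    rw [← card_cj e⁻¹ T']
    exact Subgroup.card_le_of_le h1
  exact (Subgroup.eq_of_le_of_card_ge hle h2).symm

open scoped commutatorElement in
omit [Finite P] in
/-- if `K ≤ Y₀ C_P(K)` with `Y₀ ≤ K` and `K` perfect then `K ≤ Y₀` -/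
theorem perfect_le_of_le_sup_centralizer {K Y₀ : Subgroup P} (hK : ⁅K, K⁆ = K) (hY₀ : Y₀ ≤ K)
    (h : K ≤ Y₀ ⊔ Subgroup.centralizer (K : Set P)) : K ≤ Y₀ := by
  have hCN : Subgroup.centralizer (K : Set P) ≤ Subgroup.normalizer (Y₀ : Set P) :=
    (Subgroup.centralizer_le (by exact_mod_cast hY₀)).trans (Subgroup.centralizer_le_normalizer _)
  have hdec : ∀ a ∈ K, ∃ y ∈ Y₀, ∃ c ∈ Subgroup.centralizer (K : Set P), c ∈ K ∧ a = y * c := by
    intro a ha
    obtain ⟨y, hy, c, hc, hyc⟩ := Helper54.exists_mul_of_mem_sup_of_le_normalizer hCN (h ha)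
    refine ⟨y, hy, c, hc, ?_, hyc⟩
    have : c = y⁻¹ * a := by rw [hyc]; group
    rw [this]; exact K.mul_mem (K.inv_mem (hY₀ hy)) ha
  rw [← hK]
  apply Subgroup.commutator_le.2
  intro a ha b hb
  obtain ⟨y, hy, c, hc, hcK, rfl⟩ := hdec a ha
  obtain ⟨y', hy', c', hc', hc'K, rfl⟩ := hdec b hb
  rw [Subgroup.mem_centralizer_iff] at hc hc'
  have e1 : ⁅c, y' * c'⁆ = 1 := by
    rw [commutatorElement_eq_one_iff_commute]
    exact (hc _ (K.mul_mem (hY₀ hy') hc'K)).symm
  have e2 : ⁅y, c'⁆ = 1 := by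
    rw [commutatorElement_eq_one_iff_commute]
    exact (hc' _ (hY₀ hy))
  rw [commutatorElement_mul_left', e1, commutatorElement_mul_right, e2]
  simp only [mul_one, mul_inv_cancel, one_mul]
  rw [commutatorElement_def]
  exact Y₀.mul_mem (Y₀.mul_mem (Y₀.mul_mem hy hy') (Y₀.inv_mem hy)) (Y₀.inv_mem hy')

/-- proper subgroups of `K N_S(K)` over `N_S(K)` lie in `M` -/
theorem pmin_component_claim (hP : IsPMinimal p P) (S : Sylow p P)
    {M : Subgroup P} (hM : IsCoatom M) (hSM : (S : Subgroup P) ≤ M)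
    (K : Subgroup P) (hK : IsComponent K) {Y : Subgroup P}
    (hTY : (S : Subgroup P) ⊓ Subgroup.normalizer (K : Set P) ≤ Y)
    (hYX : Y ≤ K ⊔ ((S : Subgroup P) ⊓ Subgroup.normalizer (K : Set P))) (hYne : ¬ K ≤ Y) :
    Y ≤ M := by
  obtain ⟨D', hD'⟩ : ∃ D' : Subgroup P, D' = ⨆ s : (S : Subgroup P), cj (s : P) (Y ⊓ K) :=
    ⟨_, rfl⟩
  have hSD' : (S : Subgroup P) ≤ Subgroup.normalizer (D' : Set P) := by
    rw [hD']; exact le_normalizer_iSup_cj _ _
  have hY₀D' : Y ⊓ K ≤ D' := by
    rw [hD']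
    have := le_iSup (fun s : (S : Subgroup P) => cj (s : P) (Y ⊓ K)) 1
    simpa [cj_one] using this
  have key : D' ⊔ (S : Subgroup P) ≠ ⊤ := by
    intro h
    have hDn : D'.Normal := by
      rw [← Subgroup.normalizer_eq_top_iff, eq_top_iff, ← h]
      exact sup_le Subgroup.le_normalizer hSD'
    have h1 : pResidual p P ≤ D' := Helper54.pResidual_le_of_sup_eq_top S.isPGroup' h
    have h2 : K ≤ D' := (component_le_pResidual K hK).trans h1
    have h3 : D' ≤ (Y ⊓ K) ⊔ Subgroup.centralizer (K : Set P) := by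
      rw [hD']
      apply iSup_le
      intro s
      by_cases hs : (s : P) ∈ Subgroup.normalizer (K : Set P)
      · have hsT : (s : P) ∈ (S : Subgroup P) ⊓ Subgroup.normalizer (K : Set P) := ⟨s.2, hs⟩
        have : cj (s : P) (Y ⊓ K) = Y ⊓ K := by
          rw [cj_inf, cj_eq_self_of_mem (hTY hsT), cj_eq_self_iff.2 hs]
        rw [this]; exact le_sup_left
      · have hne : cj (s : P) K ≠ K := fun h => hs (cj_eq_self_iff.1 h)
        have hc := Helper30.component_commute (Helper30.isComponent_conj (s : P) hK) hK hne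
        have h4 : cj (s : P) K ≤ Subgroup.centralizer (K : Set P) :=
          Subgroup.commutator_eq_bot_iff_le_centralizer.1 hc
        exact (cj_mono inf_le_right).trans (h4.trans le_sup_right)
    have h5 : K ≤ Y ⊓ K :=
      perfect_le_of_le_sup_centralizer (Helper30.component_perfect hK) inf_le_right (h2.trans h3)
    exact hYne (h5.trans inf_le_left)
  have h1 := pmin_le_coatom hP S hM hSM le_sup_right key
  have hTK : (S : Subgroup P) ⊓ Subgroup.normalizer (K : Set P) ≤ Subgroup.normalizer (K : Set P) :=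
    inf_le_right
  intro y hy
  obtain ⟨k, hk, t, ht, hkt⟩ := Helper54.exists_mul_of_mem_sup_of_le_normalizer hTK (hYX hy)
  have hkY : k ∈ Y := by
    have : k = y * t⁻¹ := by rw [hkt]; group
    rw [this]; exact Y.mul_mem hy (Y.inv_mem (hTY ht))
  rw [hkt]
  exact M.mul_mem (h1 (Subgroup.mem_sup_left (hY₀D' ⟨hkY, hk⟩))) (hSM ht.1)

open scoped commutatorElement in
theorem pmin_component_isPMinimal (hP : IsPMinimal p P) (hOp : pCore p P = ⊥) (S : Sylow p P)
    (K : Subgroup P) (hK : IsComponent K) :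
    IsPMinimal p ↥(K ⊔ ((S : Subgroup P) ⊓ Subgroup.normalizer (K : Set P))) := by
  obtain ⟨-, M, ⟨hM, hSM⟩, -⟩ := hP S
  obtain ⟨hREeq, -, hED, hES⟩ := pmin_component_structure hP hOp S hM hSM K hK
  obtain ⟨T, hT⟩ : ∃ T : Subgroup P, T = (S : Subgroup P) ⊓ Subgroup.normalizer (K : Set P) :=
    ⟨_, rfl⟩
  obtain ⟨X, hX⟩ : ∃ X : Subgroup P, X = K ⊔ T := ⟨_, rfl⟩
  rw [← hT, ← hX]
  have hTX : T ≤ X := hX ▸ le_sup_right
  have hKX : K ≤ X := hX ▸ le_sup_left
  have hTS : T ≤ (S : Subgroup P) := hT ▸ inf_le_left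
  have hTNK : T ≤ Subgroup.normalizer (K : Set P) := hT ▸ inf_le_right
  have hXNK : X ≤ Subgroup.normalizer (K : Set P) := hX ▸ sup_le Subgroup.le_normalizer hTNK
  -- `K` is not inside `M`
  have hKM : ¬ K ≤ M := by
    intro h
    have h1 : layer P ≤ M := by
      rw [hED]
      apply iSup_le
      intro s
      have : cj (s : P) M = M := cj_eq_self_of_mem (hSM s.2)
      rw [← this]; exact cj_mono h
    have h2 : (⊤ : Subgroup P) ≤ M := by rw [← hES]; exact sup_le h1 hSM
    exact hM.1 (top_le_iff.1 h2)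
  -- `T` is Sylow in `X`
  have hS : IsSylowIn p ⊤ (S : Subgroup P) := isSylowIn_of_sylow_le S le_top
  have hTsyl0 : IsSylowIn p (Subgroup.normalizer (K : Set P)) T := by
    rw [hT]
    exact isSylowIn_inf_of_sup_eq_top Helper30.layer_normal hS hES (layer_le_normalizer_component hK)
  have hTsyl : IsSylowIn p X T :=
    ⟨hTX, hTsyl0.2.1, fun T' hT'X hT'p hle => hTsyl0.2.2 T' (hT'X.trans hXNK) hT'p hle⟩
  -- the claim
  have claim : ∀ Y : Subgroup P, T ≤ Y → Y ≤ X → Y ≠ X → Y ≤ M := by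
    intro Y hTY hYX hYne
    apply pmin_component_claim hP S hM hSM K hK (hT ▸ hTY) (hT ▸ hX ▸ hYX)
    intro hKY
    exact hYne (le_antisymm hYX (hX ▸ sup_le hKY hTY))
  apply Helper53.isPMinimal_of_pMinProp hTsyl.toSylow
  rw [hTsyl.coe_toSylow]
  constructor
  · -- not normal
    rw [Subgroup.normal_subgroupOf_iff_le_normalizer hTX]
    intro hXT
    apply hKM
    intro k hk
    have hkX : Subgroup.zpowers k ⊔ T ≤ X := sup_le ((Subgroup.zpowers_le.2 hk).trans hKX) hTX
    apply claim (Subgroup.zpowers k ⊔ T) le_sup_right hkX _ (Subgroup.mem_sup_left (Subgroup.mem_zpowers k))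
    intro heq
    have hzN : Subgroup.zpowers k ≤ Subgroup.normalizer (T : Set P) :=
      ((Subgroup.zpowers_le.2 hk).trans hKX).trans hXT
    have hcomm : ⁅X, X⁆ ≤ T := by
      apply Subgroup.commutator_le.2
      intro x₁ hx₁ x₂ hx₂
      rw [← heq, sup_comm] at hx₁ hx₂
      obtain ⟨t₁, ht₁, z₁, hz₁, rfl⟩ := Helper54.exists_mul_of_mem_sup_of_le_normalizer hzN hx₁
      obtain ⟨t₂, ht₂, z₂, hz₂, rfl⟩ := Helper54.exists_mul_of_mem_sup_of_le_normalizer hzN hx₂
      obtain ⟨i, rfl⟩ := Subgroup.mem_zpowers_iff.1 hz₁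
      obtain ⟨j, rfl⟩ := Subgroup.mem_zpowers_iff.1 hz₂
      have e : ⁅t₁ * k ^ i, t₂ * k ^ j⁆ =
          t₁ * (k ^ i * t₂ * (k ^ i)⁻¹) * (k ^ j * t₁⁻¹ * (k ^ j)⁻¹) * t₂⁻¹ := by
        rw [commutatorElement_def]; group
      rw [e]
      have c1 : k ^ i * t₂ * (k ^ i)⁻¹ ∈ T :=
        (Subgroup.mem_normalizer_iff.1 (hzN hz₁) t₂).1 ht₂
      have c2 : k ^ j * t₁⁻¹ * (k ^ j)⁻¹ ∈ T :=
        (Subgroup.mem_normalizer_iff.1 (hzN hz₂) t₁⁻¹).1 (T.inv_mem ht₁)
      exact T.mul_mem (T.mul_mem (T.mul_mem ht₁ c1) c2) (T.inv_mem ht₂)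
    have hKT : K ≤ T := by
      rw [← Helper30.component_perfect hK]
      exact (Subgroup.commutator_mono hKX hKX).trans hcomm
    have hTnil : Group.IsNilpotent ↥T := hTsyl.2.1.isNilpotent
    exact Helper30.component_not_le_solvable hK (inferInstance : Group.IsSolvable ↥T) hKT
  · have claim' : ∀ Y' : Subgroup ↥X, T.subgroupOf X ≤ Y' → Y' ≠ ⊤ → Y' ≤ M.subgroupOf X := by
      intro Y' hTY' hY'ne
      have h1 : T ≤ Y'.map X.subtype := by
        have := Subgroup.map_mono (f := X.subtype) hTY'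
        rwa [Subgroup.map_subgroupOf_eq_of_le hTX] at this
      have h2 : Y'.map X.subtype ≤ X := Subgroup.map_subtype_le _
      have h3 : Y'.map X.subtype ≠ X := by
        intro h
        apply hY'ne
        rw [eq_top_iff]
        intro x _
        have hx : (x : P) ∈ Y'.map X.subtype := by rw [h]; exact x.2
        obtain ⟨y, hy, hyx⟩ := hx
        have : y = x := Subtype.ext hyx
        rwa [← this]
      have h4 := claim _ h1 h2 h3
      intro x hx
      rw [Subgroup.mem_subgroupOf]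
      exact h4 ⟨x, hx, rfl⟩
    have hM₁ne : M.subgroupOf X ≠ ⊤ := by
      rw [Ne, Subgroup.subgroupOf_eq_top]
      intro h; exact hKM (hKX.trans h)
    have hT₁le : T.subgroupOf X ≤ M.subgroupOf X := Subgroup.comap_mono (hTS.trans hSM)
    have hT₁ne : T.subgroupOf X ≠ ⊤ := fun h => hM₁ne (top_le_iff.1 (h ▸ hT₁le))
    obtain ⟨M', hM'co, hM'⟩ := (eq_top_or_exists_le_coatom (T.subgroupOf X)).resolve_left hT₁ne
    have huniq : ∀ M'' : Subgroup ↥X, IsCoatom M'' → T.subgroupOf X ≤ M'' →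
        M'' = M.subgroupOf X := by
      intro M'' hco hle
      have h1 := claim' M'' hle hco.1
      rcases eq_or_lt_of_le h1 with h | h
      · exact h
      · exact absurd (hco.2 _ h) hM₁ne
    refine ⟨M', ⟨hM'co, hM'⟩, ?_⟩
    rintro M'' ⟨hco, hle⟩
    rw [huniq M'' hco hle, huniq M' hM'co hM']

end pmin

end Cfsg.Agent.Lib.Helper55
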