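import Cfsg.Agent.Lib.Helper55.LargeChar

set_option autoImplicit false

namespace Cfsg.Agent.Lib.Helper55

open Cfsg

section intrinsic

variable {L : Type*} [Group L] {p : ℕ}

theorem sSup_normal {S : Set (Subgroup L)} (h : ∀ N ∈ S, N.Normal) : (sSup S).Normal := by
  constructor
  intro n hn g
  have key : ∀ g : L, (sSup S).map (MulAut.conj g).toMonoidHom ≤ sSup S := by
    intro g
    rw [Subgroup.map_le_iff_le_comap]
    apply sSup_le
    intro N hN
    rw [← Subgroup.map_le_iff_le_comap]
    have : N.map (MulAut.conj g).toMonoidHom = N := by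
      have := h N hN
      exact cj_eq_self_iff.mpr (by rw [Subgroup.normalizer_eq_top]; trivial)
    rw [this]
    exact le_sSup hN
  exact key g ⟨n, hn, by simp [MulAut.conj_apply]⟩

theorem largestPReduced_normal : (largestPReduced p L).Normal :=
  sSup_normal (fun _ hN => hN.1)

theorem isPGroup_of_isElementaryAbelian [Fact p.Prime] {V : Subgroup L}
    (h : IsElementaryAbelian p V) : IsPGroup p V := by
  intro x
  refine ⟨1, ?_⟩
  apply Subtype.ext
  have := h.2 x x.2
  simpa using this

theorem pCore_le_centralizer_of_pReduced [Fact p.Prime] {V : Subgroup L}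
    (h : IsPReducedNormal p V) : pCore p L ≤ Subgroup.centralizer (V : Set L) := by
  obtain ⟨_, _, hn, hcore⟩ := h
  have h1 : ((pCore p L).map (QuotientGroup.mk' (Subgroup.centralizer (V : Set L)))).Normal :=
    Subgroup.Normal.map pCore_normal _ (QuotientGroup.mk'_surjective _)
  have h2 : IsPGroup p ((pCore p L).map (QuotientGroup.mk' (Subgroup.centralizer (V : Set L)))) :=
    isPGroup_pCore.map _
  have h4 : pCore p L ≤ (QuotientGroup.mk' (Subgroup.centralizer (V : Set L))).ker := by
    rw [← Subgroup.map_eq_bot_iff]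
    exact le_bot_iff.mp (by
      have := le_pCore h1 h2
      rwa [hcore] at this)
  rwa [QuotientGroup.ker_mk'] at h4

theorem pCore_le_centralizer_largestPReduced [Fact p.Prime] :
    pCore p L ≤ Subgroup.centralizer (largestPReduced p L : Set L) := by
  rw [Subgroup.le_centralizer_iff]
  unfold largestPReduced
  apply sSup_le
  intro V hV
  rw [← Subgroup.le_centralizer_iff]
  exact pCore_le_centralizer_of_pReduced hV

theorem largestPReduced_le_pCore [Fact p.Prime] : largestPReduced p L ≤ pCore p L := by
  unfold largestPReduced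
  apply sSup_le
  intro V hV
  exact le_pCore hV.1 (isPGroup_of_isElementaryAbelian hV.2.1)

theorem largestPReduced_pow_eq_one [Fact p.Prime] :
    ∀ a ∈ largestPReduced p L, a ^ p = 1 := by
  have hcomm : ∀ a ∈ largestPReduced p L, ∀ b ∈ largestPReduced p L, a * b = b * a := by
    intro a ha b hb
    have h1 := pCore_le_centralizer_largestPReduced (p := p) (largestPReduced_le_pCore ha)
    exact ((Subgroup.mem_centralizer_iff.mp h1) b hb).symm
  intro a ha
  -- closure induction
  unfold largestPReduced at ha
  rw [sSup_eq_iSup', Subgroup.iSup_eq_closure] at ha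
  have hcl : ∀ x ∈ Subgroup.closure (⋃ i : {V : Subgroup L // IsPReducedNormal p V}, ((i : Subgroup L) : Set L)),
      x ∈ largestPReduced p L ∧ x ^ p = 1 := by
    intro x hx
    induction hx using Subgroup.closure_induction with
    | mem x hx =>
      rw [Set.mem_iUnion] at hx
      obtain ⟨⟨V, hV⟩, hxV⟩ := hx
      refine ⟨?_, hV.2.1.2 x hxV⟩
      unfold largestPReduced
      exact (le_sSup (show V ∈ {V : Subgroup L | IsPReducedNormal p V} from hV)) hxV
    | one => exact ⟨Subgroup.one_mem _, one_pow _⟩
    | mul x y _ _ hx hy =>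
      refine ⟨Subgroup.mul_mem _ hx.1 hy.1, ?_⟩
      have hc : Commute x y := hcomm x hx.1 y hy.1
      rw [hc.mul_pow, hx.2, hy.2, one_mul]
    | inv x _ hx =>
      exact ⟨Subgroup.inv_mem _ hx.1, by rw [inv_pow, hx.2, inv_one]⟩
  exact (hcl a ha).2

end intrinsic

section ambient

variable {G : Type*} [Group G] {p : ℕ}

theorem largestPReducedOf_le (M : Subgroup G) : largestPReducedOf p M ≤ M := by
  unfold largestPReducedOf
  exact Subgroup.map_subtype_le _

theorem le_normalizer_map_subtype {M : Subgroup G} (V : Subgroup M) (hV : V.Normal) :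
    M ≤ Subgroup.normalizer ((V.map M.subtype : Subgroup G) : Set G) := by
  intro l hl
  rw [Subgroup.mem_normalizer_iff]
  intro x
  constructor
  · rintro ⟨y, hy, rfl⟩
    refine ⟨⟨l, hl⟩ * y * ⟨l, hl⟩⁻¹, hV.conj_mem y hy ⟨l, hl⟩, ?_⟩
    simp
  · rintro ⟨y, hy, hyx⟩
    refine ⟨⟨l, hl⟩⁻¹ * y * ⟨l, hl⟩, ?_, ?_⟩
    · have := hV.conj_mem y hy ⟨l, hl⟩⁻¹
      simpa using this
    · simp only [Subgroup.subtype_apply, Subgroup.coe_mul, Subgroup.coe_inv] at hyx ⊢
      rw [hyx]; group

theorem le_normalizer_largestPReducedOf (M : Subgroup G) :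
    M ≤ Subgroup.normalizer ((largestPReducedOf p M : Subgroup G) : Set G) :=
  le_normalizer_map_subtype _ largestPReduced_normal

theorem map_subtype_le_centralizer_map_subtype {M : Subgroup G} {A V : Subgroup M}
    (h : A ≤ Subgroup.centralizer (V : Set M)) :
    A.map M.subtype ≤ Subgroup.centralizer ((V.map M.subtype : Subgroup G) : Set G) := by
  rintro _ ⟨a, ha, rfl⟩
  rw [Subgroup.mem_centralizer_iff]
  rintro _ ⟨v, hv, rfl⟩
  have := (Subgroup.mem_centralizer_iff.mp (h ha)) v hv
  exact congrArg Subtype.val this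

theorem pCoreOf_le_centralizer_largestPReducedOf [Fact p.Prime] (M : Subgroup G) :
    pCoreOf p M ≤ Subgroup.centralizer ((largestPReducedOf p M : Subgroup G) : Set G) :=
  map_subtype_le_centralizer_map_subtype pCore_le_centralizer_largestPReduced

theorem largestPReducedOf_le_pCoreOf [Fact p.Prime] (M : Subgroup G) :
    largestPReducedOf p M ≤ pCoreOf p M :=
  Subgroup.map_mono largestPReduced_le_pCore

theorem largestPReducedOf_pow_eq_one [Fact p.Prime] (M : Subgroup G) :
    ∀ a ∈ largestPReducedOf p M, a ^ p = 1 := by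
  rintro _ ⟨a, ha, rfl⟩
  have := largestPReduced_pow_eq_one a ha
  rw [← map_pow, this, map_one]

theorem largestPReducedOf_comm [Fact p.Prime] (M : Subgroup G) :
    largestPReducedOf p M ≤ Subgroup.centralizer ((largestPReducedOf p M : Subgroup G) : Set G) :=
  (largestPReducedOf_le_pCoreOf M).trans (pCoreOf_le_centralizer_largestPReducedOf M)

end ambient

section pclosed

variable {K : Type*} [Group K] [Finite K] {p : ℕ} [Fact p.Prime]

theorem le_sylow_of_isPClosed (h : IsPClosed p K) (P : Sylow p K) {X : Subgroup K}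
    (hX : IsPGroup p X) : X ≤ P := by
  obtain ⟨P2, hP2⟩ := hX.exists_le_sylow
  obtain ⟨g, hg⟩ := MulAction.exists_smul_eq K P P2
  have hn : (P : Subgroup K).Normal := h P
  have : g • P = P := Sylow.smul_eq_of_normal
  rw [this] at hg
  rw [hg]
  exact hP2

end pclosed

end Cfsg.Agent.Lib.Helper55
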