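import Mathlib
import Cfsg.Agent.Lib.Helper48.RSpDefs

/-!
# K-RSp-P1 (keystone 228110, pack S2281): the induction step `Sym{0..k} → Sym{0..k+1}`
-/

set_option autoImplicit false
set_option linter.unusedVariables false
set_option linter.unusedSectionVars false
set_option linter.style.haveILetI false

namespace Cfsg.Agent.Lib.Helper55.RSp

open Matrix Cfsg.Agent.Lib.Helper48.RSp

variable {m : ℕ} {F : Type*} [Field F]

/-- the `a`-th standard basis vector, indexed by a natural number (zero when out of range) -/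
def ev (m : ℕ) (F : Type*) [Field F] (a : ℕ) : Fin (m + 2) → F := fun i => if i.val = a then 1 else 0

/-- the symmetrised rank one matrix `v wᵀ + w vᵀ` -/
def sy (v w : Fin (m + 2) → F) : SM m F := vecMulVec v w + vecMulVec w v

theorem sy_apply (v w : Fin (m + 2) → F) (i j : Fin (m + 2)) :
    sy v w i j = v i * w j + w i * v j := by
  simp [sy, vecMulVec_apply]

theorem sy_transpose (v w : Fin (m + 2) → F) : (sy v w)ᵀ = sy v w := by
  ext i j
  simp only [transpose_apply, sy_apply]
  ring

theorem conj_vecMulVec (M : SM m F) (v w : Fin (m + 2) → F) :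
    M * vecMulVec v w * Mᵀ = vecMulVec (M *ᵥ v) (M *ᵥ w) := by
  rw [mul_vecMulVec, vecMulVec_mul, vecMul_transpose]

theorem conj_sy (M : SM m F) (v w : Fin (m + 2) → F) :
    M * sy v w * Mᵀ = sy (M *ᵥ v) (M *ᵥ w) := by
  unfold sy
  rw [Matrix.mul_add, Matrix.add_mul, conj_vecMulVec, conj_vecMulVec]

theorem conj_smul (M : SM m F) (c : F) (S : SM m F) :
    M * (c • S) * Mᵀ = c • (M * S * Mᵀ) := by
  rw [Matrix.mul_smul, Matrix.smul_mul]

theorem sy_add_left (v v' w : Fin (m + 2) → F) : sy (v + v') w = sy v w + sy v' w := by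
  ext i j
  simp only [sy_apply, Matrix.add_apply, Pi.add_apply]
  ring

theorem sy_add_right (v w w' : Fin (m + 2) → F) : sy v (w + w') = sy v w + sy v w' := by
  ext i j
  simp only [sy_apply, Matrix.add_apply, Pi.add_apply]
  ring

theorem sy_smul_left (c : F) (v w : Fin (m + 2) → F) : sy (c • v) w = c • sy v w := by
  ext i j
  simp only [sy_apply, Matrix.smul_apply, Pi.smul_apply, smul_eq_mul]
  ring

theorem sy_smul_right (c : F) (v w : Fin (m + 2) → F) : sy v (c • w) = c • sy v w := by
  ext i j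
  simp only [sy_apply, Matrix.smul_apply, Pi.smul_apply, smul_eq_mul]
  ring

/-- `L e_a = e_a + δ_a e_{a+1}` -/
theorem Lbi_mulVec_ev (δ : Fin (m + 2) → F) (a : ℕ) (ha : a + 1 < m + 2) :
    Lbi m δ *ᵥ ev m F a = ev m F a + δ ⟨a, by omega⟩ • ev m F (a + 1) := by
  have hev : ev m F a = Pi.single (⟨a, by omega⟩ : Fin (m + 2)) 1 := by
    ext i
    simp only [ev, Pi.single_apply, Fin.ext_iff]
  rw [hev, mulVec_single_one]
  ext i
  simp only [Matrix.col_apply, Lbi, Pi.add_apply, Pi.smul_apply, smul_eq_mul, Pi.single_apply, ev, Fin.ext_iff]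
  split_ifs <;> first | (exfalso; omega) | simp

/-- `U e_{a+1} = e_{a+1} + e_a` -/
theorem Uup_mulVec_ev_succ (a : ℕ) (ha : a + 1 < m + 2) :
    Uup m F *ᵥ ev m F (a + 1) = ev m F (a + 1) + ev m F a := by
  have hev : ev m F (a + 1) = Pi.single (⟨a + 1, ha⟩ : Fin (m + 2)) 1 := by
    ext i
    simp only [ev, Pi.single_apply, Fin.ext_iff]
  rw [hev, mulVec_single_one]
  ext i
  simp only [Matrix.col_apply, Uup, Nup, Matrix.add_apply, Matrix.one_apply, Pi.add_apply,
    Pi.single_apply, ev, Fin.ext_iff]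
  split_ifs <;> first | (exfalso; omega) | simp

/-- `U e_0 = e_0` -/
theorem Uup_mulVec_ev_zero : Uup m F *ᵥ ev m F 0 = ev m F 0 := by
  have hev : ev m F 0 = Pi.single (0 : Fin (m + 2)) 1 := by
    ext i
    simp only [ev, Pi.single_apply, Fin.ext_iff]
    rfl
  rw [hev, mulVec_single_one]
  ext i
  simp only [Matrix.col_apply, Uup, Nup, Matrix.add_apply, Matrix.one_apply, Pi.single_apply, Fin.ext_iff]
  split_ifs <;> first | (exfalso; simp_all; done) | (exfalso; omega) | simp

/-- `δ` indexed by natural numbers -/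
def dl (δ : Fin (m + 2) → F) (a : ℕ) : F := if h : a < m + 2 then δ ⟨a, h⟩ else 0

theorem dl_ne (δ : Fin (m + 2) → F) (hδ : ∀ j, δ j ≠ 0) (a : ℕ) (ha : a < m + 2) : dl δ a ≠ 0 := by
  unfold dl
  rw [dif_pos ha]
  exact hδ _

theorem Lbi_mulVec_ev' (δ : Fin (m + 2) → F) (a : ℕ) (ha : a + 1 < m + 2) :
    Lbi m δ *ᵥ ev m F a = ev m F a + dl δ a • ev m F (a + 1) := by
  rw [Lbi_mulVec_ev δ a ha]
  unfold dl
  rw [dif_pos (by omega)]

theorem ev_eq_zero_of_lt {a k : ℕ} (ha : a ≤ k) (i : Fin (m + 2)) (hi : k < i.val) :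
    ev m F a i = 0 := by
  unfold ev
  rw [if_neg]
  omega

theorem smul_sy_mem_SymLE (c : F) {a b k : ℕ} (ha : a ≤ k) (hb : b ≤ k) :
    c • sy (ev m F a) (ev m F b) ∈ SymLE m k := by
  refine ⟨?_, ?_⟩
  · rw [transpose_smul, sy_transpose]
  · intro i j hij
    simp only [Matrix.smul_apply, sy_apply, smul_eq_mul]
    rcases hij with hi | hj
    · rw [ev_eq_zero_of_lt ha i hi, ev_eq_zero_of_lt hb i hi]; ring
    · rw [ev_eq_zero_of_lt ha j hj, ev_eq_zero_of_lt hb j hj]; ring

theorem smul_vv_mem_SymLE (c : F) {a k : ℕ} (ha : a ≤ k) :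
    c • vecMulVec (ev m F a) (ev m F a) ∈ SymLE m k := by
  refine ⟨?_, ?_⟩
  · rw [transpose_smul, transpose_vecMulVec]
  · intro i j hij
    simp only [Matrix.smul_apply, vecMulVec_apply, smul_eq_mul]
    rcases hij with hi | hj
    · rw [ev_eq_zero_of_lt ha i hi]; ring
    · rw [ev_eq_zero_of_lt ha j hj]; ring

theorem last_row_zero {k : ℕ} (hk : k + 1 < m + 2) {S : SM m F} (hS : S ∈ SymLE m k) :
    ∀ j, S (Fin.last (m + 1)) j = 0 := by
  intro j
  apply hS.2
  left
  simp only [Fin.val_last]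
  omega

/-- KEYSTONE 228110 K-RSp-P1: the induction step `Sym{0..k} → Sym{0..k+1}`, `k ≥ 1`. -/
theorem sym_step {m : ℕ} {F : Type*} [Field F] (X : AddSubgroup (SM m F)) (δ : Fin (m + 2) → F)
    (hδ : ∀ j, δ j ≠ 0)
    (hU : ∀ S ∈ X, Uup m F * S * (Uup m F)ᵀ ∈ X)
    (hL : ∀ S ∈ X, Sᵀ = S → (∀ j, S (Fin.last (m + 1)) j = 0) → Lbi m δ * S * (Lbi m δ)ᵀ ∈ X)
    (k : ℕ) (hk1 : 1 ≤ k) (hk : k + 1 < m + 2) (h : SymLE m k ⊆ (X : Set (SM m F))) :
    SymLE m (k + 1) ⊆ (X : Set (SM m F)) := by
  -- membership through `SymLE k`, and the `L`-step for members of `SymLE k`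
  have hLk : ∀ S ∈ SymLE m k, Lbi m δ * S * (Lbi m δ)ᵀ ∈ X := fun S hS =>
    hL S (h hS) hS.1 (last_row_zero hk hS)
  have hdk : dl δ k ≠ 0 := dl_ne δ hδ k (by omega)
  -- Step 1
  have step1 : ∀ i, i < k → ∀ ν : F,
      ν • sy (ev m F i + dl δ i • ev m F (i + 1)) (ev m F (k + 1)) ∈ X := by
    intro i hi ν
    have h0 := hLk ((ν / dl δ k) • sy (ev m F i) (ev m F k)) (smul_sy_mem_SymLE _ hi.le le_rfl)
    rw [conj_smul, conj_sy, Lbi_mulVec_ev' δ i (by omega), Lbi_mulVec_ev' δ k hk] at h0
    have h1 : (ν / dl δ k) • sy (ev m F i) (ev m F k) ∈ X :=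
      h (smul_sy_mem_SymLE _ hi.le le_rfl)
    have h2 : (ν / dl δ k * dl δ i) • sy (ev m F (i + 1)) (ev m F k) ∈ X :=
      h (smul_sy_mem_SymLE _ hi le_rfl)
    have key : ν • sy (ev m F i + dl δ i • ev m F (i + 1)) (ev m F (k + 1)) =
        (ν / dl δ k) • sy (ev m F i + dl δ i • ev m F (i + 1)) (ev m F k + dl δ k • ev m F (k + 1))
          - (ν / dl δ k) • sy (ev m F i) (ev m F k)
          - (ν / dl δ k * dl δ i) • sy (ev m F (i + 1)) (ev m F k) := by
      ext r c
      simp only [sy_apply, Matrix.sub_apply, Matrix.smul_apply, Pi.add_apply, Pi.smul_apply,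
        smul_eq_mul]
      field_simp
      ring
    rw [key]
    exact X.sub_mem (X.sub_mem h0 h1) h2
  -- Step 2
  have hd0 : dl δ 0 ≠ 0 := dl_ne δ hδ 0 (by omega)
  have step2 : ∀ ν : F, ν • sy (ev m F 0) (ev m F (k + 1)) ∈ X := by
    intro ν
    have hZ := step1 0 (by omega) (ν / dl δ 0)
    have h0 := hU _ hZ
    rw [conj_smul, conj_sy, mulVec_add, mulVec_smul, Uup_mulVec_ev_zero,
      Uup_mulVec_ev_succ 0 (by omega), Uup_mulVec_ev_succ k hk] at h0
    have h1 : (ν / dl δ 0) • sy (ev m F 0) (ev m F k) ∈ X :=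
      h (smul_sy_mem_SymLE _ (by omega) le_rfl)
    have h2 : (ν / dl δ 0 * dl δ 0) • sy (ev m F (0 + 1)) (ev m F k) ∈ X :=
      h (smul_sy_mem_SymLE _ (by omega) le_rfl)
    have h3 : (ν / dl δ 0 * dl δ 0) • sy (ev m F 0) (ev m F k) ∈ X :=
      h (smul_sy_mem_SymLE _ (by omega) le_rfl)
    have key : ν • sy (ev m F 0) (ev m F (k + 1)) =
        (ν / dl δ 0) • sy (ev m F 0 + dl δ 0 • (ev m F (0 + 1) + ev m F 0)) (ev m F (k + 1) + ev m F k)
          - (ν / dl δ 0) • sy (ev m F 0 + dl δ 0 • ev m F (0 + 1)) (ev m F (k + 1))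
          - (ν / dl δ 0) • sy (ev m F 0) (ev m F k)
          - (ν / dl δ 0 * dl δ 0) • sy (ev m F (0 + 1)) (ev m F k)
          - (ν / dl δ 0 * dl δ 0) • sy (ev m F 0) (ev m F k) := by
      ext r c
      simp only [sy_apply, Matrix.sub_apply, Matrix.smul_apply, Pi.add_apply, Pi.smul_apply,
        smul_eq_mul]
      field_simp
      ring
    rw [key]
    exact X.sub_mem (X.sub_mem (X.sub_mem (X.sub_mem h0 hZ) h1) h2) h3
  -- Step 3
  have step3 : ∀ a, a ≤ k → ∀ ν : F, ν • sy (ev m F a) (ev m F (k + 1)) ∈ X := by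
    intro a
    induction a with
    | zero => intro _ ν; exact step2 ν
    | succ a ih =>
      intro ha ν
      have hda : dl δ a ≠ 0 := dl_ne δ hδ a (by omega)
      have h1 := step1 a (by omega) (ν / dl δ a)
      have h2 := ih (by omega) (ν / dl δ a)
      have key : ν • sy (ev m F (a + 1)) (ev m F (k + 1)) =
          (ν / dl δ a) • sy (ev m F a + dl δ a • ev m F (a + 1)) (ev m F (k + 1))
            - (ν / dl δ a) • sy (ev m F a) (ev m F (k + 1)) := by
        ext r c
        simp only [sy_apply, Matrix.sub_apply, Matrix.smul_apply, Pi.add_apply, Pi.smul_apply,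
          smul_eq_mul]
        field_simp
        ring
      rw [key]
      exact X.sub_mem h1 h2
  -- Step 4
  have step4 : ∀ ν : F, ν • vecMulVec (ev m F (k + 1)) (ev m F (k + 1)) ∈ X := by
    intro ν
    have h0 := hLk ((ν / (dl δ k) ^ 2) • vecMulVec (ev m F k) (ev m F k)) (smul_vv_mem_SymLE _ le_rfl)
    rw [conj_smul, conj_vecMulVec, Lbi_mulVec_ev' δ k hk] at h0
    have h1 : (ν / (dl δ k) ^ 2) • vecMulVec (ev m F k) (ev m F k) ∈ X :=
      h (smul_vv_mem_SymLE _ le_rfl)
    have h2 := step3 k le_rfl (ν / (dl δ k) ^ 2 * dl δ k)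
    have key : ν • vecMulVec (ev m F (k + 1)) (ev m F (k + 1)) =
        (ν / (dl δ k) ^ 2) • vecMulVec (ev m F k + dl δ k • ev m F (k + 1))
            (ev m F k + dl δ k • ev m F (k + 1))
          - (ν / (dl δ k) ^ 2) • vecMulVec (ev m F k) (ev m F k)
          - (ν / (dl δ k) ^ 2 * dl δ k) • sy (ev m F k) (ev m F (k + 1)) := by
      ext r c
      simp only [sy_apply, vecMulVec_apply, Matrix.sub_apply, Matrix.smul_apply, Pi.add_apply,
        Pi.smul_apply, smul_eq_mul]
      field_simp
      ring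
    rw [key]
    exact X.sub_mem (X.sub_mem h0 h1) h2
  -- Step 5a: all `sy v e_{k+1}` with `v` supported on `≤ k`
  have step5 : ∀ j, j ≤ k + 1 → ∀ v : Fin (m + 2) → F, (∀ i : Fin (m + 2), j ≤ i.val → v i = 0) →
      sy v (ev m F (k + 1)) ∈ X := by
    intro j
    induction j with
    | zero =>
      intro _ v hv
      have hv0 : v = 0 := by
        ext i
        exact hv i (Nat.zero_le _)
      rw [hv0]
      have : sy (0 : Fin (m + 2) → F) (ev m F (k + 1)) = 0 := by
        ext r c
        simp [sy_apply]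
      rw [this]
      exact X.zero_mem
    | succ j ih =>
      intro hj v hv
      have hjn : j < m + 2 := by omega
      obtain ⟨w, hw⟩ : ∃ w : Fin (m + 2) → F, w = fun i => if i.val = j then 0 else v i := ⟨_, rfl⟩
      have hw0 : ∀ i : Fin (m + 2), j ≤ i.val → w i = 0 := by
        intro i hi
        rw [hw]
        by_cases hij : i.val = j
        · simp [hij]
        · simp only [hij, if_false]
          exact hv i (by omega)
      have hvr : ∀ r : Fin (m + 2), v r = w r + v ⟨j, hjn⟩ * ev m F j r := by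
        intro r
        by_cases hr : r.val = j
        · have hr' : r = ⟨j, hjn⟩ := Fin.ext hr
          rw [hr', hw]
          simp [ev]
        · rw [hw]
          simp [ev, hr]
      have h1 := ih (by omega) w hw0
      have h2 := step3 j (by omega) (v ⟨j, hjn⟩)
      have key : sy v (ev m F (k + 1)) =
          sy w (ev m F (k + 1)) + v ⟨j, hjn⟩ • sy (ev m F j) (ev m F (k + 1)) := by
        ext r c
        simp only [sy_apply, Matrix.add_apply, Matrix.smul_apply, smul_eq_mul]
        rw [hvr r, hvr c]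
        ring
      rw [key]
      exact X.add_mem h1 h2
  -- Step 5b: assemble
  intro S hS
  obtain ⟨hSsym, hSz⟩ := hS
  set q : Fin (m + 2) := ⟨k + 1, hk⟩ with hq
  set v : Fin (m + 2) → F := fun i => if i.val ≤ k then S i q else 0 with hv
  have hSqc : ∀ r c : Fin (m + 2), S r c = S c r := by
    intro r c
    have := congrFun (congrFun hSsym c) r
    simpa [Matrix.transpose_apply] using this
  have hS' : S - sy v (ev m F (k + 1)) - S q q • vecMulVec (ev m F (k + 1)) (ev m F (k + 1)) ∈ SymLE m k := by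
    refine ⟨?_, ?_⟩
    · rw [transpose_sub, transpose_sub, transpose_smul, transpose_vecMulVec, sy_transpose, hSsym]
    · intro r c hrc
      simp only [Matrix.sub_apply, Matrix.smul_apply, sy_apply, vecMulVec_apply, smul_eq_mul]
      have hE : ∀ i : Fin (m + 2), ev m F (k + 1) i = if i.val = k + 1 then 1 else 0 := fun i => rfl
      have hvv : ∀ i : Fin (m + 2), v i = if i.val ≤ k then S i q else 0 := fun i => rfl
      rw [hE r, hE c, hvv r, hvv c]
      by_cases hr1 : k + 1 < r.val
      · have hr2 : ¬ r.val ≤ k := by omega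
        have hr3 : ¬ r.val = k + 1 := by omega
        simp only [if_neg hr2, if_neg hr3]
        rw [hSz r c (Or.inl hr1)]
        ring
      · by_cases hc1 : k + 1 < c.val
        · have hc2 : ¬ c.val ≤ k := by omega
          have hc3 : ¬ c.val = k + 1 := by omega
          simp only [if_neg hc2, if_neg hc3]
          rw [hSz r c (Or.inr hc1)]
          ring
        · by_cases hr2 : r.val = k + 1
          · have hrq : r = q := Fin.ext hr2
            have hr3 : ¬ r.val ≤ k := by omega
            by_cases hc2 : c.val = k + 1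
            · have hcq : c = q := Fin.ext hc2
              have hc3 : ¬ c.val ≤ k := by omega
              simp only [if_pos hr2, if_neg hr3, if_pos hc2, if_neg hc3]
              rw [hrq, hcq]
              ring
            · have hc3 : c.val ≤ k := by omega
              simp only [if_pos hr2, if_neg hr3, if_neg hc2, if_pos hc3]
              rw [hrq, hSqc q c]
              ring
          · have hr3 : r.val ≤ k := by omega
            have hc2 : c.val = k + 1 := by omega
            have hcq : c = q := Fin.ext hc2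
            have hc3 : ¬ c.val ≤ k := by omega
            simp only [if_neg hr2, if_pos hr3, if_pos hc2, if_neg hc3]
            rw [hcq]
            ring
  have h1 := h hS'
  have h2 := step5 (k + 1) le_rfl v (by
    intro i hi
    simp only [hv]
    rw [if_neg (by omega)])
  have h3 := step4 (S q q)
  have key : S = (S - sy v (ev m F (k + 1)) - S q q • vecMulVec (ev m F (k + 1)) (ev m F (k + 1)))
      + sy v (ev m F (k + 1)) + S q q • vecMulVec (ev m F (k + 1)) (ev m F (k + 1)) := by
    abel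
  rw [key]
  exact X.add_mem (X.add_mem h1 h2) h3

end Cfsg.Agent.Lib.Helper55.RSp
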