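import Cfsg.Agent.Lib.Helper55.SylowIn

set_option autoImplicit false

namespace Cfsg.Agent.Lib.Helper55

open Cfsg

section comm

variable {L : Type*} [Group L]

theorem comap_mk'_bot (N : Subgroup L) [N.Normal] :
    (⊥ : Subgroup (L ⧸ N)).comap (QuotientGroup.mk' N) = N := by
  have := QuotientGroup.ker_mk' N
  rw [MonoidHom.ker] at this
  exact this

/-- `⁅X, K⁆ ≤ N` iff `X` lies in the preimage of the centralizer of the image of `K` mod `N`. -/
theorem commutator_le_iff_le_comap (N : Subgroup L) [N.Normal] (X K : Subgroup L) :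
    ⁅X, K⁆ ≤ N ↔ X ≤ (Subgroup.centralizer ((K.map (QuotientGroup.mk' N) : Subgroup (L ⧸ N)) :
      Set (L ⧸ N))).comap (QuotientGroup.mk' N) := by
  rw [← Subgroup.map_le_iff_le_comap, ← Subgroup.commutator_eq_bot_iff_le_centralizer,
    ← Subgroup.map_commutator, ← le_bot_iff, Subgroup.map_le_iff_le_comap]
  rw [comap_mk'_bot]

/-- three subgroups lemma modulo a normal subgroup -/
theorem three_subgroups_mod (N : Subgroup L) [N.Normal] {H₁ H₂ H₃ : Subgroup L}
    (h1 : ⁅⁅H₂, H₃⁆, H₁⁆ ≤ N) (h2 : ⁅⁅H₃, H₁⁆, H₂⁆ ≤ N) : ⁅⁅H₁, H₂⁆, H₃⁆ ≤ N := by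
  have key : ∀ X : Subgroup L, X ≤ N ↔ X.map (QuotientGroup.mk' N) = ⊥ := by
    intro X
    rw [← le_bot_iff, Subgroup.map_le_iff_le_comap]
    rw [comap_mk'_bot]
  rw [key, Subgroup.map_commutator, Subgroup.map_commutator] at h1 h2 ⊢
  exact Subgroup.commutator_commutator_eq_bot_of_rotate h1 h2

/-- passing to the normal closure in a commutator inclusion -/
theorem commutator_normalClosure_le (N K : Subgroup L) [N.Normal] [K.Normal] (X : Subgroup L)
    (h : ⁅X, K⁆ ≤ N) : ⁅Subgroup.normalClosure (X : Set L), K⁆ ≤ N := by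
  rw [commutator_le_iff_le_comap] at h ⊢
  have hK : (K.map (QuotientGroup.mk' N)).Normal :=
    Subgroup.Normal.map inferInstance _ (QuotientGroup.mk'_surjective N)
  exact Subgroup.normalClosure_le_normal h

end comm

section series

variable {L : Type*} [Group L]

/-- the series `B 0 = J`, `B (k + 1) = ⁅B k, A⁆` -/
def commSeries (J A : Subgroup L) : ℕ → Subgroup L
  | 0 => J
  | k + 1 => ⁅commSeries J A k, A⁆

theorem commSeries_zero (J A : Subgroup L) : commSeries J A 0 = J := rfl

theorem commSeries_succ (J A : Subgroup L) (k : ℕ) :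
    commSeries J A (k + 1) = ⁅commSeries J A k, A⁆ := rfl

theorem commSeries_normal (J A : Subgroup L) [hJ : J.Normal] [hA : A.Normal] :
    ∀ k, (commSeries J A k).Normal
  | 0 => hJ
  | k + 1 => by
    have := commSeries_normal J A k
    rw [commSeries_succ]
    infer_instance

theorem commSeries_le (J A : Subgroup L) [hA : A.Normal] (hJA : J ≤ A) :
    ∀ k, commSeries J A k ≤ A
  | 0 => hJA
  | k + 1 => by
    rw [commSeries_succ]
    exact Subgroup.commutator_le_right _ _

theorem commSeries_succ_le (J A : Subgroup L) [hJ : J.Normal] [hA : A.Normal] (k : ℕ) :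
    commSeries J A (k + 1) ≤ commSeries J A k := by
  have := commSeries_normal J A k
  rw [commSeries_succ]
  exact Subgroup.commutator_le_left _ _

theorem commSeries_le_lowerCentralSeries (J A : Subgroup L) (hJA : J ≤ A) :
    ∀ k, commSeries J A k ≤ A.lowerCentralSeries k
  | 0 => hJA
  | k + 1 => by
    have ih := commSeries_le_lowerCentralSeries J A hJA k
    rw [commSeries_succ, Subgroup.lowerCentralSeries_succ]
    exact Subgroup.commutator_mono ih le_rfl

theorem commSeries_eq_bot [Finite L] {p : ℕ} [Fact p.Prime] {J A : Subgroup L} (hA : IsPGroup p A)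
    (hJA : J ≤ A) : ∃ n, commSeries J A n = ⊥ := by
  have : Group.IsNilpotent A := hA.isNilpotent
  obtain ⟨n, hn⟩ := (Subgroup.isNilpotent_iff_lowerCentralSeries A).mp this
  refine ⟨n, ?_⟩
  have := commSeries_le_lowerCentralSeries J A hJA n
  rw [hn] at this
  exact le_bot_iff.mp this

end series

section main

open scoped commutatorElement

theorem mem_centralizer_bot {L : Type*} [Group L] (w : L) :
    w ∈ Subgroup.centralizer ((⊥ : Subgroup L) : Set L) := by
  rw [Subgroup.mem_centralizer_iff]
  intro h hh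
  rw [Subgroup.coe_bot, Set.mem_singleton_iff] at hh
  rw [hh, one_mul, mul_one]

variable {L : Type*} [Group L] [Finite L] {p : ℕ} [Fact p.Prime]

omit [Finite L] [Fact p.Prime] in
/-- a normal `p`-subgroup lies in `O_p` -/
theorem le_pCore_of_forall_cj_le {T : Subgroup L} (hT : IsPGroup p T) (h : ∀ l : L, cj l T ≤ T) :
    T ≤ pCore p L := by
  have hn : (⊤ : Subgroup L) ≤ Subgroup.normalizer (T : Set L) :=
    le_normalizer_of_cj_le (fun l _ => h l)
  have hN : T.Normal := by
    rw [← Subgroup.normalizer_eq_top_iff]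
    exact top_le_iff.mp hn
  exact le_pCore hN hT

/-- Stability-series lemma: let `A` be a normal `p`-subgroup of `L`, `I ≤ A`, and `Y ≤ L` with
`⁅Y, A⁆ ≤ ⁅I, A⁆`. If `C_L(A)` lies in a subgroup `D` having a normal `p`-subgroup `R ≥ Y`, then
`Y ≤ O_p(L)`. -/
theorem le_pCore_of_commutator_le {A I Y D R : Subgroup L} [hAn : A.Normal] (hA : IsPGroup p A)
    (hIA : I ≤ A) (hc : ⁅Y, A⁆ ≤ ⁅I, A⁆) (hCD : Subgroup.centralizer (A : Set L) ≤ D)
    (hDR : D ≤ Subgroup.normalizer (R : Set L)) (hR : IsPGroup p R) (hYR : Y ≤ R) :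
    Y ≤ pCore p L := by
  have hp : p.Prime := Fact.out
  set J := Subgroup.normalClosure (I : Set L) with hJ
  set W := Subgroup.normalClosure (Y : Set L) with hW
  have hJA : J ≤ A := Subgroup.normalClosure_le_normal hIA
  have hIJ : I ≤ J := Subgroup.le_normalClosure
  have hYW : Y ≤ W := Subgroup.le_normalClosure
  have hYp : IsPGroup p Y := hR.to_le hYR
  have hBn : ∀ k, (commSeries J A k).Normal := commSeries_normal J A
  -- (1) `⁅W, A⁆ ≤ B 1`
  have h1 : ⁅W, A⁆ ≤ commSeries J A 1 := by
    have := hBn 1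
    apply commutator_normalClosure_le
    exact hc.trans (Subgroup.commutator_mono hIJ le_rfl)
  -- (2) `⁅B k, W⁆ ≤ B (k + 1)`
  have h2 : ∀ k, ⁅commSeries J A k, W⁆ ≤ commSeries J A (k + 1) := by
    intro k
    induction k with
    | zero =>
      rw [Subgroup.commutator_comm]
      exact (Subgroup.commutator_mono le_rfl hJA).trans h1
    | succ k ih =>
      have := hBn (k + 1 + 1)
      rw [commSeries_succ J A k]
      apply three_subgroups_mod
      · have hAW : ⁅A, W⁆ ≤ ⁅J, A⁆ := by rw [Subgroup.commutator_comm]; exact h1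
        refine (Subgroup.commutator_mono hAW le_rfl).trans ?_
        apply three_subgroups_mod
        · rw [Subgroup.commutator_comm A (commSeries J A k), commSeries_succ, commSeries_succ]
          exact Subgroup.commutator_mono le_rfl hJA
        · rw [commSeries_succ, commSeries_succ]
          exact Subgroup.commutator_mono (Subgroup.commutator_mono le_rfl hJA) le_rfl
      · rw [Subgroup.commutator_comm W (commSeries J A k), commSeries_succ J A (k + 1)]
        exact Subgroup.commutator_mono ih le_rfl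
  -- (α) elements of `W` of order prime to `p` centralize `A`
  obtain ⟨n, hn⟩ := commSeries_eq_bot hA hJA
  have hBp : ∀ k, IsPGroup p (commSeries J A k) := fun k => hA.to_le (commSeries_le J A hJA k)
  have hα : ∀ w ∈ W, (orderOf w).Coprime p → w ∈ Subgroup.centralizer (A : Set L) := by
    intro w hw hcop
    have hcomm : ∀ (X : Subgroup L) (q : L), q ∈ X → q⁻¹ * w⁻¹ * q * w ∈ ⁅X, W⁆ := by
      intro X q hq
      have e : q⁻¹ * w⁻¹ * q * w = ⁅q⁻¹, w⁻¹⁆ := by simp [commutatorElement_def]
      rw [e]
      exact Subgroup.commutator_mem_commutator (X.inv_mem hq) (W.inv_mem hw)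
    have hcent : ∀ k, k ≤ n → w ∈ Subgroup.centralizer (commSeries J A (n - k) : Set L) := by
      intro k
      induction k with
      | zero =>
        intro _
        rw [Nat.sub_zero, hn]
        exact mem_centralizer_bot w
      | succ k ih =>
        intro hk
        have ih' := ih (by omega)
        have e : n - k = (n - (k + 1)) + 1 := by omega
        rw [e] at ih'
        apply mem_centralizer_of_coprime (hBp _) hcop
        intro q hq
        have hmem : q⁻¹ * w⁻¹ * q * w ∈ commSeries J A (n - (k + 1) + 1) :=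
          h2 _ (hcomm _ q hq)
        exact ⟨commSeries_succ_le J A _ hmem,
          ((Subgroup.mem_centralizer_iff.mp ih') _ hmem).symm⟩
    have h0 : w ∈ Subgroup.centralizer (commSeries J A 1 : Set L) := by
      rcases Nat.lt_or_ge n 1 with h | h
      · have hn0 : n = 0 := by omega
        have : commSeries J A 1 ≤ commSeries J A 0 := commSeries_succ_le J A 0
        rw [← hn0, hn] at this
        rw [le_bot_iff.mp this]
        exact mem_centralizer_bot w
      · have := hcent (n - 1) (by omega)
        have e : n - (n - 1) = 1 := by omega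
        rwa [e] at this
    apply mem_centralizer_of_coprime hA hcop
    intro q hq
    have hmem : q⁻¹ * w⁻¹ * q * w ∈ commSeries J A 1 := by
      apply h1
      rw [Subgroup.commutator_comm]
      exact hcomm A q hq
    exact ⟨commSeries_le J A hJA 1 hmem, ((Subgroup.mem_centralizer_iff.mp h0) _ hmem).symm⟩
  -- endgame
  set C := W ⊓ Subgroup.centralizer (A : Set L) with hC
  have hWn : W.Normal := Subgroup.normalClosure_normal
  have hCn : C.Normal := inferInstance
  have hCD' : C ≤ D := inf_le_right.trans hCD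
  have hCW : C ≤ W := inf_le_left
  have h3 : ⁅Y, C⁆ ≤ pCore p L := by
    have hRC : R ⊓ C ≤ pCore p L := by
      have h4 : R ⊓ C ≤ pCoreOf p C := by
        apply le_pCoreOf inf_le_right
        · exact (le_inf (hCD'.trans hDR) Subgroup.le_normalizer).trans
            Subgroup.inf_normalizer_le_normalizer_inf
        · exact hR.to_le inf_le_left
      refine h4.trans ?_
      apply le_pCore_of_forall_cj_le (isPGroup_pCoreOf C)
      intro l
      rw [← pCoreOf_cj]
      have : cj l C = C := cj_eq_self_iff.mpr (by rw [Subgroup.normalizer_eq_top]; trivial)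
      rw [this]
    refine le_trans ?_ hRC
    apply le_inf
    · have : ⁅R, D⁆ ≤ R := Subgroup.le_normalizer_iff_commutator_le_left.mp hDR
      exact (Subgroup.commutator_mono hYR hCD').trans this
    · exact Subgroup.commutator_le_right _ _
  have h5 : ⁅W, C⁆ ≤ pCore p L := commutator_normalClosure_le _ _ _ h3
  obtain ⟨T, hT, hYT⟩ := exists_isSylowIn_ge hYW hYp
  have hP₁T : pCore p L ⊓ W ≤ T := by
    apply hT.normal_le inf_le_right (isPGroup_pCore.to_le inf_le_left)
    have : (pCore p L ⊓ W).Normal := inferInstance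
    rw [Subgroup.normalizer_eq_top]
    exact le_top
  have hCT : C ≤ Subgroup.normalizer (T : Set L) := by
    apply le_normalizer_of_cj_le
    intro c hc x hx
    rw [mem_cj] at hx
    have hx' : x = ⁅c, c⁻¹ * x * c⁆ * (c⁻¹ * x * c) := by
      simp only [commutatorElement_def]
      group
    have hcomm : ⁅c, c⁻¹ * x * c⁆ ∈ pCore p L ⊓ W := by
      refine ⟨h5 ?_, ?_⟩
      · rw [Subgroup.commutator_comm]
        exact Subgroup.commutator_mem_commutator hc (hT.1 hx)
      · rw [commutatorElement_def]
        exact W.mul_mem (W.mul_mem (W.mul_mem (hCW hc) (hT.1 hx)) (W.inv_mem (hCW hc)))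
          (W.inv_mem (hT.1 hx))
    rw [hx']
    exact T.mul_mem (hP₁T hcomm) hx
  -- `W / C` is a `p`-group
  have hCnW : (C.subgroupOf W).Normal := inferInstance
  have hquot : IsPGroup p (W ⧸ C.subgroupOf W) := by
    intro x
    obtain ⟨w, rfl⟩ := QuotientGroup.mk_surjective x
    have hx0 : orderOf (w : L) ≠ 0 := (orderOf_pos (w : L)).ne'
    obtain ⟨e, m, hm, hwm⟩ := Nat.exists_eq_pow_mul_and_not_dvd hx0 p hp.ne_one
    refine ⟨e, ?_⟩
    rw [← QuotientGroup.mk_pow, QuotientGroup.eq_one_iff, Subgroup.mem_subgroupOf]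
    have hpe : p ^ e ≠ 0 := pow_ne_zero _ hp.ne_zero
    have h1 : orderOf ((w : L) ^ p ^ e) = m := by
      rw [orderOf_pow' _ hpe, hwm, Nat.gcd_eq_right (Dvd.intro _ rfl)]
      exact Nat.mul_div_cancel_left m (Nat.pos_of_ne_zero hpe)
    have h2' : (orderOf ((w : L) ^ p ^ e)).Coprime p := by
      rw [h1]
      exact ((Nat.Prime.coprime_iff_not_dvd hp).mpr hm).symm
    have hmemW : (w : L) ^ p ^ e ∈ W := W.pow_mem w.2 _
    rw [Subgroup.coe_pow]
    exact ⟨hmemW, hα _ hmemW h2'⟩
  obtain ⟨j, hj⟩ := IsPGroup.iff_card.mp hquot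
  have hidx : (C.subgroupOf W).index = p ^ j := by
    rw [Subgroup.index_eq_card]; exact hj
  have hle : C.subgroupOf W ≤ Subgroup.normalizer (((hT.toSylow : Sylow p W) : Subgroup W) : Set W) := by
    intro c hc
    rw [Subgroup.mem_subgroupOf] at hc
    have hcN := hCT hc
    rw [Subgroup.mem_normalizer_iff] at hcN ⊢
    intro x
    rw [hT.coe_toSylow, Subgroup.mem_subgroupOf, Subgroup.mem_subgroupOf]
    exact hcN x
  have hdvd : (Subgroup.normalizer (((hT.toSylow : Sylow p W) : Subgroup W) : Set W)).index ∣ p ^ j :=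
    hidx ▸ Subgroup.index_dvd_of_le hle
  have hmod : Nat.card (Sylow p W) ≡ 1 [MOD p] := card_sylow_modEq_one p W
  rw [Sylow.card_eq_index_normalizer (hT.toSylow : Sylow p W)] at hmod
  replace hmod : (Subgroup.normalizer (((hT.toSylow : Sylow p W) : Subgroup W) : Set W)).index ≡ 1
      [MOD p] := hmod
  obtain ⟨i, -, hi⟩ := (Nat.dvd_prime_pow hp).mp hdvd
  have hi0 : i = 0 := by
    by_contra h
    rw [hi] at hmod
    have h0 : p ^ i ≡ 0 [MOD p] := (Nat.modEq_zero_iff_dvd).mpr (dvd_pow_self p h)
    have h01 : 0 ≡ 1 [MOD p] := h0.symm.trans hmod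
    have : p ∣ 1 := (Nat.modEq_zero_iff_dvd).mp h01.symm
    exact hp.one_lt.ne' (Nat.dvd_one.mp this)
  have hnorm : Subgroup.normalizer (((hT.toSylow : Sylow p W) : Subgroup W) : Set W) = ⊤ :=
    Subgroup.index_eq_one.mp (by rw [hi, hi0, pow_zero])
  have hWT : W ≤ Subgroup.normalizer (T : Set L) := by
    apply le_normalizer_of_cj_le
    intro w hw x hx
    rw [mem_cj] at hx
    have hxW : x ∈ W := by
      have : x = w * (w⁻¹ * x * w) * w⁻¹ := by group
      rw [this]
      exact W.mul_mem (W.mul_mem hw (hT.1 hx)) (W.inv_mem hw)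
    have hmem : (⟨w, hw⟩ : W)⁻¹ ∈
        Subgroup.normalizer (((hT.toSylow : Sylow p W) : Subgroup W) : Set W) := by
      rw [hnorm]; trivial
    rw [Subgroup.mem_normalizer_iff] at hmem
    have := (hmem ⟨x, hxW⟩).mpr (by
      rw [hT.coe_toSylow, Subgroup.mem_subgroupOf]
      simpa using hx)
    rw [hT.coe_toSylow, Subgroup.mem_subgroupOf] at this
    exact this
  have hTL : ∀ l : L, cj l T ≤ T := by
    intro l
    have h6 : IsSylowIn p W (cj l⁻¹ T) := by
      have := isSylowIn_cj hT l⁻¹
      have e : cj l⁻¹ W = W :=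
        cj_eq_self_iff.mpr (by rw [Subgroup.normalizer_eq_top]; trivial)
      rwa [e] at this
    have := h6.normal_le hT.1 hT.2.1 hWT
    rw [cj_le_iff]
    exact this
  exact hYT.trans (le_pCore_of_forall_cj_le hT.2.1 hTL)

end main

end Cfsg.Agent.Lib.Helper55
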