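import Cfsg.Agent.Lib.Helper55.SylowIn
import Cfsg.Prelude.Def_EvenType

set_option autoImplicit false

namespace Cfsg.Agent.Lib.Helper55

open Cfsg

section

variable {G : Type*} [Group G] {p : ℕ}

/-- the normalizer property of strongly `p`-embedded subgroups -/
def NormProp (p : ℕ) (Y : Subgroup G) : Prop :=
  ∀ Q : Subgroup G, Q ≤ Y → IsPGroup p Q → Q ≠ ⊥ → Subgroup.normalizer (Q : Set G) ≤ Y

theorem normProp_cj {Y : Subgroup G} (h : NormProp p Y) (g : G) : NormProp p (cj g Y) := by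
  intro Q hQY hQp hQ1
  rw [le_cj_iff] at hQY
  have := h (cj g⁻¹ Q) hQY (isPGroup_cj hQp) (cj_ne_bot hQ1)
  rw [← cj_normalizer, cj_le_iff, inv_inv] at this
  exact this

theorem ne_bot_of_not_pRankLE_zero {Q : Subgroup G} (h : ¬ PRankLE p 0 ↥Q) : Q ≠ ⊥ := by
  intro hQ
  apply h
  intro A _ _
  have : Subsingleton ↥Q := by rw [hQ]; infer_instance
  have : Subsingleton ↥A := inferInstance
  rw [pow_zero]
  exact Finite.card_le_one_iff_subsingleton.mpr this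

variable [Finite G] [Fact p.Prime]

theorem not_pRankLE_zero_of_ne_bot {Q : Subgroup G} (hQ : IsPGroup p Q) (hQ1 : Q ≠ ⊥) :
    ¬ PRankLE p 0 ↥Q := by
  intro h
  have : Nontrivial Q := (Subgroup.nontrivial_iff_ne_bot Q).mpr hQ1
  obtain ⟨n, hn0, hn⟩ := hQ.nontrivial_iff_card.mp inferInstance
  have hpQ : p ∣ Nat.card Q := hn.symm ▸ dvd_pow_self _ (ne_of_gt hn0)
  obtain ⟨x, hx⟩ := exists_prime_orderOf_dvd_card' p hpQ
  have h1 := h (Subgroup.zpowers x) inferInstance (by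
    intro a ha
    obtain ⟨k, rfl⟩ := Subgroup.mem_zpowers_iff.mp ha
    rw [← zpow_natCast, ← zpow_mul, mul_comm, zpow_mul, zpow_natCast, ← hx, pow_orderOf_eq_one,
      one_zpow])
  rw [Nat.card_zpowers, hx, pow_zero] at h1
  exact absurd h1 (not_le.mpr (Fact.out : p.Prime).one_lt)

theorem spe_sylow {Y : Subgroup G} (h : IsStronglyPEmbedded p Y) :
    ∃ P : Sylow p G, (P : Subgroup G) ≤ Y ∧
      ∀ Q : Subgroup G, Q ≤ P → Q ≠ ⊥ → Subgroup.normalizer (Q : Set G) ≤ Y := by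
  obtain ⟨hdvd, _, P, hP⟩ := h
  have key : ∀ Q : Subgroup G, Q ≤ P → Q ≠ ⊥ → Subgroup.normalizer (Q : Set G) ≤ Y := by
    intro Q hQP hQ1
    have hQp : IsPGroup p Q := P.isPGroup'.to_le hQP
    refine le_trans ?_ hP
    unfold kGeneratedCore
    exact le_iSup (fun Q : {Q : Subgroup G // Q ≤ P ∧ ¬ PRankLE p (1 - 1) Q} =>
      Subgroup.normalizer ((Q : Subgroup G) : Set G))
      ⟨Q, hQP, (by simpa using not_pRankLE_zero_of_ne_bot hQp hQ1)⟩
  refine ⟨P, ?_, key⟩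
  exact Subgroup.le_normalizer.trans (key P le_rfl (P.ne_bot_of_dvd_card hdvd))

theorem spe_normProp {Y : Subgroup G} (h : IsStronglyPEmbedded p Y) : NormProp p Y := by
  obtain ⟨P, hPY, hP⟩ := spe_sylow h
  intro Q hQY hQp hQ1
  obtain ⟨k, hk, hkQ⟩ := (isSylowIn_of_sylow_le P hPY).exists_conj_le hQY hQp
  have h1 := hP (cj k Q) hkQ (cj_ne_bot hQ1)
  rw [← cj_normalizer, cj_le_iff] at h1
  have : cj k⁻¹ Y = Y := cj_eq_self_of_mem (Y.inv_mem hk)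
  rwa [this] at h1

/-- Sylow `p`-subgroups of `X ⊓ Y` are Sylow in `X` when `Y` has the normalizer property and
`X ⊓ Y` has a nontrivial `p`-subgroup. -/
theorem normProp_sylow_inf {Y : Subgroup G} (h : NormProp p Y) (X : Subgroup G) {Z : Subgroup G}
    (hZ : IsPGroup p Z) (hZ1 : Z ≠ ⊥) (hZXY : Z ≤ X ⊓ Y) :
    ∃ R, Z ≤ R ∧ R ≤ X ⊓ Y ∧ IsSylowIn p X R := by
  obtain ⟨R, hR, hZR⟩ := exists_isSylowIn_ge hZXY hZ
  have hR1 : R ≠ ⊥ := fun e => hZ1 (le_bot_iff.mp (e ▸ hZR))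
  obtain ⟨T, hT, hRT⟩ := exists_isSylowIn_ge (hR.1.trans inf_le_left) hR.2.1
  have hN : T ⊓ Subgroup.normalizer (R : Set G) ≤ X ⊓ Y :=
    inf_le_inf hT.1 (h R (hR.1.trans inf_le_right) hR.2.1 hR1)
  have := hR.eq_of_normalizer_le hT.2.1 hRT hN
  rw [this] at hT
  exact ⟨R, hZR, hR.1, hT⟩

/-- the fixed point property -/
theorem normProp_mem_of_conj_mem {Y : Subgroup G} (h : NormProp p Y) {x g : G} (hx : x ∈ Y)
    (hx1 : x ≠ 1) (hxp : IsPGroup p (Subgroup.zpowers x)) (hgx : g * x * g⁻¹ ∈ Y) : g ∈ Y := by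
  set Y' := cj g⁻¹ Y with hY'
  have h' : NormProp p Y' := normProp_cj h g⁻¹
  have hxY' : x ∈ Y' := by rw [hY', mem_cj]; simpa using hgx
  have hZ : Subgroup.zpowers x ≤ Y ⊓ Y' := by
    rw [Subgroup.zpowers_le]; exact ⟨hx, hxY'⟩
  have hZ1 : Subgroup.zpowers x ≠ ⊥ := by
    rw [Ne, Subgroup.zpowers_eq_bot]; exact hx1
  obtain ⟨R, hR, hZR⟩ := exists_isSylowIn_ge hZ hxp
  have hR1 : R ≠ ⊥ := fun e => hZ1 (le_bot_iff.mp (e ▸ hZR))
  obtain ⟨S1, hRS1⟩ := hR.2.1.exists_le_sylow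
  have hN : (S1 : Subgroup G) ⊓ Subgroup.normalizer (R : Set G) ≤ Y ⊓ Y' :=
    inf_le_right.trans (le_inf (h R (hR.1.trans inf_le_left) hR.2.1 hR1)
      (h' R (hR.1.trans inf_le_right) hR.2.1 hR1))
  have hS1R : (S1 : Subgroup G) = R := hR.eq_of_normalizer_le S1.isPGroup' hRS1 hN
  have hS1Y : (S1 : Subgroup G) ≤ Y := hS1R ▸ hR.1.trans inf_le_left
  have hS1Y' : (S1 : Subgroup G) ≤ Y' := hS1R ▸ hR.1.trans inf_le_right
  have hgS1 : cj g (S1 : Subgroup G) ≤ Y := by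
    rw [hY', le_cj_iff, inv_inv] at hS1Y'
    exact hS1Y'
  have hS2 : ((g • S1 : Sylow p G) : Subgroup G) ≤ Y := by rw [coe_smul_sylow]; exact hgS1
  obtain ⟨k, hk, hkS⟩ := exists_conj_sylow_of_le (g • S1) S1 hS2 hS1Y
  rw [coe_smul_sylow, ← cj_mul] at hkS
  have h1 : k * g ∈ Subgroup.normalizer ((S1 : Subgroup G) : Set G) := cj_eq_self_iff.mp hkS
  have h2 : k * g ∈ Y := h S1 hS1Y S1.isPGroup' (hS1R ▸ hR1) h1
  have := Y.mul_mem (Y.inv_mem hk) h2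
  simpa using this

end

end Cfsg.Agent.Lib.Helper55
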