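import Cfsg.Agent.Lib.Helper55.WeakProd
import Cfsg.Agent.Lib.Helper54.Minimal
import Cfsg.Agent.Lib.Helper54.SylowLib

set_option autoImplicit false
set_option linter.unusedSectionVars false

namespace Cfsg.Agent.Lib.Helper55

open Cfsg
open scoped commutatorElement

section general

variable {G : Type*} [Group G] [Finite G] {p : ℕ} [Fact p.Prime]

/-- a Sylow subgroup of `K` meets a normal subgroup `N` of `K` in a Sylow subgroup of `N` -/
theorem IsSylowIn.inf_normal {K T N : Subgroup G} (h : IsSylowIn p K T) (hNK : N ≤ K)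
    (hKN : K ≤ Subgroup.normalizer (N : Set G)) : IsSylowIn p N (T ⊓ N) := by
  refine ⟨inf_le_right, h.2.1.to_le inf_le_left, ?_⟩
  intro T' hT'N hT'p hle
  obtain ⟨k, hk, hkT⟩ := h.exists_conj_le (hT'N.trans hNK) hT'p
  have h1 : cj k T' ≤ T ⊓ N := by
    refine le_inf hkT ?_
    have : cj k N = N := cj_eq_self_iff.mpr (hKN hk)
    rw [← this]; exact cj_mono hT'N
  have h2 : Nat.card T' ≤ Nat.card (T ⊓ N : Subgroup G) := by
    rw [← card_cj k T']
    exact Subgroup.card_le_of_le h1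
  exact (Subgroup.eq_of_le_of_card_ge hle h2).symm

/-- from a Sylow subgroup of `E O` (`O` a normal `p`-subgroup) to one of `E` -/
theorem IsSylowIn.of_sup {E O S : Subgroup G} (hO : O.Normal) (hOp : IsPGroup p O)
    (h : IsSylowIn p (E ⊔ O) S) (hOS : O ≤ S) : IsSylowIn p E (S ⊓ E) := by
  refine ⟨inf_le_right, h.2.1.to_le inf_le_left, ?_⟩
  intro T' hT'E hT'p hle
  have hp : IsPGroup p ↥(T' ⊔ O) := IsPGroup.to_sup_of_normal_right hT'p hOp
  have hS : S ≤ T' ⊔ O := by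
    intro s hs
    have hs2 : s ∈ O ⊔ E := by rw [sup_comm]; exact h.1 hs
    obtain ⟨o, ho, e, he, rfl⟩ := Helper54.exists_mul_of_mem_sup_of_le_normalizer
      (A := O) (B := E) (by rw [Subgroup.normalizer_eq_top_iff.2 hO]; exact le_top) hs2
    have he2 : e ∈ S := by
      have : e = o⁻¹ * (o * e) := by group
      rw [this]; exact S.mul_mem (S.inv_mem (hOS ho)) hs
    exact mul_mem (Subgroup.mem_sup_right ho) (Subgroup.mem_sup_left (hle ⟨he2, he⟩))
  have h3 := h.2.2 (T' ⊔ O) (sup_le (hT'E.trans le_sup_left) le_sup_right) hp hS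
  apply le_antisymm _ hle
  exact le_inf (by rw [← h3]; exact le_sup_left) hT'E

omit [Finite G] [Fact p.Prime] in
theorem pResOf_top (p : ℕ) : pResOf p (⊤ : Subgroup G) = pResidual p G := by
  have h := Helper54.map_pResidual_subtype p (⊤ : Subgroup G)
  rw [show pResOf p (⊤ : Subgroup G) = _ from h]
  unfold pResidual
  congr 1
  ext g
  simp

/-- a normal Sylow subgroup of `E` forces `E` to be `p`-closed -/
theorem isPClosed_of_isSylowIn_normal {E S : Subgroup G} (h : IsSylowIn p E S)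
    (hn : E ≤ Subgroup.normalizer (S : Set G)) : IsPClosed p ↥E := by
  apply Helper54.isPClosed_of_normal h.toSylow
  rw [h.coe_toSylow]
  exact (Subgroup.normal_subgroupOf_iff_le_normalizer h.1).2 hn

omit [Finite G] [Fact p.Prime] in
theorem cj_eq_self_of_normal {N : Subgroup G} (hN : N.Normal) (g : G) : cj g N = N := by
  rw [cj_eq_self_iff, Subgroup.normalizer_eq_top_iff.2 hN]; trivial

end general

section family

variable {H : Type*} [Group H] [Finite H] {p : ℕ} [Fact p.Prime] {𝒦 : Set (Subgroup H)}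

omit [Finite H] [Fact p.Prime] in
theorem fam_normal (hinv : ∀ h : H, ∀ E ∈ 𝒦, cj h E ∈ 𝒦) : (sSup 𝒦).Normal := by
  rw [← Subgroup.normalizer_eq_top_iff, eq_top_iff]
  apply le_normalizer_of_cj_le
  intro h _
  rw [cj_le_iff]
  apply sSup_le
  intro E hE
  rw [← cj_le_iff]
  exact le_sSup (hinv h E hE)

theorem fam_sup_sylow (hres : pResidual p H ≤ sSup 𝒦) (T : Sylow p H) :
    sSup 𝒦 ⊔ (T : Subgroup H) = ⊤ := by
  rw [eq_top_iff, ← Helper54.pResidual_sup_sylow T]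
  exact sup_le_sup_right hres _

theorem fam_isSylowIn_sup (hinv : ∀ h : H, ∀ E ∈ 𝒦, cj h E ∈ 𝒦)
    (hnorm : ∀ E ∈ 𝒦, sSup 𝒦 ⊔ pCore p H ≤
      Subgroup.normalizer ((E ⊔ pCore p H : Subgroup H) : Set H))
    (T : Sylow p H) {E : Subgroup H} (hE : E ∈ 𝒦) :
    IsSylowIn p (E ⊔ pCore p H) ((T : Subgroup H) ⊓ (E ⊔ pCore p H)) := by
  haveI hRn := fam_normal hinv
  have hRO : (sSup 𝒦 ⊔ pCore p H).Normal := inferInstance
  have h1 : IsSylowIn p ⊤ (T : Subgroup H) := isSylowIn_of_sylow_le T le_top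
  have h2 : IsSylowIn p (sSup 𝒦 ⊔ pCore p H) ((T : Subgroup H) ⊓ (sSup 𝒦 ⊔ pCore p H)) :=
    h1.inf_normal le_top (by rw [Subgroup.normalizer_eq_top_iff.2 hRO])
  have hle : E ⊔ pCore p H ≤ sSup 𝒦 ⊔ pCore p H := sup_le_sup_right (le_sSup hE) _
  have h3 := h2.inf_normal (N := E ⊔ pCore p H) hle (hnorm E hE)
  rw [inf_assoc, inf_eq_right.2 hle] at h3
  exact h3

theorem fam_isSylowIn (hinv : ∀ h : H, ∀ E ∈ 𝒦, cj h E ∈ 𝒦)
    (hnorm : ∀ E ∈ 𝒦, sSup 𝒦 ⊔ pCore p H ≤
      Subgroup.normalizer ((E ⊔ pCore p H : Subgroup H) : Set H))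
    (T : Sylow p H) {E : Subgroup H} (hE : E ∈ 𝒦) :
    IsSylowIn p E ((T : Subgroup H) ⊓ E) := by
  have h := fam_isSylowIn_sup hinv hnorm T hE
  have h2 := h.of_sup pCore_normal isPGroup_pCore (le_inf (pCore_le_sylow T) le_sup_right)
  rw [inf_assoc, inf_eq_right.2 (le_sup_left : E ≤ E ⊔ pCore p H)] at h2
  exact h2

theorem fam_trans (hinv : ∀ h : H, ∀ E ∈ 𝒦, cj h E ∈ 𝒦)
    (htr : ∀ E ∈ 𝒦, ∀ K ∈ 𝒦, ∃ h : H, K = cj h E) (hres : pResidual p H ≤ sSup 𝒦)
    (hnorm : ∀ E ∈ 𝒦, sSup 𝒦 ⊔ pCore p H ≤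
      Subgroup.normalizer ((E ⊔ pCore p H : Subgroup H) : Set H))
    (T : Sylow p H) {E K : Subgroup H} (hE : E ∈ 𝒦) (hK : K ∈ 𝒦) :
    ∃ t ∈ (T : Subgroup H), K ≤ cj t (E ⊔ pCore p H) := by
  obtain ⟨h, rfl⟩ := htr E hE K hK
  have hRn := fam_normal hinv
  have hh : h ∈ sSup 𝒦 ⊔ (T : Subgroup H) := by rw [fam_sup_sylow hres T]; trivial
  obtain ⟨r, hr, t, ht, rfl⟩ := Helper54.exists_mul_of_mem_sup_of_le_normalizer
    (A := sSup 𝒦) (B := (T : Subgroup H))
    (by rw [Subgroup.normalizer_eq_top_iff.2 hRn]; exact le_top) hh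
  refine ⟨t, ht, ?_⟩
  rw [cj_mul]
  have hE' : cj t E ∈ 𝒦 := hinv t E hE
  have h1 : cj r (cj t E ⊔ pCore p H) = cj t E ⊔ pCore p H :=
    cj_eq_self_iff.mpr (hnorm _ hE' (Subgroup.mem_sup_left hr))
  calc cj r (cj t E) ≤ cj r (cj t E ⊔ pCore p H) := cj_mono le_sup_left
    _ = cj t E ⊔ pCore p H := h1
    _ = cj t (E ⊔ pCore p H) := by
      show _ = Subgroup.map _ _
      rw [Subgroup.map_sup]
      show _ = cj t E ⊔ cj t (pCore p H)
      rw [cj_eq_self_of_normal pCore_normal]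

end family

section partA

variable {H : Type*} [Group H] [Finite H] {p : ℕ} [Fact p.Prime] {𝒦 : Set (Subgroup H)}

omit [Finite H] [Fact p.Prime] in
theorem cj_injective (x : H) {A B : Subgroup H} (h : cj x A = cj x B) : A = B := by
  have := congrArg (cj x⁻¹) h
  rwa [cj_inv_cj, cj_inv_cj] at this

/-- ambient form of `IsMinimalOver` for a Sylow subgroup `P` of `E` -/
theorem minimalOver_ambient {E P : Subgroup H} (hP : IsSylowIn p E P)
    (hmin : IsMinimalOver ((hP.toSylow : Sylow p ↥E) : Subgroup ↥E)) :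
    P ≠ E ∧ (∀ M : Subgroup H, M ≤ E → E ≤ Subgroup.normalizer (M : Set H) → P ≤ M → M = E) ∧
    ∃ M₀ : Subgroup H, M₀ ≤ E ∧ M₀ ≠ E ∧
      ∀ Y : Subgroup H, P ≤ Y → Y ≤ E → Y ≠ E → Y ≤ M₀ := by
  rw [hP.coe_toSylow] at hmin
  refine ⟨?_, ?_, ?_⟩
  · intro e
    apply Helper54.minimalOver_ne_top hmin
    rw [Subgroup.subgroupOf_eq_top, e]
  · intro M hME hEM hPM
    have hn : (M.subgroupOf E).Normal := (Subgroup.normal_subgroupOf_iff_le_normalizer hME).2 hEM
    have := Helper54.minimalOver_eq_top_of_normal hmin hn (Subgroup.comap_mono hPM)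
    rw [Subgroup.subgroupOf_eq_top] at this
    exact le_antisymm hME this
  · obtain ⟨M, ⟨hMco, hPM⟩, -⟩ := hmin.2
    refine ⟨M.map E.subtype, Subgroup.map_subtype_le _, ?_, ?_⟩
    · intro e
      apply hMco.1
      rw [eq_top_iff]
      intro x _
      have hx : (x : H) ∈ M.map E.subtype := by rw [e]; exact x.2
      obtain ⟨m, hm, hmx⟩ := hx
      have : m = x := Subtype.ext hmx
      rwa [← this]
    · intro Y hPY hYE hYne
      have hY : Y.subgroupOf E ≠ ⊤ := by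
        rw [Ne, Subgroup.subgroupOf_eq_top]
        intro h; exact hYne (le_antisymm hYE h)
      have h3 : Y.subgroupOf E ≤ M :=
        Helper54.minimalOver_le_coatom hmin hMco hPM (Subgroup.comap_mono hPY) hY
      have h2 := Subgroup.map_mono (f := E.subtype) h3
      rwa [Subgroup.map_subgroupOf_eq_of_le hYE] at h2

/-- the join of all proper subgroups of `E` containing `T ∩ E` -/
def mxOf (T E : Subgroup H) : Subgroup H :=
  ⨆ (Y : Subgroup H) (_ : T ⊓ E ≤ Y ∧ Y ≤ E ∧ Y ≠ E), Y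

/-- a proper subgroup containing a Sylow subgroup contains no member of the family -/
theorem fam_not_le (hinv : ∀ h : H, ∀ E ∈ 𝒦, cj h E ∈ 𝒦)
    (htr : ∀ E ∈ 𝒦, ∀ K ∈ 𝒦, ∃ h : H, K = cj h E) (hres : pResidual p H ≤ sSup 𝒦)
    (hnorm : ∀ E ∈ 𝒦, sSup 𝒦 ⊔ pCore p H ≤
      Subgroup.normalizer ((E ⊔ pCore p H : Subgroup H) : Set H))
    (T : Sylow p H) {L : Subgroup H} (hTL : (T : Subgroup H) ≤ L) (hL : L ≠ ⊤)
    {E : Subgroup H} (hE : E ∈ 𝒦) : ¬ E ≤ L := by
  intro hEL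
  apply hL
  rw [eq_top_iff, ← fam_sup_sylow hres T]
  refine sup_le (sSup_le ?_) hTL
  intro K hK
  obtain ⟨t, ht, hKt⟩ := fam_trans hinv htr hres hnorm T hE hK
  refine hKt.trans ?_
  have h1 : E ⊔ pCore p H ≤ L := sup_le hEL ((pCore_le_sylow T).trans hTL)
  have h2 : cj t L = L := cj_eq_self_of_mem (hTL ht)
  rw [← h2]
  exact cj_mono h1

theorem mxOf_cj (hinv : ∀ h : H, ∀ E ∈ 𝒦, cj h E ∈ 𝒦)
    (htr : ∀ E ∈ 𝒦, ∀ K ∈ 𝒦, ∃ h : H, K = cj h E) (hres : pResidual p H ≤ sSup 𝒦)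
    (hnorm : ∀ E ∈ 𝒦, sSup 𝒦 ⊔ pCore p H ≤
      Subgroup.normalizer ((E ⊔ pCore p H : Subgroup H) : Set H))
    (hmin : ∀ E ∈ 𝒦, ∀ T : Sylow p ↥E, IsMinimalOver (T : Subgroup ↥E))
    (T : Sylow p H) {L : Subgroup H} (hTL : (T : Subgroup H) ≤ L) (hL : L ≠ ⊤)
    {x : H} (hx : x ∈ L) {E : Subgroup H} (hE : E ∈ 𝒦) :
    cj x (mxOf (T : Subgroup H) E) = mxOf (T : Subgroup H) (cj x E) := by
  have hE' : cj x E ∈ 𝒦 := hinv x E hE
  have hP₁ := fam_isSylowIn hinv hnorm T hE'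
  have hP₂ := isSylowIn_cj (fam_isSylowIn hinv hnorm T hE) x
  obtain ⟨-, -, M₁, hM₁E, hM₁ne, hM₁⟩ := minimalOver_ambient hP₁ (hmin _ hE' _)
  obtain ⟨-, -, M₂, hM₂E, hM₂ne, hM₂⟩ := minimalOver_ambient hP₂ (hmin _ hE' _)
  have hLE : L ⊓ cj x E ≠ cj x E := fun e =>
    fam_not_le hinv htr hres hnorm T hTL hL hE' (by rw [← e]; exact inf_le_left)
  have hP₁L : (T : Subgroup H) ⊓ cj x E ≤ L ⊓ cj x E := inf_le_inf_right _ hTL
  have hP₂L : cj x ((T : Subgroup H) ⊓ E) ≤ L ⊓ cj x E := by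
    refine le_inf ?_ (cj_mono inf_le_right)
    have h2 : cj x L = L := cj_eq_self_of_mem hx
    rw [← h2]
    exact cj_mono (inf_le_left.trans hTL)
  have h1 : L ⊓ cj x E ≤ M₁ := hM₁ _ hP₁L inf_le_right hLE
  have h2 : L ⊓ cj x E ≤ M₂ := hM₂ _ hP₂L inf_le_right hLE
  have h12 : M₁ = M₂ :=
    le_antisymm (hM₂ M₁ (hP₂L.trans h1) hM₁E hM₁ne) (hM₁ M₂ (hP₁L.trans h2) hM₂E hM₂ne)
  have e1 : mxOf (T : Subgroup H) (cj x E) = M₁ := by
    apply le_antisymm
    · apply iSup₂_le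
      rintro Y ⟨hY1, hY2, hY3⟩
      exact hM₁ Y hY1 hY2 hY3
    · exact le_iSup₂_of_le M₁ ⟨hP₁L.trans h1, hM₁E, hM₁ne⟩ le_rfl
  have e2 : cj x (mxOf (T : Subgroup H) E) = M₂ := by
    apply le_antisymm
    · rw [cj_le_iff]
      apply iSup₂_le
      rintro Y ⟨hY1, hY2, hY3⟩
      rw [← cj_le_iff]
      exact hM₂ (cj x Y) (cj_mono hY1) (cj_mono hY2) (fun e => hY3 (cj_injective x e))
    · rw [le_cj_iff]
      refine le_iSup₂_of_le (cj x⁻¹ M₂) ⟨?_, ?_, ?_⟩ le_rfl
      · rw [← cj_le_iff]; exact hP₂L.trans h2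
      · rw [cj_le_iff, inv_inv]; exact hM₂E
      · intro e
        apply hM₂ne
        rw [← e, cj_cj_inv]
  rw [e2, e1, h12]

/-- the stabilizer of the family of maximal subgroups -/
def famStab (hinv : ∀ h : H, ∀ E ∈ 𝒦, cj h E ∈ 𝒦) (T : Subgroup H) : Subgroup H where
  carrier := {h | ∀ E ∈ 𝒦, cj h (mxOf T E) = mxOf T (cj h E)}
  one_mem' := by
    intro E _
    rw [cj_one, cj_one]
  mul_mem' := by
    intro a b ha hb E hE
    rw [cj_mul, cj_mul, hb E hE, ha _ (hinv b E hE)]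
  inv_mem' := by
    intro a ha E hE
    have h1 := ha _ (hinv a⁻¹ E hE)
    rw [cj_cj_inv] at h1
    rw [← h1, cj_inv_cj]

theorem fam_minimalOver (hne : 𝒦.Nonempty) (hinv : ∀ h : H, ∀ E ∈ 𝒦, cj h E ∈ 𝒦)
    (htr : ∀ E ∈ 𝒦, ∀ K ∈ 𝒦, ∃ h : H, K = cj h E) (hres : pResidual p H ≤ sSup 𝒦)
    (hnorm : ∀ E ∈ 𝒦, sSup 𝒦 ⊔ pCore p H ≤
      Subgroup.normalizer ((E ⊔ pCore p H : Subgroup H) : Set H))
    (hmin : ∀ E ∈ 𝒦, ∀ T : Sylow p ↥E, IsMinimalOver (T : Subgroup ↥E))
    (T : Sylow p H) : IsMinimalOver (T : Subgroup H) := by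
  obtain ⟨E₀, hE₀⟩ := hne
  have hTtop : (T : Subgroup H) ≠ ⊤ := by
    intro e
    have hP := fam_isSylowIn hinv hnorm T hE₀
    obtain ⟨h1, -, -⟩ := minimalOver_ambient hP (hmin _ hE₀ _)
    apply h1
    rw [e, top_inf_eq]
  constructor
  · -- normal closure
    rw [eq_top_iff, ← fam_sup_sylow hres T]
    refine sup_le (sSup_le ?_) Subgroup.le_normalClosure
    intro E hE
    have hP := fam_isSylowIn hinv hnorm T hE
    obtain ⟨-, h2, -⟩ := minimalOver_ambient hP (hmin _ hE _)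
    have hNn : (Subgroup.normalClosure ((T : Subgroup H) : Set H)).Normal :=
      Subgroup.normalClosure_normal
    have := h2 (Subgroup.normalClosure ((T : Subgroup H) : Set H) ⊓ E) inf_le_right
      ((le_inf (by rw [Subgroup.normalizer_eq_top_iff.2 hNn]; exact le_top)
        Subgroup.le_normalizer).trans Subgroup.inf_normalizer_le_normalizer_inf)
      (inf_le_inf_right _ Subgroup.le_normalClosure)
    exact inf_eq_right.1 this
  · -- unique maximal subgroup
    have hkey : ∀ L : Subgroup H, (T : Subgroup H) ≤ L → L ≠ ⊤ →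
        L ≤ famStab hinv (T : Subgroup H) := by
      intro L hTL hL x hx E hE
      exact mxOf_cj hinv htr hres hnorm hmin T hTL hL hx hE
    have hT : (T : Subgroup H) ≤ famStab hinv (T : Subgroup H) := hkey _ le_rfl hTtop
    have hStop : famStab hinv (T : Subgroup H) ≠ ⊤ := by
      intro e
      have hP := fam_isSylowIn hinv hnorm T hE₀
      obtain ⟨h1, h2, M₀, hM₀E, hM₀ne, hM₀⟩ := minimalOver_ambient hP (hmin _ hE₀ _)
      have hmxle : mxOf (T : Subgroup H) E₀ ≤ M₀ := by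
        apply iSup₂_le
        rintro Y ⟨hY1, hY2, hY3⟩
        exact hM₀ Y hY1 hY2 hY3
      have hPmx : (T : Subgroup H) ⊓ E₀ ≤ mxOf (T : Subgroup H) E₀ :=
        le_iSup₂_of_le ((T : Subgroup H) ⊓ E₀) ⟨le_rfl, inf_le_right, h1⟩ le_rfl
      have hnorm' : E₀ ≤ Subgroup.normalizer ((mxOf (T : Subgroup H) E₀ : Subgroup H) : Set H) := by
        intro g hg
        have hg' : g ∈ famStab hinv (T : Subgroup H) := by rw [e]; trivial
        have := hg' E₀ hE₀
        rw [cj_eq_self_of_mem hg] at this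
        exact cj_eq_self_iff.1 this
      have := h2 _ (hmxle.trans hM₀E) hnorm' hPmx
      apply hM₀ne
      exact le_antisymm hM₀E (by rw [← this]; exact hmxle)
    refine ⟨famStab hinv (T : Subgroup H), ⟨⟨hStop, ?_⟩, hT⟩, ?_⟩
    · intro L hL
      by_contra hne
      exact absurd (hkey L (hT.trans hL.le) hne) (not_le_of_gt hL)
    · rintro M ⟨hMco, hTM⟩
      have h1 : M ≤ famStab hinv (T : Subgroup H) := hkey M hTM hMco.1
      by_contra hne
      exact hStop (hMco.2 _ (lt_of_le_of_ne h1 hne))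

end partA

section partB

variable {H : Type*} [Group H] [Finite H] {p : ℕ} [Fact p.Prime] {𝒦 : Set (Subgroup H)}

omit [Finite H] [Fact p.Prime] in
theorem commutator_sSup_le (N : Subgroup H) [N.Normal] (A : Subgroup H) (𝒮 : Set (Subgroup H))
    (h : ∀ B ∈ 𝒮, ⁅A, B⁆ ≤ N) : ⁅A, sSup 𝒮⁆ ≤ N := by
  rw [Subgroup.commutator_comm, commutator_le_iff_le_comap]
  apply sSup_le
  intro B hB
  rw [← commutator_le_iff_le_comap, Subgroup.commutator_comm]
  exact h B hB

omit [Finite H] [Fact p.Prime] in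
theorem commutator_sup_le (N : Subgroup H) [N.Normal] (A B C : Subgroup H)
    (h1 : ⁅A, B⁆ ≤ N) (h2 : ⁅A, C⁆ ≤ N) : ⁅A, B ⊔ C⁆ ≤ N := by
  rw [Subgroup.commutator_comm, commutator_le_iff_le_comap]
  apply sup_le
  · rw [← commutator_le_iff_le_comap, Subgroup.commutator_comm]; exact h1
  · rw [← commutator_le_iff_le_comap, Subgroup.commutator_comm]; exact h2

/-- a homomorphism from a strongly `p`-irreducible group killing all `p`-elements is trivial -/
theorem hom_trivial_of_stronglyIrr {E : Type*} [Group E] [Finite E]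
    (hE : IsStronglyPIrreducible p E) {Q : Type*} [Group Q] (φ : E →* Q)
    (hφ : ∀ e : E, (∃ k : ℕ, e ^ (p ^ k) = 1) → φ e = 1) (e : E) : φ e = 1 := by
  obtain ⟨T⟩ : Nonempty (Sylow p E) := inferInstance
  have hT : (T : Subgroup E) ≤ φ.ker := by
    intro t ht
    rw [MonoidHom.mem_ker]
    apply hφ
    obtain ⟨k, hk⟩ := T.isPGroup' ⟨t, ht⟩
    exact ⟨k, by simpa using congrArg Subtype.val hk⟩
  have hker : φ.ker = ⊤ := by
    by_cases hc : ⁅φ.ker, (⊤ : Subgroup E)⁆ ≤ pCore p E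
    · exfalso
      apply hE.1
      apply Helper54.isPClosed_of_normal T
      rw [← Subgroup.normalizer_eq_top_iff, eq_top_iff]
      have h1 : ⁅(T : Subgroup E), (⊤ : Subgroup E)⁆ ≤ (T : Subgroup E) :=
        ((Subgroup.commutator_mono hT le_rfl).trans hc).trans (pCore_le_sylow T)
      intro g _
      rw [← cj_eq_self_iff]
      have key : ∀ g : E, cj g (T : Subgroup E) ≤ (T : Subgroup E) := by
        rintro g _ ⟨t, ht, rfl⟩
        have h2 : ⁅t, g⁆ ∈ (T : Subgroup E) :=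
          h1 (Subgroup.commutator_mem_commutator ht (Subgroup.mem_top g))
        have e : (MulAut.conj g).toMonoidHom t = (⁅t, g⁆)⁻¹ * t := by
          simp only [commutatorElement_def, MulEquiv.coe_toMonoidHom, MulAut.conj_apply]
          group
        rw [e]
        exact mul_mem (inv_mem h2) ht
      apply le_antisymm (key g)
      have := key g⁻¹
      rwa [← le_cj_iff] at this
    · have h1 := hE.2 φ.ker inferInstance hc
      rw [eq_top_iff, ← Helper54.pResidual_sup_sylow T]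
      exact sup_le h1 hT
  have : e ∈ φ.ker := by rw [hker]; trivial
  exact this

/-- commutation with a strongly irreducible `E` modulo `O_p(H)` -/
theorem fam_comm_mem {E X : Subgroup H} (hE : IsStronglyPIrreducible p ↥E)
    (hXE : ⁅X, E⁆ ≤ pCore p H)
    (hXp : ∀ Y : Subgroup H, Y ≤ X → IsPGroup p Y → Y ≤ pCore p H)
    {k : H} (hk : ∀ e ∈ E, ⁅k, e⁆ ∈ X) : ∀ e ∈ E, ⁅k, e⁆ ∈ pCore p H := by
  have hmul : ∀ a b : ↥E, (QuotientGroup.mk' (pCore p H)) ⁅k, ((a * b : ↥E) : H)⁆ =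
      (QuotientGroup.mk' (pCore p H)) ⁅k, (a : H)⁆ *
        (QuotientGroup.mk' (pCore p H)) ⁅k, (b : H)⁆ := by
    intro a b
    push_cast
    rw [commutatorElement_mul_right, map_mul]
    congr 1
    have hx : ⁅k, (b : H)⁆ ∈ X := hk b b.2
    have h1 : ⁅(a : H), ⁅k, (b : H)⁆⁆ ∈ pCore p H := by
      have h0 := hXE (Subgroup.commutator_mem_commutator hx a.2)
      have e : ⁅(a : H), ⁅k, (b : H)⁆⁆ = (⁅⁅k, (b : H)⁆, (a : H)⁆)⁻¹ :=
        (commutatorElement_inv _ _).symm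
      rw [e]; exact Subgroup.inv_mem _ h0
    have e2 : (a : H) * ⁅k, (b : H)⁆ * (a : H)⁻¹ = ⁅(a : H), ⁅k, (b : H)⁆⁆ * ⁅k, (b : H)⁆ := by
      simp only [commutatorElement_def]; group
    rw [e2, map_mul]
    have h5 : (QuotientGroup.mk' (pCore p H)) ⁅(a : H), ⁅k, (b : H)⁆⁆ = 1 :=
      (QuotientGroup.eq_one_iff _).2 h1
    rw [h5, one_mul]
  obtain ⟨φ, hφdef⟩ : ∃ φ : ↥E →* H ⧸ pCore p H,
      ∀ e : ↥E, φ e = (QuotientGroup.mk' (pCore p H)) ⁅k, (e : H)⁆ :=
    ⟨MonoidHom.mk' (fun e => (QuotientGroup.mk' (pCore p H)) ⁅k, (e : H)⁆) hmul, fun _ => rfl⟩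
  have hφ : ∀ e : ↥E, (∃ n : ℕ, e ^ (p ^ n) = 1) → φ e = 1 := by
    rintro e ⟨n, hn⟩
    have h1 : φ e ^ (p ^ n) = 1 := by rw [← map_pow, hn, map_one]
    have hx : ⁅k, (e : H)⁆ ∈ X := hk e e.2
    have h2 : ⁅k, (e : H)⁆ ^ (p ^ n) ∈ pCore p H := by
      rw [← QuotientGroup.eq_one_iff, QuotientGroup.mk_pow]
      rw [hφdef] at h1
      exact h1
    obtain ⟨m, hm⟩ := (isPGroup_pCore (p := p) (G := H)) ⟨_, h2⟩
    have h3 : ⁅k, (e : H)⁆ ^ (p ^ (n + m)) = 1 := by
      rw [pow_add, pow_mul]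
      simpa using congrArg Subtype.val hm
    have h4 : Subgroup.zpowers ⁅k, (e : H)⁆ ≤ pCore p H := by
      apply hXp _ (Subgroup.zpowers_le.2 hx)
      rintro ⟨y, hy⟩
      obtain ⟨i, rfl⟩ := Subgroup.mem_zpowers_iff.1 hy
      refine ⟨n + m, ?_⟩
      apply Subtype.ext
      show (⁅k, (e : H)⁆ ^ i) ^ (p ^ (n + m)) = 1
      rw [← zpow_natCast, ← zpow_mul, mul_comm, zpow_mul, zpow_natCast, h3, one_zpow]
    rw [hφdef]
    exact (QuotientGroup.eq_one_iff _).2 (h4 (Subgroup.mem_zpowers _))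
  intro e he
  have h6 := hom_trivial_of_stronglyIrr hE φ hφ ⟨e, he⟩
  rw [hφdef] at h6
  exact (QuotientGroup.eq_one_iff _).1 h6

/-- a `p`-subgroup normal in `E O_p(H)` lies in `O_p(H)` -/
theorem fam_le_pCore (hinv : ∀ h : H, ∀ E ∈ 𝒦, cj h E ∈ 𝒦)
    (hnorm : ∀ E ∈ 𝒦, sSup 𝒦 ⊔ pCore p H ≤
      Subgroup.normalizer ((E ⊔ pCore p H : Subgroup H) : Set H))
    {E : Subgroup H} (hE : E ∈ 𝒦) {X : Subgroup H} (hX : X ≤ E ⊔ pCore p H)
    (hn : E ⊔ pCore p H ≤ Subgroup.normalizer (X : Set H)) (hp : IsPGroup p X) :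
    X ≤ pCore p H := by
  have hRn := fam_normal hinv
  have hRO : (sSup 𝒦 ⊔ pCore p H).Normal := inferInstance
  have hle : E ⊔ pCore p H ≤ sSup 𝒦 ⊔ pCore p H := sup_le_sup_right (le_sSup hE) _
  have h1 : X ≤ pCoreOf p (E ⊔ pCore p H) := le_pCoreOf hX hn hp
  have h2 : pCoreOf p (E ⊔ pCore p H) ≤ pCoreOf p (sSup 𝒦 ⊔ pCore p H) :=
    le_pCoreOf ((pCoreOf_le _).trans hle)
      ((hnorm E hE).trans (normalizer_le_normalizer_pCoreOf _)) (isPGroup_pCoreOf _)
  have h3 : pCoreOf p (sSup 𝒦 ⊔ pCore p H) ≤ pCore p H := by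
    apply le_pCore _ (isPGroup_pCoreOf _)
    rw [← Subgroup.normalizer_eq_top_iff, eq_top_iff]
    have := normalizer_le_normalizer_pCoreOf (p := p) (sSup 𝒦 ⊔ pCore p H)
    rwa [Subgroup.normalizer_eq_top_iff.2 hRO] at this
  exact (h1.trans h2).trans h3

/-- `p`-subgroups of a subgroup `X` abelian modulo `O_p(H)` with `O_p(X) ≤ O_p(H)` -/
theorem le_pCore_of_abelian_mod {X Y : Subgroup H} (hOX : pCore p H ≤ X)
    (hXX : ⁅X, X⁆ ≤ pCore p H) (hcore : pCoreOf p X ≤ pCore p H) (hYX : Y ≤ X)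
    (hY : IsPGroup p Y) : Y ≤ pCore p H := by
  have hp : IsPGroup p ↥(Y ⊔ pCore p H) := IsPGroup.to_sup_of_normal_right hY isPGroup_pCore
  have hn : X ≤ Subgroup.normalizer ((Y ⊔ pCore p H : Subgroup H) : Set H) := by
    apply le_normalizer_of_cj_le
    rintro x hx _ ⟨y, hy, rfl⟩
    have hyX : y ∈ X := (sup_le hYX hOX) hy
    have h1 : ⁅x, y⁆ ∈ pCore p H := hXX (Subgroup.commutator_mem_commutator hx hyX)
    have e : (MulAut.conj x).toMonoidHom y = ⁅x, y⁆ * y := by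
      simp only [commutatorElement_def, MulEquiv.coe_toMonoidHom, MulAut.conj_apply]
      group
    rw [e]
    exact mul_mem (Subgroup.mem_sup_right h1) hy
  exact le_sup_left.trans ((le_pCoreOf (sup_le hYX hOX) hn hp).trans hcore)

/-- ambient form of strong `p`-irreducibility -/
theorem stronglyIrr_ambient {E : Subgroup H} (hE : IsStronglyPIrreducible p ↥E)
    {M : Subgroup H} (hME : M ≤ E) (hEM : E ≤ Subgroup.normalizer (M : Set H)) :
    ⁅M, E⁆ ≤ pCoreOf p E ∨ pResOf p E ≤ M := by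
  have hn : (M.subgroupOf E).Normal := (Subgroup.normal_subgroupOf_iff_le_normalizer hME).2 hEM
  by_cases hc : ⁅M.subgroupOf E, (⊤ : Subgroup ↥E)⁆ ≤ pCore p ↥E
  · left
    have h1 := Subgroup.map_mono (f := E.subtype) hc
    rw [Subgroup.map_commutator, Subgroup.map_subgroupOf_eq_of_le hME,
      ← MonoidHom.range_eq_map, Subgroup.range_subtype] at h1
    exact h1
  · right
    have h1 := Subgroup.map_mono (f := E.subtype) (hE.2 _ hn hc)
    rwa [Subgroup.map_subgroupOf_eq_of_le hME] at h1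

omit [Finite H] [Fact p.Prime] in
theorem le_normalizer_of_normal' {N : Subgroup H} (hN : N.Normal) (X : Subgroup H) :
    X ≤ Subgroup.normalizer (N : Set H) := by
  rw [Subgroup.normalizer_eq_top_iff.2 hN]; exact le_top

/-- `O_p(E) ≤ O_p(H)` for members of the family -/
theorem fam_pCoreOf_le (hinv : ∀ h : H, ∀ E ∈ 𝒦, cj h E ∈ 𝒦)
    (hnorm : ∀ E ∈ 𝒦, sSup 𝒦 ⊔ pCore p H ≤
      Subgroup.normalizer ((E ⊔ pCore p H : Subgroup H) : Set H))
    {E : Subgroup H} (hE : E ∈ 𝒦) : pCoreOf p E ≤ pCore p H := by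
  have h1 : pCoreOf p E ⊔ pCore p H ≤ pCore p H := by
    apply fam_le_pCore hinv hnorm hE (sup_le_sup_right (pCoreOf_le E) _)
    · apply sup_le
      · exact le_normalizer_sup' (le_normalizer_pCoreOf E) (le_normalizer_of_normal' pCore_normal E)
      · exact le_sup_right.trans Subgroup.le_normalizer
    · exact IsPGroup.to_sup_of_normal_right (isPGroup_pCoreOf E) isPGroup_pCore
  exact le_sup_left.trans h1

theorem fam_not_isPClosed (hne : 𝒦.Nonempty) (hinv : ∀ h : H, ∀ E ∈ 𝒦, cj h E ∈ 𝒦)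
    (hnorm : ∀ E ∈ 𝒦, sSup 𝒦 ⊔ pCore p H ≤
      Subgroup.normalizer ((E ⊔ pCore p H : Subgroup H) : Set H))
    (hirr : ∀ E ∈ 𝒦, IsStronglyPIrreducible p ↥E) : ¬ IsPClosed p H := by
  intro hcl
  obtain ⟨E, hE⟩ := hne
  obtain ⟨T⟩ : Nonempty (Sylow p H) := inferInstance
  have hT : (T : Subgroup H) = pCore p H := Helper54.sylow_eq_pCore_of_isPClosed hcl T
  have hP := fam_isSylowIn hinv hnorm T hE
  apply (hirr E hE).1
  apply isPClosed_of_isSylowIn_normal hP
  rw [hT]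
  exact (le_inf (le_normalizer_of_normal' pCore_normal E) Subgroup.le_normalizer).trans
    Subgroup.inf_normalizer_le_normalizer_inf

/-- `O^p(E O) ≤ O^p(E) O` -/
theorem pResOf_sup_le (E O : Subgroup H) (hO : O.Normal) (hOp : IsPGroup p O) :
    pResOf p (E ⊔ O) ≤ pResOf p E ⊔ O := by
  obtain ⟨S, hS, -⟩ := exists_isSylowIn_ge (p := p) (bot_le : (⊥ : Subgroup H) ≤ E)
    IsPGroup.of_bot
  have h1 : E ≤ pResOf p E ⊔ S := le_pResOf_sup_of_isSylowIn hS
  apply pResOf_le_of_sup (P := S) _ _ hS.2.1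
  · apply le_antisymm
    · apply sup_le
      · exact h1.trans (sup_le_sup_right le_sup_left _)
      · exact le_sup_right.trans le_sup_left
    · apply sup_le
      · exact sup_le_sup_right (pResOf_le p E) _
      · exact hS.1.trans le_sup_left
  · exact hS.1.trans (le_normalizer_sup'
      (Subgroup.le_normalizer.trans (normalizer_le_normalizer_pResOf p E))
      (le_normalizer_of_normal' hO E))

theorem fam_pResidual_le (hinv : ∀ h : H, ∀ E ∈ 𝒦, cj h E ∈ 𝒦)
    (htr : ∀ E ∈ 𝒦, ∀ K ∈ 𝒦, ∃ h : H, K = cj h E) (hres : pResidual p H ≤ sSup 𝒦)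
    (hnorm : ∀ E ∈ 𝒦, sSup 𝒦 ⊔ pCore p H ≤
      Subgroup.normalizer ((E ⊔ pCore p H : Subgroup H) : Set H))
    (hirr : ∀ E ∈ 𝒦, IsStronglyPIrreducible p ↥E)
    (N : Subgroup H) (hN : N.Normal) (hNcl : ¬ IsPClosed p ↥N) : pResidual p H ≤ N := by
  have hRn := fam_normal hinv
  have hOn : (pCore p H).Normal := pCore_normal
  have hRO : (sSup 𝒦 ⊔ pCore p H).Normal := inferInstance
  have hNO : (N ⊔ pCore p H).Normal := inferInstance
  obtain ⟨T⟩ : Nonempty (Sylow p H) := inferInstance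
  have hOT : pCore p H ≤ (T : Subgroup H) := pCore_le_sylow T
  rw [← pResOf_top]
  have hres' : pResOf p (⊤ : Subgroup H) ≤ sSup 𝒦 := by rw [pResOf_top]; exact hres
  by_cases hA : ∀ E ∈ 𝒦, pResOf p E ≤ N ⊔ pCore p H
  · -- case A
    have hBn : (sSup 𝒦 ⊔ pCore p H) ≤ Subgroup.normalizer
        (((N ⊔ pCore p H) ⊓ (sSup 𝒦 ⊔ pCore p H) : Subgroup H) : Set H) :=
      (le_inf (le_normalizer_of_normal' hNO _) (le_normalizer_of_normal' hRO _)).trans
        Subgroup.inf_normalizer_le_normalizer_inf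
    have h1 : sSup 𝒦 ⊔ pCore p H ≤ ((N ⊔ pCore p H) ⊓ (sSup 𝒦 ⊔ pCore p H)) ⊔
        ((T : Subgroup H) ⊓ (sSup 𝒦 ⊔ pCore p H)) := by
      apply sup_le
      · apply sSup_le
        intro E hE
        have hle : E ⊔ pCore p H ≤ sSup 𝒦 ⊔ pCore p H := sup_le_sup_right (le_sSup hE) _
        have h2 := le_pResOf_sup_of_isSylowIn (fam_isSylowIn_sup hinv hnorm T hE)
        refine (le_sup_left.trans h2).trans (sup_le_sup ?_ (inf_le_inf_left _ hle))
        apply le_inf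
        · exact (pResOf_sup_le E _ hOn isPGroup_pCore).trans (sup_le (hA E hE) le_sup_right)
        · exact (pResOf_le p _).trans hle
      · exact (le_inf hOT le_sup_right).trans le_sup_right
    have h2 : pResOf p (sSup 𝒦 ⊔ pCore p H) ≤ (N ⊔ pCore p H) ⊓ (sSup 𝒦 ⊔ pCore p H) := by
      apply pResOf_le_of_sup (P := (T : Subgroup H) ⊓ (sSup 𝒦 ⊔ pCore p H)) _
        (inf_le_right.trans hBn) (T.isPGroup'.to_le inf_le_left)
      exact le_antisymm h1 (sup_le inf_le_right inf_le_right)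
    have hidem : pResOf p (pResOf p (⊤ : Subgroup H)) = pResOf p (⊤ : Subgroup H) :=
      pResOf_pResOf p ⊤
    have h3 : pResOf p (⊤ : Subgroup H) ≤ N ⊔ pCore p H := by
      refine (le_of_eq hidem.symm).trans ?_
      exact ((pResOf_mono p (hres'.trans le_sup_left)).trans h2).trans inf_le_left
    refine (le_of_eq hidem.symm).trans ?_
    exact (pResOf_mono p h3).trans
      (pResOf_le_of_sup rfl (le_normalizer_of_normal' hN _) isPGroup_pCore)
  · -- case B
    exfalso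
    have hA' : ∃ E₀ ∈ 𝒦, ¬ pResOf p E₀ ≤ N ⊔ pCore p H := by
      by_contra hcon
      apply hA
      intro E hE
      by_contra h
      exact hcon ⟨E, hE, h⟩
    obtain ⟨E₀, hE₀, hE₀N⟩ := hA'
    have hB0 : ∀ E ∈ 𝒦, ¬ pResOf p E ≤ N ⊔ pCore p H := by
      intro E hE hcon
      obtain ⟨h, rfl⟩ := htr E₀ hE₀ E hE
      apply hE₀N
      rw [← cj_pResOf, cj_le_iff, cj_eq_self_of_normal hNO] at hcon
      exact hcon
    have hB1 : ∀ E ∈ 𝒦, ⁅(N ⊔ pCore p H) ⊓ E, E⁆ ≤ pCore p H := by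
      intro E hE
      have hn : E ≤ Subgroup.normalizer ((((N ⊔ pCore p H) ⊓ E : Subgroup H)) : Set H) :=
        (le_inf (le_normalizer_of_normal' hNO _) Subgroup.le_normalizer).trans
          Subgroup.inf_normalizer_le_normalizer_inf
      rcases stronglyIrr_ambient (hirr E hE) inf_le_right hn with h | h
      · exact h.trans (fam_pCoreOf_le hinv hnorm hE)
      · exact absurd (h.trans inf_le_left) (hB0 E hE)
    -- `K₂ = (N O) ∩ (R O)` commutes with each `E` modulo `O`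
    have hB2 : ∀ E ∈ 𝒦, ⁅(N ⊔ pCore p H) ⊓ (sSup 𝒦 ⊔ pCore p H), E⁆ ≤ pCore p H := by
      intro E hE
      obtain ⟨X₁, hX₁⟩ : ∃ X₁, X₁ = ((N ⊔ pCore p H) ⊓ E) ⊔ pCore p H := ⟨_, rfl⟩
      have hX₁le : X₁ ≤ E ⊔ pCore p H := by
        rw [hX₁]; exact sup_le_sup_right inf_le_right _
      have hOX₁ : pCore p H ≤ X₁ := by rw [hX₁]; exact le_sup_right
      have hX₁E : ⁅X₁, E⁆ ≤ pCore p H := by
        rw [hX₁, Subgroup.commutator_comm]
        apply commutator_sup_le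
        · rw [Subgroup.commutator_comm]; exact hB1 E hE
        · exact Subgroup.commutator_le_right _ _
      have hX₁X₁ : ⁅X₁, X₁⁆ ≤ pCore p H := by
        refine (Subgroup.commutator_mono le_rfl hX₁le).trans ?_
        exact commutator_sup_le _ _ _ _ hX₁E (Subgroup.commutator_le_right _ _)
      have hEX₁ : E ⊔ pCore p H ≤ Subgroup.normalizer (X₁ : Set H) := by
        apply sup_le
        · rw [hX₁]
          exact le_normalizer_sup'
            ((le_inf (le_normalizer_of_normal' hNO _) Subgroup.le_normalizer).trans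
              Subgroup.inf_normalizer_le_normalizer_inf) (le_normalizer_of_normal' hOn _)
        · exact hOX₁.trans Subgroup.le_normalizer
      have hcore : pCoreOf p X₁ ≤ pCore p H :=
        fam_le_pCore hinv hnorm hE ((pCoreOf_le X₁).trans hX₁le)
          (hEX₁.trans (normalizer_le_normalizer_pCoreOf X₁)) (isPGroup_pCoreOf X₁)
      have hX₁p : ∀ Y : Subgroup H, Y ≤ X₁ → IsPGroup p Y → Y ≤ pCore p H :=
        fun Y hY hYp => le_pCore_of_abelian_mod hOX₁ hX₁X₁ hcore hY hYp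
      rw [Subgroup.commutator_le]
      intro k hk
      apply fam_comm_mem (hirr E hE) hX₁E hX₁p
      intro e he
      have h1 : ⁅k, e⁆ ∈ N ⊔ pCore p H := by
        have h0 : e * k⁻¹ * e⁻¹ ∈ N ⊔ pCore p H := hNO.conj_mem _ (inv_mem hk.1) e
        have e1 : ⁅k, e⁆ = k * (e * k⁻¹ * e⁻¹) := by rw [commutatorElement_def]; group
        rw [e1]; exact mul_mem hk.1 h0
      have h2 : ⁅k, e⁆ ∈ E ⊔ pCore p H := by
        have h0 : k * e * k⁻¹ ∈ E ⊔ pCore p H :=
          (Subgroup.mem_normalizer_iff.1 (hnorm E hE hk.2) e).1 (Subgroup.mem_sup_left he)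
        rw [commutatorElement_def]
        exact mul_mem h0 (inv_mem (Subgroup.mem_sup_left he))
      rw [sup_comm] at h2
      obtain ⟨o, ho, e', he', hz⟩ := Helper54.exists_mul_of_mem_sup_of_le_normalizer
        (A := pCore p H) (B := E) (le_normalizer_of_normal' hOn _) h2
      rw [hz, hX₁]
      refine mul_mem (Subgroup.mem_sup_right ho) (Subgroup.mem_sup_left ⟨?_, he'⟩)
      have e3 : e' = o⁻¹ * (o * e') := by group
      rw [e3, ← hz]
      exact Subgroup.mul_mem _ (Subgroup.inv_mem _ (Subgroup.mem_sup_right ho)) h1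
    have hB3 : ⁅(N ⊔ pCore p H) ⊓ (sSup 𝒦 ⊔ pCore p H), sSup 𝒦 ⊔ pCore p H⁆ ≤ pCore p H :=
      commutator_sup_le _ _ _ _ (commutator_sSup_le _ _ _ hB2) (Subgroup.commutator_le_right _ _)
    have hK₂n : ((N ⊔ pCore p H) ⊓ (sSup 𝒦 ⊔ pCore p H)).Normal := inferInstance
    have hK₂p : ∀ Y : Subgroup H, Y ≤ (N ⊔ pCore p H) ⊓ (sSup 𝒦 ⊔ pCore p H) → IsPGroup p Y →
        Y ≤ pCore p H := by
      intro Y hY hYp
      apply le_pCore_of_abelian_mod (le_inf le_sup_right le_sup_right)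
        ((Subgroup.commutator_mono le_rfl inf_le_right).trans hB3) _ hY hYp
      apply le_pCore _ (isPGroup_pCoreOf _)
      rw [← Subgroup.normalizer_eq_top_iff, eq_top_iff]
      have := normalizer_le_normalizer_pCoreOf (p := p)
        ((N ⊔ pCore p H) ⊓ (sSup 𝒦 ⊔ pCore p H))
      rwa [Subgroup.normalizer_eq_top_iff.2 hK₂n] at this
    -- `N` commutes with `R` modulo `O`
    have hB4 : ⁅N, sSup 𝒦⁆ ≤ pCore p H := by
      apply commutator_sSup_le
      intro E hE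
      rw [Subgroup.commutator_le]
      intro y hy
      apply fam_comm_mem (hirr E hE) (hB2 E hE) hK₂p
      intro e he
      constructor
      · apply Subgroup.mem_sup_left
        have h0 : e * y⁻¹ * e⁻¹ ∈ N := hN.conj_mem _ (inv_mem hy) e
        have e1 : ⁅y, e⁆ = y * (e * y⁻¹ * e⁻¹) := by rw [commutatorElement_def]; group
        rw [e1]; exact mul_mem hy h0
      · apply Subgroup.mem_sup_left
        have heR : e ∈ sSup 𝒦 := (le_sSup hE) he
        have h0 : y * e * y⁻¹ ∈ sSup 𝒦 := hRn.conj_mem _ heR y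
        rw [commutatorElement_def]
        exact mul_mem h0 (inv_mem heR)
    -- the Sylow subgroup `T ∩ N` of `N`
    have hP : IsSylowIn p N ((T : Subgroup H) ⊓ N) :=
      (isSylowIn_of_sylow_le T le_top).inf_normal le_top (le_normalizer_of_normal' hN _)
    have hPO : (T : Subgroup H) ⊓ N ≤ pCore p H := by
      have hp : IsPGroup p ↥((T : Subgroup H) ⊓ N ⊔ pCore p H) :=
        IsPGroup.to_sup_of_normal_right hP.2.1 isPGroup_pCore
      have hn : (⊤ : Subgroup H) ≤ Subgroup.normalizer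
          ((((T : Subgroup H) ⊓ N ⊔ pCore p H : Subgroup H)) : Set H) := by
        rw [← fam_sup_sylow hres T]
        apply sup_le
        · apply le_normalizer_of_cj_le
          rintro r hr _ ⟨y, hy, rfl⟩
          have hy2 : y ∈ (T : Subgroup H) ⊓ N ⊔ pCore p H := hy
          obtain ⟨a, ha, b, hb, rfl⟩ := Helper54.exists_mul_of_mem_sup_of_le_normalizer
            (A := (T : Subgroup H) ⊓ N) (B := pCore p H)
            ((hOT.trans (le_inf Subgroup.le_normalizer (le_normalizer_of_normal' hN _))).trans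
              Subgroup.inf_normalizer_le_normalizer_inf) hy2
          have h1 : ⁅a, r⁆ ∈ pCore p H :=
            hB4 (Subgroup.commutator_mem_commutator ha.2 hr)
          have e1 : (MulAut.conj r).toMonoidHom (a * b) =
              (⁅a, r⁆)⁻¹ * a * (r * b * r⁻¹) := by
            simp only [commutatorElement_def, MulEquiv.coe_toMonoidHom, MulAut.conj_apply]
            group
          rw [e1]
          exact mul_mem (mul_mem (Subgroup.mem_sup_right (inv_mem h1)) (Subgroup.mem_sup_left ha))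
            (Subgroup.mem_sup_right (hOn.conj_mem _ hb r))
        · exact le_normalizer_sup'
            ((le_inf Subgroup.le_normalizer (le_normalizer_of_normal' hN _)).trans
              Subgroup.inf_normalizer_le_normalizer_inf) (le_normalizer_of_normal' hOn _)
      have hnn : ((T : Subgroup H) ⊓ N ⊔ pCore p H).Normal :=
        Subgroup.normalizer_eq_top_iff.1 (top_le_iff.1 hn)
      exact le_sup_left.trans (le_pCore hnn hp)
    apply hNcl
    apply isPClosed_of_isSylowIn_normal hP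
    have e : (T : Subgroup H) ⊓ N = pCore p H ⊓ N :=
      le_antisymm (le_inf hPO inf_le_right) (inf_le_inf_right _ hOT)
    rw [e]
    exact (le_inf (le_normalizer_of_normal' hOn _) Subgroup.le_normalizer).trans
      Subgroup.inf_normalizer_le_normalizer_inf

theorem fam_comm_of_inf (hinv : ∀ h : H, ∀ E ∈ 𝒦, cj h E ∈ 𝒦)
    (hnorm : ∀ E ∈ 𝒦, sSup 𝒦 ⊔ pCore p H ≤
      Subgroup.normalizer ((E ⊔ pCore p H : Subgroup H) : Set H))
    (hirr : ∀ E ∈ 𝒦, IsStronglyPIrreducible p ↥E) {E : Subgroup H} (hE : E ∈ 𝒦)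
    {A : Subgroup H} (hOA : pCore p H ≤ A) (hEA : E ≤ Subgroup.normalizer (A : Set H))
    (hAE : ⁅A ⊓ E, E⁆ ≤ pCore p H) {k : H}
    (hk : ∀ e ∈ E, ⁅k, e⁆ ∈ A ⊓ (E ⊔ pCore p H)) : ∀ e ∈ E, ⁅k, e⁆ ∈ pCore p H := by
  have hOn : (pCore p H).Normal := pCore_normal
  obtain ⟨X₁, hX₁⟩ : ∃ X₁, X₁ = (A ⊓ E) ⊔ pCore p H := ⟨_, rfl⟩
  have hX₁le : X₁ ≤ E ⊔ pCore p H := by
    rw [hX₁]; exact sup_le_sup_right inf_le_right _
  have hOX₁ : pCore p H ≤ X₁ := by rw [hX₁]; exact le_sup_right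
  have hX₁E : ⁅X₁, E⁆ ≤ pCore p H := by
    rw [hX₁, Subgroup.commutator_comm]
    apply commutator_sup_le
    · rw [Subgroup.commutator_comm]; exact hAE
    · exact Subgroup.commutator_le_right _ _
  have hX₁X₁ : ⁅X₁, X₁⁆ ≤ pCore p H := by
    refine (Subgroup.commutator_mono le_rfl hX₁le).trans ?_
    exact commutator_sup_le _ _ _ _ hX₁E (Subgroup.commutator_le_right _ _)
  have hEX₁ : E ⊔ pCore p H ≤ Subgroup.normalizer (X₁ : Set H) := by
    apply sup_le
    · rw [hX₁]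
      exact le_normalizer_sup'
        ((le_inf hEA Subgroup.le_normalizer).trans
          Subgroup.inf_normalizer_le_normalizer_inf) (le_normalizer_of_normal' hOn _)
    · exact hOX₁.trans Subgroup.le_normalizer
  have hcore : pCoreOf p X₁ ≤ pCore p H :=
    fam_le_pCore hinv hnorm hE ((pCoreOf_le X₁).trans hX₁le)
      (hEX₁.trans (normalizer_le_normalizer_pCoreOf X₁)) (isPGroup_pCoreOf X₁)
  have hX₁p : ∀ Y : Subgroup H, Y ≤ X₁ → IsPGroup p Y → Y ≤ pCore p H :=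
    fun Y hY hYp => le_pCore_of_abelian_mod hOX₁ hX₁X₁ hcore hY hYp
  apply fam_comm_mem (hirr E hE) hX₁E hX₁p
  intro e he
  obtain ⟨h1, h2⟩ := hk e he
  rw [sup_comm] at h2
  obtain ⟨o, ho, e', he', hz⟩ := Helper54.exists_mul_of_mem_sup_of_le_normalizer
    (A := pCore p H) (B := E) (le_normalizer_of_normal' hOn _) h2
  rw [hz, hX₁]
  refine mul_mem (Subgroup.mem_sup_right ho) (Subgroup.mem_sup_left ⟨?_, he'⟩)
  have e3 : e' = o⁻¹ * (o * e') := by group
  rw [e3, ← hz]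
  exact Subgroup.mul_mem _ (Subgroup.inv_mem _ (hOA ho)) h1

theorem fam_dichotomy (hinv : ∀ h : H, ∀ E ∈ 𝒦, cj h E ∈ 𝒦)
    (hnorm : ∀ E ∈ 𝒦, sSup 𝒦 ⊔ pCore p H ≤
      Subgroup.normalizer ((E ⊔ pCore p H : Subgroup H) : Set H))
    (hirr : ∀ E ∈ 𝒦, IsStronglyPIrreducible p ↥E) {E K : Subgroup H} (hE : E ∈ 𝒦)
    (hK : K ∈ 𝒦) :
    pResOf p (E ⊔ pCore p H) = pResOf p (K ⊔ pCore p H) ∨ ⁅E, K⁆ ≤ pCore p H := by
  have hOn : (pCore p H).Normal := pCore_normal
  have hER : E ≤ sSup 𝒦 ⊔ pCore p H := (le_sSup hE).trans le_sup_left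
  have hKR : K ≤ sSup 𝒦 ⊔ pCore p H := (le_sSup hK).trans le_sup_left
  -- commutators of elements of `E` and `K`
  have hcomm : ∀ e ∈ E, ∀ k ∈ K, ⁅k, e⁆ ∈ (K ⊔ pCore p H) ⊓ (E ⊔ pCore p H) := by
    intro e he k hk
    constructor
    · have h0 : e * k⁻¹ * e⁻¹ ∈ K ⊔ pCore p H :=
        (Subgroup.mem_normalizer_iff.1 (hnorm K hK (hER he)) k⁻¹).1
          (Subgroup.mem_sup_left (K.inv_mem hk))
      have e1 : ⁅k, e⁆ = k * (e * k⁻¹ * e⁻¹) := by rw [commutatorElement_def]; group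
      rw [e1]; exact Subgroup.mul_mem _ (Subgroup.mem_sup_left hk) h0
    · have h0 : k * e * k⁻¹ ∈ E ⊔ pCore p H :=
        (Subgroup.mem_normalizer_iff.1 (hnorm E hE (hKR hk)) e).1 (Subgroup.mem_sup_left he)
      rw [commutatorElement_def]
      exact Subgroup.mul_mem _ h0 (Subgroup.inv_mem _ (Subgroup.mem_sup_left he))
  have hn1 : E ≤ Subgroup.normalizer ((((K ⊔ pCore p H) ⊓ E : Subgroup H)) : Set H) :=
    (le_inf (hER.trans (hnorm K hK)) Subgroup.le_normalizer).trans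
      Subgroup.inf_normalizer_le_normalizer_inf
  have hn2 : K ≤ Subgroup.normalizer ((((E ⊔ pCore p H) ⊓ K : Subgroup H)) : Set H) :=
    (le_inf (hKR.trans (hnorm E hE)) Subgroup.le_normalizer).trans
      Subgroup.inf_normalizer_le_normalizer_inf
  rcases stronglyIrr_ambient (hirr E hE) inf_le_right hn1 with h1 | h1
  · right
    rw [Subgroup.commutator_comm, Subgroup.commutator_le]
    intro k hk e he
    exact fam_comm_of_inf hinv hnorm hirr hE le_sup_right (hER.trans (hnorm K hK))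
      (h1.trans (fam_pCoreOf_le hinv hnorm hE)) (fun e he => hcomm e he k hk) e he
  · rcases stronglyIrr_ambient (hirr K hK) inf_le_right hn2 with h2 | h2
    · right
      rw [Subgroup.commutator_le]
      intro e he k hk
      refine fam_comm_of_inf hinv hnorm hirr hK le_sup_right (hKR.trans (hnorm E hE))
        (h2.trans (fam_pCoreOf_le hinv hnorm hK)) (k := e) (fun k hk => ?_) k hk
      have h3 := hcomm e he k hk
      have e1 : ⁅e, k⁆ = (⁅k, e⁆)⁻¹ := (commutatorElement_inv k e).symm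
      rw [e1]
      exact ⟨Subgroup.inv_mem _ h3.2, Subgroup.inv_mem _ h3.1⟩
    · left
      have hidem : ∀ X : Subgroup H, pResOf p (pResOf p X) = pResOf p X :=
        fun X => pResOf_pResOf p X
      have h3 : pResOf p (E ⊔ pCore p H) ≤ K ⊔ pCore p H :=
        (pResOf_sup_le E _ hOn isPGroup_pCore).trans
          (sup_le (h1.trans inf_le_left) le_sup_right)
      have h4 : pResOf p (K ⊔ pCore p H) ≤ E ⊔ pCore p H :=
        (pResOf_sup_le K _ hOn isPGroup_pCore).trans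
          (sup_le (h2.trans inf_le_left) le_sup_right)
      apply le_antisymm
      · exact (le_of_eq (hidem _).symm).trans (pResOf_mono p h3)
      · exact (le_of_eq (hidem _).symm).trans (pResOf_mono p h4)

end partB

end Cfsg.Agent.Lib.Helper55
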