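import Cfsg.Agent.Lib.Helper55.StabSeries
import Cfsg.Agent.Lib.Helper55.SylowIn
import Cfsg.Agent.Lib.Helper54.Subnormal
import Cfsg.Agent.S2840
import Cfsg.Agent.Lib.Helper01.Commutator

set_option autoImplicit false
set_option linter.unusedSectionVars false

namespace Cfsg.Agent.Lib.Helper55

open Cfsg
open scoped commutatorElement

section resOf

variable {G : Type*} [Group G]

/-- `O^p(X)` viewed in the ambient group -/
abbrev pResOf (p : ℕ) (X : Subgroup G) : Subgroup G := (pResidual p ↥X).map X.subtype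

theorem pResOf_le (p : ℕ) (X : Subgroup G) : pResOf p X ≤ X := Subgroup.map_subtype_le _

theorem pResOf_mono (p : ℕ) {A B : Subgroup G} (h : A ≤ B) : pResOf p A ≤ pResOf p B :=
  Helper54.map_pResidual_subtype_mono p h

theorem cj_pResOf (p : ℕ) (X : Subgroup G) (g : G) : cj g (pResOf p X) = pResOf p (cj g X) :=
  Helper54.map_conj_map_pResidual_subtype p X g

theorem normalizer_le_normalizer_pResOf (p : ℕ) (X : Subgroup G) :
    Subgroup.normalizer (X : Set G) ≤ Subgroup.normalizer ((pResOf p X : Subgroup G) : Set G) := by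
  intro g hg
  rw [← cj_eq_self_iff] at hg ⊢
  rw [cj_pResOf]
  exact congrArg (pResOf p) hg

theorem pResOf_pResOf (p : ℕ) (X : Subgroup G) : pResOf p (pResOf p X) = pResOf p X := by
  apply le_antisymm (pResOf_le p _)
  have h1 : pResOf p X = Subgroup.closure {g : G | g ∈ X ∧ (orderOf g).Coprime p} :=
    Helper54.map_pResidual_subtype p X
  have h2 : pResOf p (pResOf p X) =
      Subgroup.closure {g : G | g ∈ pResOf p X ∧ (orderOf g).Coprime p} :=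
    Helper54.map_pResidual_subtype p (pResOf p X)
  rw [h2]
  conv_lhs => rw [h1]
  apply Subgroup.closure_mono
  rintro g ⟨hgX, hgp⟩
  refine ⟨?_, hgp⟩
  rw [h1]
  exact Subgroup.subset_closure ⟨hgX, hgp⟩

variable [Finite G] {p : ℕ} [Fact p.Prime]

theorem pResOf_le_of_sup {B P M : Subgroup G} (hM : M = B ⊔ P)
    (hPB : P ≤ Subgroup.normalizer (B : Set G)) (hP : IsPGroup p ↥P) : pResOf p M ≤ B :=
  Helper54.map_pResidual_subtype_le_of_sup hM hPB hP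

/-- `P = O^p(P) S` for a Sylow `p`-subgroup `S` of `P` -/
theorem le_pResOf_sup_of_isSylowIn {P S : Subgroup G} (hS : IsSylowIn p P S) :
    P ≤ pResOf p P ⊔ S := by
  have h1 := Helper54.pResidual_sup_sylow (hS.toSylow)
  intro x hx
  have h2 : (⟨x, hx⟩ : ↥P) ∈ pResidual p ↥P ⊔ ((hS.toSylow : Sylow p ↥P) : Subgroup ↥P) := by
    rw [h1]; exact Subgroup.mem_top _
  have h3 : x ∈ (pResidual p ↥P ⊔ ((hS.toSylow : Sylow p ↥P) : Subgroup ↥P)).map P.subtype :=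
    ⟨⟨x, hx⟩, h2, rfl⟩
  rw [Subgroup.map_sup, hS.map_toSylow] at h3
  exact h3

/-- a `p`-subgroup of `P` is conjugate into a given Sylow subgroup by an element of `O^p(P)` -/
theorem exists_mem_pResOf_cj_le {P S Z : Subgroup G} (hS : IsSylowIn p P S) (hZP : Z ≤ P)
    (hZ : IsPGroup p Z) : ∃ k ∈ pResOf p P, cj k Z ≤ S := by
  obtain ⟨y, hyP, hy⟩ := hS.exists_conj_le hZP hZ
  have hn : S ≤ Subgroup.normalizer ((pResOf p P : Subgroup G) : Set G) :=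
    (hS.1.trans Subgroup.le_normalizer).trans (normalizer_le_normalizer_pResOf p P)
  have hy2 : y ∈ pResOf p P ⊔ S := le_pResOf_sup_of_isSylowIn hS hyP
  obtain ⟨a, ha, b, hb, rfl⟩ := Helper54.exists_mul_of_mem_sup_of_le_normalizer hn hy2
  -- y = a * b, a ∈ O^p(P), b ∈ S;  y = b * (b⁻¹ a b)
  refine ⟨b⁻¹ * a * b, ?_, ?_⟩
  · have := (Subgroup.mem_normalizer_iff.1 (Subgroup.inv_mem _ (hn hb)) a).1 ha
    simpa using this
  · have e : a * b = b * (b⁻¹ * a * b) := by group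
    rw [e, cj_mul, cj_le_iff] at hy
    rwa [cj_eq_self_of_mem (S.inv_mem hb)] at hy

end resOf

section weak

variable {G : Type*} [Group G] [Finite G] {p : ℕ} [Fact p.Prime]

omit [Finite G] [Fact p.Prime] in
theorem cj_le_sup_of_mem {K Q : Subgroup G} {k : G} (hk : k ∈ K) : cj k Q ≤ K ⊔ Q := by
  rintro _ ⟨q, hq, rfl⟩
  simp only [MulEquiv.coe_toMonoidHom, MulAut.conj_apply]
  exact mul_mem (mul_mem ((le_sup_left : K ≤ K ⊔ Q) hk) ((le_sup_right : Q ≤ K ⊔ Q) hq))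
    (inv_mem ((le_sup_left : K ≤ K ⊔ Q) hk))

omit [Finite G] [Fact p.Prime] in
theorem commutator_le_of_le_normalizer {K Q : Subgroup G}
    (h : Q ≤ Subgroup.normalizer (K : Set G)) : ⁅K, Q⁆ ≤ K := by
  rw [Subgroup.commutator_le]
  intro k hk q hq
  rw [commutatorElement_def]
  have : q * k⁻¹ * q⁻¹ ∈ K := (Subgroup.mem_normalizer_iff.1 (h hq) k⁻¹).1 (K.inv_mem hk)
  have e : k * q * k⁻¹ * q⁻¹ = k * (q * k⁻¹ * q⁻¹) := by group
  rw [e]
  exact K.mul_mem hk this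

/-- structure of the weak closure of `Q` in `A Q` -/
theorem weakClosure_sup_props {Q A : Subgroup G} (hQp : IsPGroup p Q) (hQ1 : Q ≠ ⊥)
    (hwc : IsWeaklyClosedSubgroup p Q) (hQA : Q ≤ Subgroup.normalizer (A : Set G)) :
    Q ≤ weakClosure Q (A ⊔ Q) ∧ weakClosure Q (A ⊔ Q) ≤ A ⊔ Q ∧
    A ⊔ Q ≤ Subgroup.normalizer ((weakClosure Q (A ⊔ Q) : Subgroup G) : Set G) ∧
    pResOf p (weakClosure Q (A ⊔ Q)) ≤ A ∧
    (∀ a ∈ A ⊔ Q, cj a Q ≤ pResOf p (weakClosure Q (A ⊔ Q)) ⊔ Q) ∧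
    ⁅pResOf p (weakClosure Q (A ⊔ Q)), Q⁆ = pResOf p (weakClosure Q (A ⊔ Q)) := by
  obtain ⟨P, hP⟩ : ∃ P, P = weakClosure Q (A ⊔ Q) := ⟨_, rfl⟩
  rw [← hP]
  have hQX : Q ≤ A ⊔ Q := le_sup_right
  have hP' := (Cfsg.Agent.S2840.result Q hQp hQ1 hwc (A ⊔ Q) hQX P hP).1
  have hconj : ∀ x ∈ A ⊔ Q, cj x Q ≤ P := by
    intro x hx
    rw [hP']
    exact le_iSup (fun k : ↥(A ⊔ Q) => Q.map (MulAut.conj (k : G)).toMonoidHom) ⟨x, hx⟩
  have hQP : Q ≤ P := by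
    have := hconj 1 (Subgroup.one_mem _)
    rwa [cj_one] at this
  have hPX : P ≤ A ⊔ Q := by
    rw [hP']
    apply iSup_le
    intro x
    rintro _ ⟨q, hq, rfl⟩
    simp only [MulEquiv.coe_toMonoidHom, MulAut.conj_apply]
    exact mul_mem (mul_mem x.2 (hQX hq)) (inv_mem x.2)
  have hXP : A ⊔ Q ≤ Subgroup.normalizer (P : Set G) := by
    apply le_normalizer_of_cj_le
    intro x hx
    conv_lhs => rw [hP']
    show Subgroup.map _ _ ≤ P
    rw [Subgroup.map_iSup]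
    apply iSup_le
    intro y
    have := hconj (x * y) (mul_mem hx y.2)
    rwa [cj_mul] at this
  have hXK : A ⊔ Q ≤ Subgroup.normalizer ((pResOf p P : Subgroup G) : Set G) :=
    hXP.trans (normalizer_le_normalizer_pResOf p P)
  have hKA : pResOf p P ≤ A := (pResOf_mono p hPX).trans (pResOf_le_of_sup rfl hQA hQp)
  obtain ⟨S, hS, hQS⟩ := exists_isSylowIn_ge hQP hQp
  have hconj2 : ∀ a ∈ A ⊔ Q, ∃ k ∈ pResOf p P, cj a Q = cj k Q := by
    intro a ha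
    obtain ⟨k, hk, hkS⟩ := exists_mem_pResOf_cj_le hS (hconj a ha) (isPGroup_cj hQp)
    rw [← cj_mul] at hkS
    have h1 : cj (k * a) Q = Q := Helper54.conj_eq_of_le_isPGroup hwc hS.2.1 hQS hkS
    refine ⟨k⁻¹, Subgroup.inv_mem _ hk, ?_⟩
    rw [cj_mul] at h1
    have h2 := congrArg (cj k⁻¹) h1
    rwa [cj_inv_cj] at h2
  have hconj3 : ∀ a ∈ A ⊔ Q, cj a Q ≤ pResOf p P ⊔ Q := by
    intro a ha
    obtain ⟨k, hk, e⟩ := hconj2 a ha
    rw [e]
    exact cj_le_sup_of_mem hk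
  refine ⟨hQP, hPX, hXP, hKA, hconj3, ?_⟩
  have hQK : Q ≤ Subgroup.normalizer ((pResOf p P : Subgroup G) : Set G) := hQX.trans hXK
  apply le_antisymm (commutator_le_of_le_normalizer hQK)
  -- `P ≤ [K, Q] Q`
  have hCK : ⁅pResOf p P, Q⁆ ≤ pResOf p P := commutator_le_of_le_normalizer hQK
  have hQC : Q ≤ Subgroup.normalizer ((⁅pResOf p P, Q⁆ : Subgroup G) : Set G) :=
    Helper01.le_normalizer_commutator_right _ _
  have hPle : P ≤ ⁅pResOf p P, Q⁆ ⊔ Q := by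
    conv_lhs => rw [hP']
    apply iSup_le
    intro x
    obtain ⟨k, hk, e⟩ := hconj2 x x.2
    show cj (x : G) Q ≤ _
    rw [e]
    rintro _ ⟨q, hq, rfl⟩
    simp only [MulEquiv.coe_toMonoidHom, MulAut.conj_apply]
    have h1 : ⁅k, q⁆ ∈ ⁅pResOf p P, Q⁆ := Subgroup.commutator_mem_commutator hk hq
    have e2 : k * q * k⁻¹ = ⁅k, q⁆ * q := by rw [commutatorElement_def]; group
    rw [e2]
    exact mul_mem ((le_sup_left : ⁅pResOf p P, Q⁆ ≤ ⁅pResOf p P, Q⁆ ⊔ Q) h1)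
      ((le_sup_right : Q ≤ ⁅pResOf p P, Q⁆ ⊔ Q) hq)
  exact (pResOf_mono p hPle).trans (pResOf_le_of_sup rfl hQC hQp)

omit [Finite G] [Fact p.Prime] in
theorem le_normalizer_commutator' {X A B : Subgroup G}
    (hA : X ≤ Subgroup.normalizer (A : Set G)) (hB : X ≤ Subgroup.normalizer (B : Set G)) :
    X ≤ Subgroup.normalizer ((⁅A, B⁆ : Subgroup G) : Set G) := by
  intro g hg
  rw [Subgroup.mem_normalizer_iff_map_conj_eq, Subgroup.map_commutator,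
    Subgroup.mem_normalizer_iff_map_conj_eq.1 (hA hg),
    Subgroup.mem_normalizer_iff_map_conj_eq.1 (hB hg)]

omit [Finite G] [Fact p.Prime] in
theorem le_normalizer_sup' {X A B : Subgroup G}
    (hA : X ≤ Subgroup.normalizer (A : Set G)) (hB : X ≤ Subgroup.normalizer (B : Set G)) :
    X ≤ Subgroup.normalizer ((A ⊔ B : Subgroup G) : Set G) := by
  intro g hg
  rw [Subgroup.mem_normalizer_iff_map_conj_eq, Subgroup.map_sup,
    Subgroup.mem_normalizer_iff_map_conj_eq.1 (hA hg),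
    Subgroup.mem_normalizer_iff_map_conj_eq.1 (hB hg)]

/-- basic properties of `H° = ⟨Q^G⟩` -/
theorem weakClosure_top_props {Q Hc : Subgroup G} (hQp : IsPGroup p Q) (hQ1 : Q ≠ ⊥)
    (hwc : IsWeaklyClosedSubgroup p Q) (hHc : Hc = weakClosure Q ⊤) :
    Q ≤ Hc ∧ Hc.Normal ∧ (∀ g : G, cj g Q ≤ Hc) ∧
      ∀ W : Subgroup G, (∀ k ∈ Hc, cj k Q ≤ W) → Hc ≤ W := by
  have hgen : ∀ g : G, cj g Q ≤ Hc := by
    intro g
    rw [hHc]
    exact le_iSup (fun g : {g : G // Q.map (MulAut.conj g).toMonoidHom ≤ ⊤} =>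
      Q.map (MulAut.conj (g : G)).toMonoidHom) ⟨g, le_top⟩
  have hQHc : Q ≤ Hc := by
    have := hgen 1
    rwa [cj_one] at this
  refine ⟨hQHc, ?_, hgen, ?_⟩
  · have h1 : (⊤ : Subgroup G) ≤ Subgroup.normalizer (Hc : Set G) := by
      apply le_normalizer_of_cj_le
      intro g _
      conv_lhs => rw [hHc]
      unfold weakClosure
      show Subgroup.map _ _ ≤ Hc
      rw [Subgroup.map_iSup]
      apply iSup_le
      rintro ⟨x, _⟩
      have := hgen (g * x)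
      rwa [cj_mul] at this
    exact Subgroup.normalizer_eq_top_iff.1 (top_le_iff.mp h1)
  · intro W hW
    conv_lhs => rw [hHc]
    unfold weakClosure
    apply iSup_le
    rintro ⟨g, _⟩
    obtain ⟨k, hk, e⟩ := Helper54.exists_conj_eq_of_le hQp hwc hQHc (hgen g)
    show cj g Q ≤ W
    rw [show cj g Q = cj k Q from e]
    exact hW k hk

/-- a normal subgroup `D` of `H°` normalizing `Q` is central in `H°` modulo `O_p(H°)` -/
theorem commutator_weakClosure_le {Q Hc D : Subgroup G} (hQp : IsPGroup p Q) (hQ1 : Q ≠ ⊥)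
    (hwc : IsWeaklyClosedSubgroup p Q) (hHc : Hc = weakClosure Q ⊤)
    (hDHc : D ≤ Hc) (hHcD : Hc ≤ Subgroup.normalizer (D : Set G))
    (hDQ : D ≤ Subgroup.normalizer (Q : Set G)) : ⁅Hc, D⁆ ≤ pCoreOf p Hc := by
  obtain ⟨hQHc, hHcn, hgen, hind⟩ := weakClosure_top_props hQp hQ1 hwc hHc
  have hOn : (pCoreOf p Hc).Normal := by
    rw [← Subgroup.normalizer_eq_top_iff, eq_top_iff]
    have := normalizer_le_normalizer_pCoreOf (p := p) Hc
    rwa [Subgroup.normalizer_eq_top_iff.2 hHcn] at this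
  rw [commutator_le_iff_le_comap]
  apply hind
  intro k hk
  rw [← commutator_le_iff_le_comap]
  have hDk : D ≤ Subgroup.normalizer ((cj k Q : Subgroup G) : Set G) := by
    rw [← cj_normalizer]
    intro x hx
    rw [mem_cj]
    apply hDQ
    have := (Subgroup.mem_normalizer_iff.1 (hHcD (Hc.inv_mem hk)) x).1 hx
    simpa using this
  have h1 : ⁅cj k Q, D⁆ ≤ cj k Q := commutator_le_of_le_normalizer hDk
  have h2 : ⁅cj k Q, D⁆ ≤ D := by
    rw [Subgroup.commutator_comm]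
    exact commutator_le_of_le_normalizer ((hgen k).trans hHcD)
  have h3 : cj k Q ⊓ D ≤ pCoreOf p D := by
    apply le_pCoreOf inf_le_right _ ((isPGroup_cj hQp).to_le inf_le_left)
    exact (le_inf hDk Subgroup.le_normalizer).trans Subgroup.inf_normalizer_le_normalizer_inf
  have h4 : pCoreOf p D ≤ pCoreOf p Hc :=
    le_pCoreOf ((pCoreOf_le D).trans hDHc) (hHcD.trans (normalizer_le_normalizer_pCoreOf D))
      (isPGroup_pCoreOf D)
  exact ((le_inf h1 h2).trans h3).trans h4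

omit [Finite G] [Fact p.Prime] in
theorem commutatorElement_mul_right (k a b : G) :
    ⁅k, a * b⁆ = ⁅k, a⁆ * (a * ⁅k, b⁆ * a⁻¹) := by
  simp only [commutatorElement_def]; group

/-- one half of the product lemma for weak closures -/
theorem weakProd_half {Q Hc H₁ H₂ K₁ : Subgroup G} (hQp : IsPGroup p Q) (hQ1 : Q ≠ ⊥)
    (hwc : IsWeaklyClosedSubgroup p Q) (hHc : Hc = weakClosure Q ⊤)
    (hn₁ : H₁ ≤ Hc ∧ Hc ≤ Subgroup.normalizer (H₁ : Set G))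
    (hn₂ : H₂ ≤ Hc ∧ Hc ≤ Subgroup.normalizer (H₂ : Set G))
    (hprod : H₁ ⊔ H₂ = Hc) (hcomm : ⁅H₁, H₂⁆ ≤ Subgroup.normalizer (Q : Set G))
    (hK₁ : K₁ = pResOf p (weakClosure Q (H₁ ⊔ Q))) :
    ⁅K₁, Q⁆ = K₁ ∧ ⁅K₁, H₁⁆ = K₁ ∧ K₁ ≤ ⁅H₁, H₁⁆ ∧ Hc ≤ Subgroup.normalizer (K₁ : Set G) ∧
    ⁅K₁, H₂⁆ ≤ pCoreOf p Hc ∧ (∀ a ∈ H₁, cj a Q ≤ K₁ ⊔ Q) ∧ K₁ ≤ H₁ := by
  obtain ⟨hQHc, hHcn, hgen, hind⟩ := weakClosure_top_props hQp hQ1 hwc hHc
  have hQH₁ : Q ≤ Subgroup.normalizer (H₁ : Set G) := hQHc.trans hn₁.2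
  obtain ⟨hQP, hPX, hXP, hKA, hconj, hKQ⟩ := weakClosure_sup_props hQp hQ1 hwc hQH₁
  rw [← hK₁] at hKA hconj hKQ
  have hXK : H₁ ⊔ Q ≤ Subgroup.normalizer (K₁ : Set G) := by
    rw [hK₁]; exact hXP.trans (normalizer_le_normalizer_pResOf p _)
  have hH₁K : H₁ ≤ Subgroup.normalizer (K₁ : Set G) := le_sup_left.trans hXK
  have hQK : Q ≤ Subgroup.normalizer (K₁ : Set G) := le_sup_right.trans hXK
  have hKK : pResOf p K₁ = K₁ := by rw [hK₁]; exact pResOf_pResOf p _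
  have hKHc : K₁ ≤ Hc := hKA.trans hn₁.1
  obtain ⟨D, hD⟩ : ∃ D, D = ⁅H₁, H₂⁆ := ⟨_, rfl⟩
  have hDH₁ : D ≤ H₁ := by
    rw [hD]; exact commutator_le_of_le_normalizer (hn₂.1.trans hn₁.2)
  have hDHc : D ≤ Hc := hDH₁.trans hn₁.1
  have hHcD : Hc ≤ Subgroup.normalizer (D : Set G) := by
    rw [hD]; exact le_normalizer_commutator' hn₁.2 hn₂.2
  have hDO : ⁅Hc, D⁆ ≤ pCoreOf p Hc :=
    commutator_weakClosure_le hQp hQ1 hwc hHc hDHc hHcD (by rw [hD]; exact hcomm)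
  have hOn : (pCoreOf p Hc).Normal := by
    rw [← Subgroup.normalizer_eq_top_iff, eq_top_iff]
    have := normalizer_le_normalizer_pCoreOf (p := p) Hc
    rwa [Subgroup.normalizer_eq_top_iff.2 hHcn] at this
  have hnO : ∀ X : Subgroup G, X ≤ Subgroup.normalizer ((pCoreOf p Hc : Subgroup G) : Set G) := by
    intro X
    rw [Subgroup.normalizer_eq_top_iff.2 hOn]; exact le_top
  obtain ⟨A, hA⟩ : ∃ A, A = ⁅K₁, H₁⁆ := ⟨_, rfl⟩
  have hA_le : A ≤ K₁ := by rw [hA]; exact commutator_le_of_le_normalizer hH₁K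
  have hH₁A : H₁ ≤ Subgroup.normalizer (A : Set G) := by
    rw [hA]; exact le_normalizer_commutator' hH₁K Subgroup.le_normalizer
  have hQA : Q ≤ Subgroup.normalizer (A : Set G) := by
    rw [hA]; exact le_normalizer_commutator' hQK hQH₁
  -- step 1
  have hstep1 : K₁ ≤ A ⊔ D := by
    calc K₁ = ⁅K₁, Q⁆ := hKQ.symm
      _ ≤ A ⊔ D := by
        rw [Subgroup.commutator_le]
        intro k hk q hq
        have hq' : q ∈ H₁ ⊔ H₂ := by rw [hprod]; exact hQHc hq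
        obtain ⟨h₁, hh₁, h₂, hh₂, rfl⟩ :=
          Helper54.exists_mul_of_mem_sup_of_le_normalizer (hn₂.1.trans hn₁.2) hq'
        rw [commutatorElement_mul_right]
        apply mul_mem
        · apply (le_sup_left : A ≤ A ⊔ D)
          rw [hA]
          exact Subgroup.commutator_mem_commutator hk hh₁
        · apply (le_sup_right : D ≤ A ⊔ D)
          have h1 : ⁅k, h₂⁆ ∈ D := by
            rw [hD]; exact Subgroup.commutator_mem_commutator (hKA hk) hh₂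
          exact (Subgroup.mem_normalizer_iff.1 (hHcD (hn₁.1 hh₁)) _).1 h1
  -- step 2
  have hstep2 : K₁ ≤ A ⊔ pCoreOf p Hc := by
    calc K₁ = ⁅K₁, Q⁆ := hKQ.symm
      _ ≤ ⁅A ⊔ D, Q⁆ := Subgroup.commutator_mono hstep1 le_rfl
      _ = ⁅Q, A ⊔ D⁆ := Subgroup.commutator_comm _ _
      _ ≤ A ⊔ pCoreOf p Hc := by
        apply Helper54.commutator_sup_le
        · exact le_normalizer_sup' Subgroup.le_normalizer (hnO A)
        · exact le_normalizer_sup' (hDH₁.trans hH₁A) (hnO D)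
        · rw [Subgroup.commutator_comm]
          exact (commutator_le_of_le_normalizer hQA).trans le_sup_left
        · exact ((Subgroup.commutator_mono hQHc le_rfl).trans hDO).trans le_sup_right
  -- step 3
  have hstep3 : K₁ ≤ A := by
    have h1 : K₁ ≤ A ⊔ (K₁ ⊓ pCoreOf p Hc) := by
      intro x hx
      have hx2 : x ∈ pCoreOf p Hc ⊔ A := by rw [sup_comm]; exact hstep2 hx
      obtain ⟨o, ho, a, ha, rfl⟩ :=
        Helper54.exists_mul_of_mem_sup_of_le_normalizer (hnO A) hx2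
      have ho' : o ∈ K₁ := by
        have : o = (o * a) * a⁻¹ := by group
        rw [this]
        exact K₁.mul_mem hx (K₁.inv_mem (hA_le ha))
      exact mul_mem ((le_sup_right : K₁ ⊓ pCoreOf p Hc ≤ A ⊔ (K₁ ⊓ pCoreOf p Hc)) ⟨ho', ho⟩)
        ((le_sup_left : A ≤ A ⊔ (K₁ ⊓ pCoreOf p Hc)) ha)
    have e : K₁ = A ⊔ (K₁ ⊓ pCoreOf p Hc) := le_antisymm h1 (sup_le hA_le inf_le_left)
    have h2 := pResOf_le_of_sup (p := p) e ((inf_le_left.trans hKA).trans hH₁A)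
      ((isPGroup_pCoreOf Hc).to_le inf_le_right)
    rwa [hKK] at h2
  have hKA_eq : ⁅K₁, H₁⁆ = K₁ := by
    rw [← hA]; exact le_antisymm hA_le hstep3
  -- `[K₁, H₂] ≤ O`
  have hK₁H₂ : ⁅K₁, H₂⁆ ≤ pCoreOf p Hc := by
    have h1 : ⁅⁅H₁, H₂⁆, K₁⁆ ≤ pCoreOf p Hc := by
      rw [← hD, Subgroup.commutator_comm]
      exact (Subgroup.commutator_mono hKHc le_rfl).trans hDO
    have h2 : ⁅⁅H₂, K₁⁆, H₁⁆ ≤ pCoreOf p Hc := by
      have h3 : ⁅H₂, K₁⁆ ≤ D := by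
        rw [hD, Subgroup.commutator_comm]
        exact Subgroup.commutator_mono hKA le_rfl
      calc ⁅⁅H₂, K₁⁆, H₁⁆ ≤ ⁅D, H₁⁆ := Subgroup.commutator_mono h3 le_rfl
        _ = ⁅H₁, D⁆ := Subgroup.commutator_comm _ _
        _ ≤ ⁅Hc, D⁆ := Subgroup.commutator_mono hn₁.1 le_rfl
        _ ≤ pCoreOf p Hc := hDO
    have h4 := three_subgroups_mod (pCoreOf p Hc) h1 h2
    rwa [hKA_eq] at h4
  -- `H₂` normalizes `K₁`
  have hH₂K : H₂ ≤ Subgroup.normalizer (K₁ : Set G) := by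
    apply le_normalizer_of_cj_le
    intro h hh
    have h1 : cj h K₁ ≤ K₁ ⊔ (pCoreOf p Hc ⊓ H₁) := by
      rintro _ ⟨k, hk, rfl⟩
      simp only [MulEquiv.coe_toMonoidHom, MulAut.conj_apply]
      have e : h * k * h⁻¹ = ⁅h, k⁆ * k := by rw [commutatorElement_def]; group
      rw [e]
      have hc1 : ⁅h, k⁆ ∈ pCoreOf p Hc := by
        apply hK₁H₂
        rw [Subgroup.commutator_comm]
        exact Subgroup.commutator_mem_commutator hh hk
      have hc2 : ⁅h, k⁆ ∈ H₁ := by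
        rw [commutatorElement_def]
        have : h * k * h⁻¹ ∈ H₁ :=
          (Subgroup.mem_normalizer_iff.1 (hn₁.2 (hn₂.1 hh)) k).1 (hKA hk)
        exact H₁.mul_mem this (H₁.inv_mem (hKA hk))
      exact mul_mem ((le_sup_right : pCoreOf p Hc ⊓ H₁ ≤ K₁ ⊔ (pCoreOf p Hc ⊓ H₁)) ⟨hc1, hc2⟩)
        ((le_sup_left : K₁ ≤ K₁ ⊔ (pCoreOf p Hc ⊓ H₁)) hk)
    have h2 : pResOf p (K₁ ⊔ (pCoreOf p Hc ⊓ H₁)) ≤ K₁ :=
      pResOf_le_of_sup rfl (inf_le_right.trans hH₁K) ((isPGroup_pCoreOf Hc).to_le inf_le_left)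
    calc cj h K₁ = cj h (pResOf p K₁) := by rw [hKK]
      _ = pResOf p (cj h K₁) := cj_pResOf p K₁ h
      _ ≤ pResOf p (K₁ ⊔ (pCoreOf p Hc ⊓ H₁)) := pResOf_mono p h1
      _ ≤ K₁ := h2
  have hHcK : Hc ≤ Subgroup.normalizer (K₁ : Set G) := by
    rw [← hprod]; exact sup_le hH₁K hH₂K
  refine ⟨hKQ, hKA_eq, ?_, hHcK, hK₁H₂, fun a ha => hconj a ((le_sup_left : H₁ ≤ H₁ ⊔ Q) ha), hKA⟩
  calc K₁ = ⁅K₁, H₁⁆ := hKA_eq.symm
    _ ≤ ⁅H₁, H₁⁆ := Subgroup.commutator_mono hKA le_rfl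

/-- the product lemma for weak closures (final assembly) -/
theorem weakProd_main {Q Hc H₁ H₂ K₁ K₂ : Subgroup G} (hQp : IsPGroup p Q) (hQ1 : Q ≠ ⊥)
    (hwc : IsWeaklyClosedSubgroup p Q) (hHc : Hc = weakClosure Q ⊤)
    (hn₁ : H₁ ≤ Hc ∧ Hc ≤ Subgroup.normalizer (H₁ : Set G))
    (hn₂ : H₂ ≤ Hc ∧ Hc ≤ Subgroup.normalizer (H₂ : Set G))
    (hprod : H₁ ⊔ H₂ = Hc) (hcomm : ⁅H₁, H₂⁆ ≤ Subgroup.normalizer (Q : Set G))
    (hK₁ : K₁ = pResOf p (weakClosure Q (H₁ ⊔ Q)))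
    (hK₂ : K₂ = pResOf p (weakClosure Q (H₂ ⊔ Q))) :
    (⁅K₁, Q⁆ = K₁ ∧ ⁅K₁, H₁⁆ = K₁ ∧ K₁ ≤ ⁅H₁, H₁⁆ ∧ Hc ≤ Subgroup.normalizer (K₁ : Set G)) ∧
    (⁅K₂, Q⁆ = K₂ ∧ ⁅K₂, H₂⁆ = K₂ ∧ K₂ ≤ ⁅H₂, H₂⁆ ∧ Hc ≤ Subgroup.normalizer (K₂ : Set G)) ∧
    K₁ ⊔ K₂ = pResOf p Hc ∧ ⁅K₁, K₂⁆ ≤ pCoreOf p Hc := by
  obtain ⟨hQHc, hHcn, hgen, hind⟩ := weakClosure_top_props hQp hQ1 hwc hHc
  have hprod' : H₂ ⊔ H₁ = Hc := by rw [sup_comm]; exact hprod
  have hcomm' : ⁅H₂, H₁⁆ ≤ Subgroup.normalizer (Q : Set G) := by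
    rw [Subgroup.commutator_comm]; exact hcomm
  obtain ⟨a1, a2, a3, a4, a5, a6, a7⟩ := weakProd_half hQp hQ1 hwc hHc hn₁ hn₂ hprod hcomm hK₁
  obtain ⟨b1, b2, b3, b4, b5, b6, b7⟩ := weakProd_half hQp hQ1 hwc hHc hn₂ hn₁ hprod' hcomm' hK₂
  refine ⟨⟨a1, a2, a3, a4⟩, ⟨b1, b2, b3, b4⟩, ?_, ?_⟩
  · apply le_antisymm
    · apply sup_le
      · have h1 : K₁ ≤ pResOf p K₁ := by
          rw [hK₁, pResOf_pResOf]
        exact h1.trans (pResOf_mono p (a7.trans hn₁.1))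
      · have h1 : K₂ ≤ pResOf p K₂ := by
          rw [hK₂, pResOf_pResOf]
        exact h1.trans (pResOf_mono p (b7.trans hn₂.1))
    · have hQK : Q ≤ Subgroup.normalizer ((K₁ ⊔ K₂ : Subgroup G) : Set G) :=
        le_normalizer_sup' (hQHc.trans a4) (hQHc.trans b4)
      have hle : Hc ≤ (K₁ ⊔ K₂) ⊔ Q := by
        apply hind
        intro k hk
        have hk' : k ∈ H₁ ⊔ H₂ := by rw [hprod]; exact hk
        obtain ⟨h₁, hh₁, h₂, hh₂, rfl⟩ :=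
          Helper54.exists_mul_of_mem_sup_of_le_normalizer (hn₂.1.trans hn₁.2) hk'
        rw [cj_mul]
        have e1 : cj h₁ (K₂ ⊔ Q) = K₂ ⊔ cj h₁ Q := by
          have : cj h₁ (K₂ ⊔ Q) = cj h₁ K₂ ⊔ cj h₁ Q := Subgroup.map_sup _ _ _
          rw [this, cj_eq_self_iff.mpr (b4 (hn₁.1 hh₁))]
        calc cj h₁ (cj h₂ Q) ≤ cj h₁ (K₂ ⊔ Q) := cj_mono (b6 h₂ hh₂)
          _ = K₂ ⊔ cj h₁ Q := e1
          _ ≤ K₂ ⊔ (K₁ ⊔ Q) := sup_le_sup_left (a6 h₁ hh₁) _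
          _ ≤ (K₁ ⊔ K₂) ⊔ Q := by
            apply sup_le (le_sup_right.trans le_sup_left)
            exact sup_le (le_sup_left.trans le_sup_left) le_sup_right
      exact (pResOf_mono p hle).trans (pResOf_le_of_sup rfl hQK hQp)
  · exact (Subgroup.commutator_mono le_rfl b7).trans a5

end weak

end Cfsg.Agent.Lib.Helper55
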